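import Cfsg.Agent.H527.C3.Twist_m3
import Cfsg.Agent.LieClassical.OrthTrans
import Mathlib.FieldTheory.Finite.Basic
import Mathlib
import Mathlib.LinearAlgebra.Matrix.Determinant.Basic
import Cfsg.Agent.Lib.PermDec
import Cfsg.Agent.Lib.Refl
import Cfsg.Agent.H754.Co3.SLTwo
import Cfsg.Prelude.Def_Classical
import Cfsg.Agent.H736.Co3.Sp
import Cfsg.Agent.H129.Tor
import Cfsg.Agent.Nodes.RGDOrth
import Cfsg.Prelude.Def_Classification2
import Cfsg.Agent.FastGrp
import Cfsg.Agent.Prune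
set_option linter.all false

section
prune_inst 0x7fb0a9fb89f8a1dfdfff7e7fa6decffdfdb93fffa6dff9cbffe069ff0b9f4b0209456b8d0bea10fc0eb6c21410f87b13f9fffeffe06bfc7ffffd5ff41ffbffcfedf7350851948c340f300ff703f0778e7f3fffffffffffffffffffffffffffbeffbfffffffff

-- part: H415/C3/LKitOne_mg
section
prune_inst 0x4d560474044e200000000001000000004480005000000000008000e0403088e2a0902284000a02104128208000000006000100030400000000a000000000000000800100421000108c00080000080000000000000000000000000000000000000000000000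
set_option linter.all false
open scoped Cfsg.Agent.FastGrp

-- part: H415/C3/LKitOne
section
/-!
# S1920, case B: the lifted kit, kills (helper415)

`(T : Kit …) (L : Lin Gh π) (l : LKit …)`:
* `LKit.mem_A`, `LKit.T1`, `LKit.T3`, `LKit.T4E`;
* `halfHom u` : for an involution `u`, the homomorphism `g ↦ (g on ker (u - 1), 1 on ker (u + 1))` on `C(u)`.
-/

set_option autoImplicit false

open Subgroup
open scoped commutatorElement

namespace Cfsg.Agent.H415.C3

variable {G : Type*} [Group G] {K : Type*} [Field K] {V : Type*} [AddCommGroup V] [Module K V]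

namespace LKit

variable {Gh : Subgroup (V ≃ₗ[K] V)} {π : ↥Gh →* G} {N0 A E : Subgroup G} {z s x r : G}
  {ψ : ↥A →* Equiv.Perm (Fin 6)} {Nh Eh : Subgroup (V ≃ₗ[K] V)} {zh sh xh rh : V ≃ₗ[K] V}

theorem Nh_le (l : LKit Gh π N0 A E z s x r Nh Eh zh sh xh rh) : Nh ≤ Gh := fun g hg => ((l.mem_Nh g).1 hg).1

theorem exists_Nh (L : Lin Gh π) (l : LKit Gh π N0 A E z s x r Nh Eh zh sh xh rh) {n : G} (hn : n ∈ N0) :
    ∃ m : ↥Gh, (m : V ≃ₗ[K] V) ∈ Nh ∧ π m = n := by
  obtain ⟨m, hm⟩ := L.surj n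
  exact ⟨m, (l.mem_Nh _).2 ⟨m.2, by rw [← hm] at hn; exact hn⟩, hm⟩

theorem zG (l : LKit Gh π N0 A E z s x r Nh Eh zh sh xh rh) : zh ∈ Gh := l.Nh_le l.zN

theorem sG (l : LKit Gh π N0 A E z s x r Nh Eh zh sh xh rh) : sh ∈ Gh := l.Nh_le l.sN

/-- elements commuting with `Nh` up to scalars map into `C_G(N0)` -/
theorem mem_C (L : Lin Gh π) (l : LKit Gh π N0 A E z s x r Nh Eh zh sh xh rh) {g : V ≃ₗ[K] V} (hg : g ∈ Gh)
    (h : ∀ n ∈ Nh, ∃ c : K, ∀ v, (g * n) v = c • (n * g) v) : ∀ n ∈ N0, π ⟨g, hg⟩ * n = n * π ⟨g, hg⟩ := by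
  intro n hn
  obtain ⟨m, hm, rfl⟩ := l.exists_Nh L hn
  obtain ⟨c, hc⟩ := h _ hm
  rw [← map_mul, ← map_mul]
  exact L.eq_of_smul (g := (⟨g, hg⟩ * m :)) (h := (m * ⟨g, hg⟩ :)) hc

/-- **Membership in `A`.** -/
theorem mem_A (T : Kit N0 A E z s x r ψ) (L : Lin Gh π) (l : LKit Gh π N0 A E z s x r Nh Eh zh sh xh rh)
    {g : V ≃ₗ[K] V} (hg : g ∈ Gh) (h : ∀ n ∈ Nh, ∃ c : K, (∀ v, (g * n) v = c • (n * g) v) ∨
      (∀ v, (g * n) v = c • (zh * n * g) v)) : π ⟨g, hg⟩ ∈ A := by
  rw [T.mem_A]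
  intro n hn
  obtain ⟨m, hm, rfl⟩ := l.exists_Nh L hn
  obtain ⟨c, hc | hc⟩ := h _ hm
  · left
    rw [← map_mul, ← map_mul]
    exact L.eq_of_smul (g := (⟨g, hg⟩ * m :)) (h := (m * ⟨g, hg⟩ :)) hc
  · right
    have h1 := L.eq_of_smul (g := (⟨g, hg⟩ * m :)) (h := (⟨zh, l.zG⟩ * m * ⟨g, hg⟩ :)) hc
    rw [map_mul, map_mul, map_mul, l.pi_z, mul_assoc] at h1
    exact h1

/-- elements commuting with `Eh` up to scalars -/
theorem mem_E (L : Lin Gh π) (l : LKit Gh π N0 A E z s x r Nh Eh zh sh xh rh) {g : V ≃ₗ[K] V} (hg : g ∈ Gh)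
    (h : ∀ e ∈ Eh, ∃ c : K, ∀ v, (g * e) v = c • (e * g) v) : ∀ e ∈ E, π ⟨g, hg⟩ * e = e * π ⟨g, hg⟩ := by
  intro e he
  obtain ⟨e', he', hee⟩ := l.Eh_surj e he
  obtain ⟨c, hc⟩ := h _ he'
  rw [← hee (l.Eh_le he'), ← map_mul, ← map_mul]
  exact L.eq_of_smul (g := ⟨g, hg⟩ * ⟨e', l.Eh_le he'⟩) (h := ⟨e', l.Eh_le he'⟩ * ⟨g, hg⟩) hc

/-- **T1** -/
theorem T1 (T : Kit N0 A E z s x r ψ) (L : Lin Gh π) (l : LKit Gh π N0 A E z s x r Nh Eh zh sh xh rh)
    {g : V ≃ₗ[K] V} (hg : g ∈ Gh) (h : ∀ n ∈ Nh, ∃ c : K, (∀ v, (g * n) v = c • (n * g) v) ∨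
      (∀ v, (g * n) v = c • (zh * n * g) v))
    (hE : ∀ e ∈ Eh, ∃ c : K, ∀ v, (g * e) v = c • (e * g) v) : ∃ c : K, c ≠ 0 ∧ ∀ v, (g * sh) v = c • (sh * g) v := by
  have h1 := l.mem_A T L hg h
  have h2 := T.T1 h1 (l.mem_E L hg hE)
  refine L.smul_of_eq (g := ⟨g, hg⟩ * ⟨sh, l.sG⟩) (h := ⟨sh, l.sG⟩ * ⟨g, hg⟩) ?_
  rw [map_mul, map_mul, l.pi_s]
  exact h2

/-- `Eh` is not trivial -/
theorem Eh_ne (T : Kit N0 A E z s x r ψ) (l : LKit Gh π N0 A E z s x r Nh Eh zh sh xh rh) : Eh ≠ ⊥ := by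
  intro h
  have h1 : xh = 1 := by
    have := l.xE
    rwa [h] at this
  have h2 : x = 1 := by
    rw [← l.pi_x (by rw [h1]; exact one_mem _)]
    have : (⟨xh, by rw [h1]; exact one_mem _⟩ : ↥Gh) = 1 := Subtype.ext h1
    rw [this, map_one]
  have h3 := T.psi_x (by rw [h2]; exact one_mem _)
  have h4 : (⟨x, by rw [h2]; exact one_mem _⟩ : ↥A) = 1 := Subtype.ext h2
  rw [h4, map_one] at h3
  exact c5_ne h3.symm

end LKit

section Half

/-- `g` on `ker (u - 1)`, the identity on `ker (u + 1)`, as a linear map -/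
noncomputable def halfLin (u g : V ≃ₗ[K] V) : V →ₗ[K] V :=
  (2 : K)⁻¹ • ((g : V →ₗ[K] V) + (g : V →ₗ[K] V) ∘ₗ (u : V →ₗ[K] V)) + (2 : K)⁻¹ • (LinearMap.id - (u : V →ₗ[K] V))

theorem halfLin_apply (u g : V ≃ₗ[K] V) (v : V) :
    halfLin u g v = (2 : K)⁻¹ • (g v + g (u v)) + (2 : K)⁻¹ • (v - u v) := rfl

theorem halfLin_pos (h2 : (2 : K) ≠ 0) (u g : V ≃ₗ[K] V) {v : V} (hv : u v = v) : halfLin u g v = g v := by
  rw [halfLin_apply, hv, sub_self, smul_zero, add_zero, ← two_smul K, smul_smul, inv_mul_cancel₀ h2, one_smul]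

theorem halfLin_neg (h2 : (2 : K) ≠ 0) (u g : V ≃ₗ[K] V) {v : V} (hv : u v = -v) : halfLin u g v = v := by
  rw [halfLin_apply, hv, map_neg, add_neg_cancel, smul_zero, zero_add, sub_neg_eq_add, ← two_smul K, smul_smul,
    inv_mul_cancel₀ h2, one_smul]

/-- decomposition of a vector -/
theorem half_decomp (h2 : (2 : K) ≠ 0) {u : V ≃ₗ[K] V} (hu : u * u = 1) (v : V) :
    ∃ a b : V, v = a + b ∧ u a = a ∧ u b = -b := by
  have huu : ∀ v, u (u v) = v := fun v => by
    have := congrArg (fun w : V ≃ₗ[K] V => w v) hu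
    exact this
  refine ⟨(2 : K)⁻¹ • (v + u v), (2 : K)⁻¹ • (v - u v), ?_, ?_, ?_⟩
  · rw [← smul_add, show v + u v + (v - u v) = (2 : K) • v by rw [two_smul]; abel, smul_smul, inv_mul_cancel₀ h2,
      one_smul]
  · rw [map_smul, map_add, huu, add_comm]
  · rw [map_smul, map_sub, huu, ← smul_neg, neg_sub]

theorem halfLin_mul (h2 : (2 : K) ≠ 0) {u : V ≃ₗ[K] V} (hu : u * u = 1) {g h : V ≃ₗ[K] V} (hh : h * u = u * h) (v : V) :
    halfLin u g (halfLin u h v) = halfLin u (g * h) v := by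
  obtain ⟨a, b, rfl, ha, hb⟩ := half_decomp h2 hu v
  have h1 : u (h a) = h a := by
    have := congrArg (fun w : V ≃ₗ[K] V => w a) hh
    have h3 : h (u a) = u (h a) := this
    rw [← h3, ha]
  rw [map_add, map_add, map_add, halfLin_pos h2 u h ha, halfLin_neg h2 u h hb, halfLin_pos h2 u g h1,
    halfLin_neg h2 u g hb, halfLin_pos h2 u _ ha, halfLin_neg h2 u _ hb]
  rfl

theorem halfLin_one (h2 : (2 : K) ≠ 0) {u : V ≃ₗ[K] V} (hu : u * u = 1) (v : V) : halfLin u 1 v = v := by
  obtain ⟨a, b, rfl, ha, hb⟩ := half_decomp h2 hu v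
  rw [map_add, halfLin_pos h2 u 1 ha, halfLin_neg h2 u 1 hb]
  rfl

/-- **the homomorphism `g ↦ (g on ker (u - 1), 1 on ker (u + 1))`** on the centraliser of `u`. -/
noncomputable def halfHom (h2 : (2 : K) ≠ 0) {u : V ≃ₗ[K] V} (hu : u * u = 1) :
    ↥(centralizer ({u} : Set (V ≃ₗ[K] V))) →* (V ≃ₗ[K] V) where
  toFun g := LinearEquiv.ofLinear (halfLin u g) (halfLin u (g⁻¹ : ↥(centralizer ({u} : Set (V ≃ₗ[K] V)))))
    (LinearMap.ext fun v => by
      change halfLin u _ (halfLin u _ v) = v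
      rw [halfLin_mul h2 hu (mem_centralizer_singleton_iff.1 (g⁻¹).2), ← Subgroup.coe_mul, mul_inv_cancel,
        Subgroup.coe_one, halfLin_one h2 hu])
    (LinearMap.ext fun v => by
      change halfLin u _ (halfLin u _ v) = v
      rw [halfLin_mul h2 hu (mem_centralizer_singleton_iff.1 g.2), ← Subgroup.coe_mul, inv_mul_cancel,
        Subgroup.coe_one, halfLin_one h2 hu])
  map_one' := by
    ext v
    exact halfLin_one h2 hu v
  map_mul' g h := by
    ext v
    exact (halfLin_mul h2 hu (mem_centralizer_singleton_iff.1 h.2) v).symm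

theorem halfHom_pos (h2 : (2 : K) ≠ 0) {u : V ≃ₗ[K] V} (hu : u * u = 1)
    (g : ↥(centralizer ({u} : Set (V ≃ₗ[K] V)))) {v : V} (hv : u v = v) : halfHom h2 hu g v = (g : V ≃ₗ[K] V) v :=
  halfLin_pos h2 u g hv

theorem halfHom_neg (h2 : (2 : K) ≠ 0) {u : V ≃ₗ[K] V} (hu : u * u = 1)
    (g : ↥(centralizer ({u} : Set (V ≃ₗ[K] V)))) {v : V} (hv : u v = -v) : halfHom h2 hu g v = v :=
  halfLin_neg h2 u g hv

end Half

end Cfsg.Agent.H415.C3
end

-- part: H100/C3/ArfGeo
section
/-!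
# S1920, case B, orthogonal groups, section 5, Arf invariant 0: the linear algebra (helper100)

`AZ Q ε sh n1 n2 m1 m2` : isometries; on `V_ε = {v | sh v = ε • v}` the elements `n1, m1, n2, m2` form a hyperbolic basis.
`InM` : the space `M` of common fixed vectors of `n1`, `n2` in `V_ε`.
`exists_rho` : for `u ∈ M` nonsingular, `1 ⊗ refl u` lies in `E Q`.
-/

set_option autoImplicit false
set_option linter.unusedSectionVars false

namespace Cfsg.Agent.H100.C3

open QuadraticMap Cfsg.Agent.LieClassical.OrthCore Cfsg.Agent.LieClassical.OrthTrans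

variable {K V : Type*} [Field K] [AddCommGroup V] [Module K V] {Q : QuadraticForm K V}

structure AZ (Q : QuadraticForm K V) (ε : K) (sh n1 n2 m1 m2 : V ≃ₗ[K] V) : Prop where
  two : (2 : K) ≠ 0
  eps : ε * ε = 1
  sO : sh ∈ O Q
  n1O : n1 ∈ O Q
  n2O : n2 ∈ O Q
  m1O : m1 ∈ O Q
  m2O : m2 ∈ O Q
  s4 : ∀ v, sh (sh (sh (sh v))) = v
  sn1 : ∀ v, sh (n1 v) = n1 (sh v)
  sn2 : ∀ v, sh (n2 v) = n2 (sh v)
  sm1 : ∀ v, sh (m1 v) = m1 (sh v)
  sm2 : ∀ v, sh (m2 v) = m2 (sh v)
  n11 : ∀ v, sh v = ε • v → n1 (n1 v) = v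
  n22 : ∀ v, sh v = ε • v → n2 (n2 v) = v
  m11 : ∀ v, sh v = ε • v → m1 (m1 v) = v
  m22 : ∀ v, sh v = ε • v → m2 (m2 v) = v
  nn : ∀ v, sh v = ε • v → n1 (n2 v) = n2 (n1 v)
  mm : ∀ v, sh v = ε • v → m1 (m2 v) = m2 (m1 v)
  nm12 : ∀ v, sh v = ε • v → n1 (m2 v) = m2 (n1 v)
  nm21 : ∀ v, sh v = ε • v → n2 (m1 v) = m1 (n2 v)
  nm11 : ∀ v, sh v = ε • v → n1 (m1 v) = - m1 (n1 v)
  nm22 : ∀ v, sh v = ε • v → n2 (m2 v) = - m2 (n2 v)

/-- the vectors of `M` -/
def InM (ε : K) (sh n1 n2 : V ≃ₗ[K] V) (v : V) : Prop := sh v = ε • v ∧ n1 v = v ∧ n2 v = v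

/-- the space `M` -/
def MM (ε : K) (sh n1 n2 : V ≃ₗ[K] V) : Submodule K V where
  carrier := {v | InM ε sh n1 n2 v}
  add_mem' := fun {a b} ha hb => ⟨by rw [map_add, ha.1, hb.1, smul_add], by rw [map_add, ha.2.1, hb.2.1],
    by rw [map_add, ha.2.2, hb.2.2]⟩
  zero_mem' := ⟨by rw [map_zero, smul_zero], map_zero _, map_zero _⟩
  smul_mem' := fun c v hv => ⟨by rw [map_smul, hv.1, smul_comm], by rw [map_smul, hv.2.1], by rw [map_smul, hv.2.2]⟩

theorem perp (h2 : (2 : K) ≠ 0) {g : V ≃ₗ[K] V} (hg : g ∈ O Q) {u v : V} (hu : g u = u) (hv : g v = -v) :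
    polar Q u v = 0 := by
  have h := polar_map hg u v
  rw [hu, hv, polar_neg_right] at h
  have h3 : (2 : K) * polar Q u v = 0 := by linear_combination -h
  exact (mul_eq_zero.1 h3).resolve_left h2

theorem perp' (h2 : (2 : K) ≠ 0) {g : V ≃ₗ[K] V} (hg : g ∈ O Q) {u v : V} (hu : g u = -u) (hv : g v = v) :
    polar Q u v = 0 := by
  rw [polar_comm]; exact perp h2 hg hv hu

namespace AZ

variable {ε : K} {sh n1 n2 m1 m2 : V ≃ₗ[K] V}

theorem e1 (h : AZ Q ε sh n1 n2 m1 m2) {u : V} (hu : InM ε sh n1 n2 u) : sh (m1 u) = ε • m1 u := by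
  rw [h.sm1, hu.1, map_smul]

theorem e2 (h : AZ Q ε sh n1 n2 m1 m2) {u : V} (hu : InM ε sh n1 n2 u) : sh (m2 u) = ε • m2 u := by
  rw [h.sm2, hu.1, map_smul]

theorem e3 (h : AZ Q ε sh n1 n2 m1 m2) {u : V} (hu : InM ε sh n1 n2 u) : sh (m1 (m2 u)) = ε • m1 (m2 u) := by
  rw [h.sm1, h.e2 hu, map_smul]

theorem a11 (h : AZ Q ε sh n1 n2 m1 m2) {u : V} (hu : InM ε sh n1 n2 u) : n1 (m1 u) = - m1 u := by
  rw [h.nm11 u hu.1, hu.2.1]

theorem a21 (h : AZ Q ε sh n1 n2 m1 m2) {u : V} (hu : InM ε sh n1 n2 u) : n2 (m1 u) = m1 u := by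
  rw [h.nm21 u hu.1, hu.2.2]

theorem a12 (h : AZ Q ε sh n1 n2 m1 m2) {u : V} (hu : InM ε sh n1 n2 u) : n1 (m2 u) = m2 u := by
  rw [h.nm12 u hu.1, hu.2.1]

theorem a22 (h : AZ Q ε sh n1 n2 m1 m2) {u : V} (hu : InM ε sh n1 n2 u) : n2 (m2 u) = - m2 u := by
  rw [h.nm22 u hu.1, hu.2.2]

theorem a13 (h : AZ Q ε sh n1 n2 m1 m2) {u : V} (hu : InM ε sh n1 n2 u) : n1 (m1 (m2 u)) = - m1 (m2 u) := by
  rw [h.nm11 _ (h.e2 hu), h.a12 hu]

theorem a23 (h : AZ Q ε sh n1 n2 m1 m2) {u : V} (hu : InM ε sh n1 n2 u) : n2 (m1 (m2 u)) = - m1 (m2 u) := by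
  rw [h.nm21 _ (h.e2 hu), h.a22 hu, map_neg]

section perps

variable (h : AZ Q ε sh n1 n2 m1 m2) {u v : V} (hu : InM ε sh n1 n2 u) (hv : InM ε sh n1 n2 v)
include h hu hv

theorem p01 : polar Q u (m1 v) = 0 := perp h.two h.n1O hu.2.1 (h.a11 hv)
theorem p02 : polar Q u (m2 v) = 0 := perp h.two h.n2O hu.2.2 (h.a22 hv)
theorem p03 : polar Q u (m1 (m2 v)) = 0 := perp h.two h.n1O hu.2.1 (h.a13 hv)
theorem p12 : polar Q (m1 u) (m2 v) = 0 := perp' h.two h.n1O (h.a11 hu) (h.a12 hv)
theorem p13 : polar Q (m1 u) (m1 (m2 v)) = 0 := perp h.two h.n2O (h.a21 hu) (h.a23 hv)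
theorem p23 : polar Q (m2 u) (m1 (m2 v)) = 0 := perp h.two h.n1O (h.a12 hu) (h.a13 hv)
theorem p10 : polar Q (m1 u) v = 0 := by rw [polar_comm]; exact h.p01 hv hu
theorem p20 : polar Q (m2 u) v = 0 := by rw [polar_comm]; exact h.p02 hv hu
theorem p30 : polar Q (m1 (m2 u)) v = 0 := by rw [polar_comm]; exact h.p03 hv hu
theorem p21 : polar Q (m2 u) (m1 v) = 0 := by rw [polar_comm]; exact h.p12 hv hu
theorem p31 : polar Q (m1 (m2 u)) (m1 v) = 0 := by rw [polar_comm]; exact h.p13 hv hu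
theorem p32 : polar Q (m1 (m2 u)) (m2 v) = 0 := by rw [polar_comm]; exact h.p23 hv hu
theorem p11 : polar Q (m1 u) (m1 v) = polar Q u v := polar_map h.m1O u v
theorem p22 : polar Q (m2 u) (m2 v) = polar Q u v := polar_map h.m2O u v
theorem p33 : polar Q (m1 (m2 u)) (m1 (m2 v)) = polar Q u v := by
  rw [polar_map h.m1O, polar_map h.m2O]

end perps

/-- the map `1 ⊗ refl u` -/
def rf (Q : QuadraticForm K V) (m1 m2 : V ≃ₗ[K] V) (u v : V) : V :=
  v - ((Q u)⁻¹ * polar Q u v) • u - ((Q u)⁻¹ * polar Q (m1 u) v) • m1 u - ((Q u)⁻¹ * polar Q (m2 u) v) • m2 u -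
    ((Q u)⁻¹ * polar Q (m1 (m2 u)) v) • m1 (m2 u)

theorem exists_rho (h : AZ Q ε sh n1 n2 m1 m2) (hG : Good Q) {u : V} (hu : InM ε sh n1 n2 u) (hQ : Q u ≠ 0) :
    ∃ ρ ∈ E Q, ∀ v, ρ v = rf Q m1 m2 u v := by
  have q1 : Q (m1 u) = Q u := mem_O.1 h.m1O u
  have q2 : Q (m2 u) = Q u := mem_O.1 h.m2O u
  have q3 : Q (m1 (m2 u)) = Q u := by rw [mem_O.1 h.m1O, q2]
  have h1 : Q (m1 u) ≠ 0 := by rwa [q1]
  have h2 : Q (m2 u) ≠ 0 := by rwa [q2]
  have h3 : Q (m1 (m2 u)) ≠ 0 := by rwa [q3]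
  refine ⟨(refl Q u hQ * refl Q (m1 u) h1) * (refl Q (m2 u) h2 * refl Q (m1 (m2 u)) h3),
    mul_mem (hG.refl_mul_refl_mem h1 hQ q1) (hG.refl_mul_refl_mem h3 h2 (by rw [q3, q2])), fun v => ?_⟩
  change refl Q u hQ (refl Q (m1 u) h1 (refl Q (m2 u) h2 (refl Q (m1 (m2 u)) h3 v))) = _
  simp only [refl_apply, polar_sub_right, polar_smul_right, h.p01 hu hu, h.p02 hu hu, h.p03 hu hu, h.p12 hu hu,
    h.p13 hu hu, h.p23 hu hu, q1, q2, q3, smul_zero, sub_zero, rf]
  abel

section rf

variable (h : AZ Q ε sh n1 n2 m1 m2) {u : V} (hu : InM ε sh n1 n2 u)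
include h hu

theorem rf_of_perp {v : V} (h0 : polar Q u v = 0) (h1 : polar Q (m1 u) v = 0) (h2 : polar Q (m2 u) v = 0)
    (h3 : polar Q (m1 (m2 u)) v = 0) : rf Q m1 m2 u v = v := by
  rw [rf, h0, h1, h2, h3]
  simp

theorem rf_M {v : V} (hv : InM ε sh n1 n2 v) : rf Q m1 m2 u v = v - ((Q u)⁻¹ * polar Q u v) • u := by
  rw [rf, h.p10 hu hv, h.p20 hu hv, h.p30 hu hv]
  simp

theorem rf_n1 (v : V) : rf Q m1 m2 u (n1 v) = n1 (rf Q m1 m2 u v) := by
  have h0 : polar Q u (n1 v) = polar Q u v := by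
    have := polar_map h.n1O u v
    rwa [hu.2.1] at this
  have h1 : polar Q (m1 u) (n1 v) = - polar Q (m1 u) v := by
    have := polar_map h.n1O (m1 u) v
    rw [h.a11 hu, polar_neg_left] at this
    linear_combination -this
  have h2 : polar Q (m2 u) (n1 v) = polar Q (m2 u) v := by
    have := polar_map h.n1O (m2 u) v
    rwa [h.a12 hu] at this
  have h3 : polar Q (m1 (m2 u)) (n1 v) = - polar Q (m1 (m2 u)) v := by
    have := polar_map h.n1O (m1 (m2 u)) v
    rw [h.a13 hu, polar_neg_left] at this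
    linear_combination -this
  simp only [rf, h0, h1, h2, h3, map_sub, map_smul, hu.2.1, h.a11 hu, h.a12 hu, h.a13 hu]
  module

theorem rf_n2 (v : V) : rf Q m1 m2 u (n2 v) = n2 (rf Q m1 m2 u v) := by
  have h0 : polar Q u (n2 v) = polar Q u v := by
    have := polar_map h.n2O u v
    rwa [hu.2.2] at this
  have h1 : polar Q (m1 u) (n2 v) = polar Q (m1 u) v := by
    have := polar_map h.n2O (m1 u) v
    rwa [h.a21 hu] at this
  have h2 : polar Q (m2 u) (n2 v) = - polar Q (m2 u) v := by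
    have := polar_map h.n2O (m2 u) v
    rw [h.a22 hu, polar_neg_left] at this
    linear_combination -this
  have h3 : polar Q (m1 (m2 u)) (n2 v) = - polar Q (m1 (m2 u)) v := by
    have := polar_map h.n2O (m1 (m2 u)) v
    rw [h.a23 hu, polar_neg_left] at this
    linear_combination -this
  simp only [rf, h0, h1, h2, h3, map_sub, map_smul, hu.2.2, h.a21 hu, h.a22 hu, h.a23 hu]
  module

theorem rf_m1 (v : V) : rf Q m1 m2 u (m1 v) = m1 (rf Q m1 m2 u v) := by
  have hm : ∀ w, sh w = ε • w → polar Q w (m1 v) = polar Q (m1 w) v := by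
    intro w hw
    have := polar_map h.m1O (m1 w) v
    rw [h.m11 w hw] at this
    exact this
  have h0 := hm u hu.1
  have h1 := hm (m1 u) (h.e1 hu)
  have h2 := hm (m2 u) (h.e2 hu)
  have h3 := hm (m1 (m2 u)) (h.e3 hu)
  rw [h.m11 u hu.1] at h1
  rw [h.m11 _ (h.e2 hu)] at h3
  simp only [rf, h0, h1, h2, h3, map_sub, map_smul, h.m11 u hu.1, h.m11 _ (h.e2 hu)]
  abel

theorem rf_m2 (v : V) : rf Q m1 m2 u (m2 v) = m2 (rf Q m1 m2 u v) := by
  have hm : ∀ w, sh w = ε • w → polar Q w (m2 v) = polar Q (m2 w) v := by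
    intro w hw
    have := polar_map h.m2O (m2 w) v
    rw [h.m22 w hw] at this
    exact this
  have e21 : m2 (m1 u) = m1 (m2 u) := (h.mm u hu.1).symm
  have e23 : m2 (m1 (m2 u)) = m1 u := by rw [← h.mm _ (h.e2 hu), h.m22 u hu.1]
  have h0 := hm u hu.1
  have h1 := hm (m1 u) (h.e1 hu)
  have h2 := hm (m2 u) (h.e2 hu)
  have h3 := hm (m1 (m2 u)) (h.e3 hu)
  rw [e21] at h1
  rw [h.m22 u hu.1] at h2
  rw [e23] at h3
  simp only [rf, h0, h1, h2, h3, map_sub, map_smul, h.m22 u hu.1, e21, e23]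
  abel

theorem rf_sh (v : V) : rf Q m1 m2 u (sh v) = sh (rf Q m1 m2 u v) := by
  have he : ε ≠ 0 := fun h0 => by have := h.eps; rw [h0, zero_mul] at this; exact zero_ne_one this
  have hm : ∀ w, sh w = ε • w → polar Q w (sh v) = ε * polar Q w v := by
    intro w hw
    have := polar_map h.sO w v
    rw [hw, polar_smul_left, smul_eq_mul] at this
    have h5 := h.eps
    linear_combination (ε) * this - (polar Q w (sh v)) * h5
  have h0 := hm u hu.1
  have h1 := hm (m1 u) (h.e1 hu)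
  have h2 := hm (m2 u) (h.e2 hu)
  have h3 := hm (m1 (m2 u)) (h.e3 hu)
  simp only [rf, h0, h1, h2, h3, map_sub, map_smul, hu.1, h.e1 hu, h.e2 hu, h.e3 hu]
  module

theorem rf_rf (hQ : Q u ≠ 0) (v : V) : rf Q m1 m2 u (rf Q m1 m2 u v) = v := by
  have q0 : polar Q u u = 2 * Q u := polar_self' _
  have q1 : polar Q (m1 u) (m1 u) = 2 * Q u := by rw [h.p11 hu hu, q0]
  have q2 : polar Q (m2 u) (m2 u) = 2 * Q u := by rw [h.p22 hu hu, q0]
  have q3 : polar Q (m1 (m2 u)) (m1 (m2 u)) = 2 * Q u := by rw [h.p33 hu hu, q0]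
  have k0 : polar Q u (rf Q m1 m2 u v) = - polar Q u v := by
    simp only [rf, polar_sub_right, polar_smul_right, q0, h.p01 hu hu, h.p02 hu hu, h.p03 hu hu, smul_eq_mul]
    field_simp
    ring
  have k1 : polar Q (m1 u) (rf Q m1 m2 u v) = - polar Q (m1 u) v := by
    simp only [rf, polar_sub_right, polar_smul_right, q1, h.p10 hu hu, h.p12 hu hu, h.p13 hu hu, smul_eq_mul]
    field_simp
    ring
  have k2 : polar Q (m2 u) (rf Q m1 m2 u v) = - polar Q (m2 u) v := by
    simp only [rf, polar_sub_right, polar_smul_right, q2, h.p20 hu hu, h.p21 hu hu, h.p23 hu hu, smul_eq_mul]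
    field_simp
    ring
  have k3 : polar Q (m1 (m2 u)) (rf Q m1 m2 u v) = - polar Q (m1 (m2 u)) v := by
    simp only [rf, polar_sub_right, polar_smul_right, q3, h.p30 hu hu, h.p31 hu hu, h.p32 hu hu, smul_eq_mul]
    field_simp
    ring
  rw [rf, k0, k1, k2, k3, rf]
  module

theorem rf_comm {u' : V} (hu' : InM ε sh n1 n2 u') (h0 : polar Q u u' = 0) (v : V) :
    rf Q m1 m2 u (rf Q m1 m2 u' v) = rf Q m1 m2 u' (rf Q m1 m2 u v) := by
  have h0' : polar Q u' u = 0 := by rw [polar_comm, h0]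
  simp only [rf, polar_sub_right, polar_smul_right, h0, h0', h.p01 hu hu', h.p02 hu hu', h.p03 hu hu', h.p10 hu hu',
    h.p12 hu hu', h.p13 hu hu', h.p20 hu hu', h.p21 hu hu', h.p23 hu hu', h.p30 hu hu', h.p31 hu hu', h.p32 hu hu',
    h.p01 hu' hu, h.p02 hu' hu, h.p03 hu' hu, h.p10 hu' hu,
    h.p12 hu' hu, h.p13 hu' hu, h.p20 hu' hu, h.p21 hu' hu, h.p23 hu' hu, h.p30 hu' hu, h.p31 hu' hu, h.p32 hu' hu,
    h.p11 hu hu', h.p22 hu hu', h.p33 hu hu', h.p11 hu' hu, h.p22 hu' hu, h.p33 hu' hu,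
    smul_zero, sub_zero]
  abel

end rf

end AZ

end Cfsg.Agent.H100.C3
end

-- part: H100/C3/ArfKit
section
/-!
# S1920, case B, orthogonal groups, section 5: group theory (helper100)

* `T5v` : no elementary abelian group of order 8 in `C_G(N0)` meeting `⟨s⟩` trivially;
* `N0_gen` : `N0` is generated by `s` and a hyperbolic basis;
* `T6l` : a map `Gh ⊇ preimage of C_G(N0) → {±1}`, multiplicative, trivial on scalars and on `sh`, is trivial.
-/

set_option autoImplicit false
set_option linter.unusedSectionVars false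

open Subgroup Equiv.Perm
open scoped commutatorElement

namespace Cfsg.Agent.H100.C3

open Cfsg.Agent.H415.C3

section group

variable {G : Type*} [Group G]
variable {N0 A E : Subgroup G} {z s x r : G} {ψ : ↥A →* Equiv.Perm (Fin 6)}

theorem pow_mod {H : Type*} [Group H] {a : H} (ha : a ^ 2 = 1) (i : ℕ) : a ^ i = a ^ (i % 2) := by
  conv_lhs => rw [← Nat.div_add_mod i 2, pow_add, pow_mul, ha, one_pow, one_mul]

theorem no_three (σ τ υ : alternatingGroup (Fin 6)) (hστ : Commute σ τ) (hσυ : Commute σ υ) (hτυ : Commute τ υ)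
    (hσ : σ ^ 2 = 1) (hτ : τ ^ 2 = 1) (hυ : υ ^ 2 = 1)
    (h : ∀ i j k : ℕ, σ ^ i * τ ^ j * υ ^ k = 1 → 2 ∣ i ∧ 2 ∣ j ∧ 2 ∣ k) : False := by
  have hmul : ∀ i j k i' j' k' : ℕ, (σ ^ i * τ ^ j * υ ^ k) * (σ ^ i' * τ ^ j' * υ ^ k') =
      σ ^ (i + i') * τ ^ (j + j') * υ ^ (k + k') := by
    intro i j k i' j' k'
    rw [pow_add, pow_add, pow_add]
    have h1 : Commute (υ ^ k) (σ ^ i') := (hσυ.pow_pow i' k).symm
    have h2 : Commute (υ ^ k) (τ ^ j') := (hτυ.pow_pow j' k).symm
    have h3 : Commute (τ ^ j) (σ ^ i') := (hστ.pow_pow i' j).symm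
    calc (σ ^ i * τ ^ j * υ ^ k) * (σ ^ i' * τ ^ j' * υ ^ k')
        = σ ^ i * τ ^ j * (υ ^ k * σ ^ i') * τ ^ j' * υ ^ k' := by simp only [mul_assoc]
      _ = σ ^ i * (τ ^ j * σ ^ i') * (υ ^ k * τ ^ j') * υ ^ k' := by rw [h1.eq]; simp only [mul_assoc]
      _ = _ := by rw [h3.eq, h2.eq]; simp only [mul_assoc]
  have hsq : ∀ i j k : ℕ, (σ ^ i * τ ^ j * υ ^ k) * (σ ^ i * τ ^ j * υ ^ k) = 1 := by
    intro i j k
    rw [hmul, ← two_mul, ← two_mul, ← two_mul, pow_mul, pow_mul, pow_mul, hσ, hτ, hυ]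
    simp
  let W : Subgroup (alternatingGroup (Fin 6)) :=
    { carrier := {w | ∃ i j k : ℕ, w = σ ^ i * τ ^ j * υ ^ k}
      mul_mem' := by
        rintro _ _ ⟨i, j, k, rfl⟩ ⟨i', j', k', rfl⟩
        exact ⟨_, _, _, hmul i j k i' j' k'⟩
      one_mem' := ⟨0, 0, 0, by simp⟩
      inv_mem' := by
        rintro _ ⟨i, j, k, rfl⟩
        exact ⟨i, j, k, inv_eq_of_mul_eq_one_left (hsq i j k)⟩ }
  have hcomm : ∀ a ∈ W, ∀ b ∈ W, a * b = b * a := by
    rintro _ ⟨i, j, k, rfl⟩ _ ⟨i', j', k', rfl⟩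
    rw [hmul, hmul, add_comm i, add_comm j, add_comm k]
  refine no_abelian8 W hcomm ?_
  -- the cardinality
  let F : Fin 2 × Fin 2 × Fin 2 → W := fun p => ⟨σ ^ (p.1 : ℕ) * τ ^ (p.2.1 : ℕ) * υ ^ (p.2.2 : ℕ), _, _, _, rfl⟩
  have hF : Function.Bijective F := by
    constructor
    · rintro ⟨i, j, k⟩ ⟨i', j', k'⟩ hp
      have h1 : σ ^ (i : ℕ) * τ ^ (j : ℕ) * υ ^ (k : ℕ) = σ ^ (i' : ℕ) * τ ^ (j' : ℕ) * υ ^ (k' : ℕ) :=
        congrArg Subtype.val hp
      have h2 : σ ^ ((i : ℕ) + i') * τ ^ ((j : ℕ) + j') * υ ^ ((k : ℕ) + k') = 1 := by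
        rw [← hmul, h1, hsq]
      obtain ⟨h3, h4, h5⟩ := h _ _ _ h2
      have := i.2; have := i'.2; have := j.2; have := j'.2; have := k.2; have := k'.2
      refine Prod.ext (Fin.ext ?_) (Prod.ext (Fin.ext ?_) (Fin.ext ?_)) <;> simp only <;> omega
    · rintro ⟨_, i, j, k, rfl⟩
      refine ⟨(⟨i % 2, Nat.mod_lt _ (by norm_num)⟩, ⟨j % 2, Nat.mod_lt _ (by norm_num)⟩,
        ⟨k % 2, Nat.mod_lt _ (by norm_num)⟩), Subtype.ext ?_⟩
      change σ ^ (i % 2) * τ ^ (j % 2) * υ ^ (k % 2) = _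
      rw [← pow_mod hσ, ← pow_mod hτ, ← pow_mod hυ]
  rw [← Nat.card_congr (Equiv.ofBijective F hF)]
  simp

/-- **T5, elementary abelian groups of order 8** -/
theorem T5v [Finite G] (K : Kit N0 A E z s x r ψ) {a b c : G} (ha : ∀ n ∈ N0, a * n = n * a)
    (hb : ∀ n ∈ N0, b * n = n * b) (hc : ∀ n ∈ N0, c * n = n * c)
    (hab : Commute a b) (hac : Commute a c) (hbc : Commute b c) (ha2 : a ^ 2 = 1) (hb2 : b ^ 2 = 1) (hc2 : c ^ 2 = 1)
    (h : ∀ i j k : ℕ, a ^ i * b ^ j * c ^ k ∈ zpowers s → 2 ∣ i ∧ 2 ∣ j ∧ 2 ∣ k) : False := by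
  have hmem : ∀ i j k : ℕ, ∀ n ∈ N0, a ^ i * b ^ j * c ^ k * n = n * (a ^ i * b ^ j * c ^ k) := by
    intro i j k n hn
    have h1 : Commute a n := ha n hn
    have h2 : Commute b n := hb n hn
    have h3 : Commute c n := hc n hn
    exact (((h1.pow_left i).mul_left (h2.pow_left j)).mul_left (h3.pow_left k)).eq
  have hpow : ∀ i j k : ℕ, (a ^ i * b ^ j * c ^ k) ^ 2 ^ 1 = 1 := by
    intro i j k
    have h1 : Commute (a ^ i) (b ^ j) := hab.pow_pow i j
    have h2 : Commute (a ^ i * b ^ j) (c ^ k) := ((hac.pow_pow i k)).mul_left (hbc.pow_pow j k)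
    rw [pow_one, h2.mul_pow, h1.mul_pow, ← pow_mul, ← pow_mul, ← pow_mul, mul_comm i, mul_comm j, mul_comm k,
      pow_mul, pow_mul, pow_mul, ha2, hb2, hc2]
    simp
  let u : ↥A := ⟨a, K.comm_mem ha⟩
  let v : ↥A := ⟨b, K.comm_mem hb⟩
  let w : ↥A := ⟨c, K.comm_mem hc⟩
  have hker : ∀ i j k : ℕ, ψ u ^ i * ψ v ^ j * ψ w ^ k = 1 → 2 ∣ i ∧ 2 ∣ j ∧ 2 ∣ k := by
    intro i j k hij
    apply h i j k
    refine K.T4 (hmem i j k) (hpow i j k) ?_
    rw [← map_pow, ← map_pow, ← map_pow, ← map_mul, ← map_mul] at hij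
    exact hij
  have hsu : Equiv.Perm.sign (ψ u) = 1 := K.even_of_comm ha u.2
  have hsv : Equiv.Perm.sign (ψ v) = 1 := K.even_of_comm hb v.2
  have hsw : Equiv.Perm.sign (ψ w) = 1 := K.even_of_comm hc w.2
  let σ : alternatingGroup (Fin 6) := ⟨ψ u, mem_alternatingGroup.2 hsu⟩
  let τ : alternatingGroup (Fin 6) := ⟨ψ v, mem_alternatingGroup.2 hsv⟩
  let υ : alternatingGroup (Fin 6) := ⟨ψ w, mem_alternatingGroup.2 hsw⟩
  have hc1 : ∀ p q : ↥A, (p : G) * q = q * p → ψ p * ψ q = ψ q * ψ p := by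
    intro p q hpq
    rw [← map_mul, ← map_mul]
    exact congrArg ψ (Subtype.ext hpq)
  have hp1 : ∀ p : ↥A, (p : G) ^ 2 = 1 → ψ p ^ 2 = 1 := by
    intro p hp
    rw [← map_pow, ← map_one ψ]
    exact congrArg ψ (Subtype.ext hp)
  exact no_three σ τ υ (Subtype.ext (hc1 u v hab)) (Subtype.ext (hc1 u w hac)) (Subtype.ext (hc1 v w hbc))
    (Subtype.ext (hp1 u ha2)) (Subtype.ext (hp1 v hb2)) (Subtype.ext (hp1 w hc2))
    fun i j k hij => hker i j k (congrArg Subtype.val hij)

open Classical in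
/-- the commutator with `a` -/
noncomputable def chi (K : Kit N0 A E z s x r ψ) {a : G} (ha : a ∈ N0) : ↥N0 →* ℤˣ where
  toFun n := if (n : G) * a = a * n then 1 else -1
  map_one' := by simp
  map_mul' n m := by
    have hz : ∀ g ∈ N0, z * g = g * z := fun g hg => (K.z_comm (K.N_A hg)).symm
    have hne : ∀ g : G, z * g ≠ g := fun g h => K.z_ne (mul_eq_right.1 h)
    have key : ∀ g : ↥N0, (g : G) * a = a * g ∨ (g : G) * a = z * (a * g) := fun g => K.comm g g.2 a ha
    have h1 := key n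
    have h2 := key m
    have e : ((n * m : ↥N0) : G) * a = n * (m * a) := by rw [Subgroup.coe_mul, mul_assoc]
    by_cases c1 : (n : G) * a = a * n <;> by_cases c2 : (m : G) * a = a * m
    · rw [if_pos c1, if_pos c2, if_pos, one_mul]
      rw [e, c2, ← mul_assoc, c1, Subgroup.coe_mul, mul_assoc]
    · have c2' := h2.resolve_left c2
      rw [if_pos c1, if_neg c2, if_neg, one_mul]
      intro h
      rw [e, c2', ← mul_assoc, ← hz n n.2, mul_assoc, ← mul_assoc (n : G), c1, Subgroup.coe_mul, mul_assoc] at h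
      exact hne _ h
    · have c1' := h1.resolve_left c1
      rw [if_neg c1, if_pos c2, if_neg, mul_one]
      intro h
      rw [e, c2, ← mul_assoc, c1', Subgroup.coe_mul, mul_assoc, mul_assoc] at h
      exact hne _ h
    · have c1' := h1.resolve_left c1
      have c2' := h2.resolve_left c2
      rw [if_neg c1, if_neg c2, if_pos, neg_mul_neg, one_mul]
      rw [e, c2', ← mul_assoc, ← hz n n.2, mul_assoc, ← mul_assoc (n : G), c1', mul_assoc, ← mul_assoc z z, K.z_sq,
        one_mul, Subgroup.coe_mul, mul_assoc]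

theorem chi_pos (K : Kit N0 A E z s x r ψ) {a : G} (ha : a ∈ N0) {n : ↥N0} (h : (n : G) * a = a * n) :
    chi K ha n = 1 := if_pos h

theorem chi_neg (K : Kit N0 A E z s x r ψ) {a : G} (ha : a ∈ N0) {n : ↥N0} (h : (n : G) * a = z * (a * n)) :
    chi K ha n = -1 := if_neg fun h' => K.z_ne (mul_eq_right.1 (h'.symm.trans h).symm)

/-- **`N0` is generated by `s` and a hyperbolic basis.** -/
theorem N0_gen [Finite G] (K : Kit N0 A E z s x r ψ) {a1 a2 b1 b2 : G} (ha1 : a1 ∈ N0) (ha2 : a2 ∈ N0) (hb1 : b1 ∈ N0)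
    (hb2 : b2 ∈ N0) (h11 : a1 * b1 = z * (b1 * a1)) (h22 : a2 * b2 = z * (b2 * a2)) (haa : a1 * a2 = a2 * a1)
    (hbb : b1 * b2 = b2 * b1) (h12 : a1 * b2 = b2 * a1) (h21 : a2 * b1 = b1 * a2) :
    N0 ≤ closure {s, a1, a2, b1, b2} := by
  have hz : ∀ g ∈ N0, z * g = g * z := fun g hg => (K.z_comm (K.N_A hg)).symm
  have h11' : b1 * a1 = z * (a1 * b1) := by rw [h11, ← mul_assoc, K.z_sq, one_mul]
  have h22' : b2 * a2 = z * (a2 * b2) := by rw [h22, ← mul_assoc, K.z_sq, one_mul]
  let Φ : ↥N0 →* ℤˣ × ℤˣ × ℤˣ × ℤˣ :=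
    (chi K ha1).prod ((chi K ha2).prod ((chi K hb1).prod (chi K hb2)))
  have v1 : Φ ⟨b1, hb1⟩ = (-1, 1, 1, 1) := Prod.ext (chi_neg K ha1 h11') (Prod.ext (chi_pos K ha2 h21.symm)
    (Prod.ext (chi_pos K hb1 rfl) (chi_pos K hb2 hbb)))
  have v2 : Φ ⟨b2, hb2⟩ = (1, -1, 1, 1) := Prod.ext (chi_pos K ha1 h12.symm) (Prod.ext (chi_neg K ha2 h22')
    (Prod.ext (chi_pos K hb1 hbb.symm) (chi_pos K hb2 rfl)))
  have v3 : Φ ⟨a1, ha1⟩ = (1, 1, -1, 1) := Prod.ext (chi_pos K ha1 rfl) (Prod.ext (chi_pos K ha2 haa)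
    (Prod.ext (chi_neg K hb1 h11) (chi_pos K hb2 h12)))
  have v4 : Φ ⟨a2, ha2⟩ = (1, 1, 1, -1) := Prod.ext (chi_pos K ha1 haa.symm) (Prod.ext (chi_pos K ha2 rfl)
    (Prod.ext (chi_pos K hb1 h21) (chi_neg K hb2 h22)))
  -- every value is attained on the subgroup generated by the basis
  have hval : ∀ e : ℤˣ × ℤˣ × ℤˣ × ℤˣ, ∃ w : ↥N0, (w : G) ∈ closure {s, a1, a2, b1, b2} ∧ Φ w = e := by
    have m1 : a1 ∈ closure {s, a1, a2, b1, b2} := subset_closure (by simp)
    have m2 : a2 ∈ closure {s, a1, a2, b1, b2} := subset_closure (by simp)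
    have m3 : b1 ∈ closure {s, a1, a2, b1, b2} := subset_closure (by simp)
    have m4 : b2 ∈ closure {s, a1, a2, b1, b2} := subset_closure (by simp)
    rintro ⟨e1, e2, e3, e4⟩
    obtain ⟨w1, hw1, k1⟩ : ∃ w : ↥N0, (w : G) ∈ closure {s, a1, a2, b1, b2} ∧ Φ w = (e1, 1, 1, 1) := by
      rcases Int.units_eq_one_or e1 with h | h
      · exact ⟨1, one_mem _, by rw [map_one, h]; rfl⟩
      · exact ⟨⟨b1, hb1⟩, m3, by rw [v1, h]⟩
    obtain ⟨w2, hw2, k2⟩ : ∃ w : ↥N0, (w : G) ∈ closure {s, a1, a2, b1, b2} ∧ Φ w = (1, e2, 1, 1) := by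
      rcases Int.units_eq_one_or e2 with h | h
      · exact ⟨1, one_mem _, by rw [map_one, h]; rfl⟩
      · exact ⟨⟨b2, hb2⟩, m4, by rw [v2, h]⟩
    obtain ⟨w3, hw3, k3⟩ : ∃ w : ↥N0, (w : G) ∈ closure {s, a1, a2, b1, b2} ∧ Φ w = (1, 1, e3, 1) := by
      rcases Int.units_eq_one_or e3 with h | h
      · exact ⟨1, one_mem _, by rw [map_one, h]; rfl⟩
      · exact ⟨⟨a1, ha1⟩, m1, by rw [v3, h]⟩
    obtain ⟨w4, hw4, k4⟩ : ∃ w : ↥N0, (w : G) ∈ closure {s, a1, a2, b1, b2} ∧ Φ w = (1, 1, 1, e4) := by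
      rcases Int.units_eq_one_or e4 with h | h
      · exact ⟨1, one_mem _, by rw [map_one, h]; rfl⟩
      · exact ⟨⟨a2, ha2⟩, m2, by rw [v4, h]⟩
    refine ⟨w1 * w2 * w3 * w4, mul_mem (mul_mem (mul_mem hw1 hw2) hw3) hw4, ?_⟩
    rw [map_mul, map_mul, map_mul, k1, k2, k3, k4]
    simp
  have hsurj : Function.Surjective Φ := fun e => by
    obtain ⟨w, -, hw⟩ := hval e
    exact ⟨w, hw⟩
  have hcard : Nat.card Φ.ker = 4 := by
    have h1 := Subgroup.card_mul_index Φ.ker
    rw [Subgroup.index_ker, MonoidHom.range_eq_top.2 hsurj, Subgroup.card_top, K.card] at h1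
    have h2 : Nat.card (ℤˣ × ℤˣ × ℤˣ × ℤˣ) = 16 := by
      have : Nat.card ℤˣ = 2 := by rw [Nat.card_eq_fintype_card]; rfl
      rw [Nat.card_prod, Nat.card_prod, Nat.card_prod, this]
    rw [h2] at h1
    omega
  -- the kernel is `⟨s⟩`
  have hk : ∀ n : ↥N0, Φ n = 1 → (n : G) ∈ zpowers s := by
    have hso : orderOf s = 4 := by
      have h1 : orderOf s ∣ 4 := orderOf_dvd_of_pow_eq_one K.s_four
      have h2 : ¬ orderOf s ∣ 2 := fun h => K.s_ne (by rw [← pow_two]; exact orderOf_dvd_iff_pow_eq_one.1 h)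
      obtain ⟨k, hk2, hk⟩ := (Nat.dvd_prime_pow Nat.prime_two).1 (show orderOf s ∣ 2 ^ 2 from h1)
      rcases Nat.lt_or_ge k 2 with h3 | h3
      · exact absurd (by rw [hk]; exact pow_dvd_pow 2 (show k ≤ 1 by omega)) h2
      · rw [hk, show k = 2 by omega]; norm_num
    let S : Subgroup ↥N0 := zpowers ⟨s, K.sN⟩
    have hS : S ≤ Φ.ker := by
      rw [zpowers_le, MonoidHom.mem_ker]
      exact Prod.ext (chi_pos K ha1 (K.s_cen a1 ha1).symm) (Prod.ext (chi_pos K ha2 (K.s_cen a2 ha2).symm)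
        (Prod.ext (chi_pos K hb1 (K.s_cen b1 hb1).symm) (chi_pos K hb2 (K.s_cen b2 hb2).symm)))
    have hSc : Nat.card S = 4 := by
      rw [Nat.card_zpowers, ← hso]
      exact Subgroup.orderOf_mk s K.sN
    have hSeq : S = Φ.ker := Subgroup.eq_of_le_of_card_ge hS (by rw [hcard, hSc])
    intro n hn
    have h1 : n ∈ S := by rw [hSeq]; exact hn
    obtain ⟨i, hi⟩ := h1
    exact ⟨i, by rw [← hi]; rfl⟩
  intro n hn
  obtain ⟨w, hw, hΦ⟩ := hval (Φ ⟨n, hn⟩)⁻¹
  have h1 := hk (⟨n, hn⟩ * w) (by rw [map_mul, hΦ, mul_inv_cancel])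
  have h2 : n * (w : G) ∈ closure {s, a1, a2, b1, b2} := by
    have h3 : zpowers s ≤ closure {s, a1, a2, b1, b2} := by
      rw [zpowers_le]
      exact subset_closure (by simp)
    exact h3 h1
  have h4 := mul_mem h2 (inv_mem hw)
  rwa [mul_inv_cancel_right] at h4

/-- homomorphisms of a perfect group to a commutative group -/
theorem perf_triv {H T : Type*} [Group H] [CommGroup T] (R : Subgroup H) (hR : ⁅R, R⁆ = R) (f : ↥R →* T) (g : ↥R) :
    f g = 1 := by
  have hle : R ≤ (f.ker).map R.subtype := by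
    conv_lhs => rw [← hR]
    rw [commutator_le]
    intro u hu v hv
    refine ⟨⁅(⟨u, hu⟩ : ↥R), (⟨v, hv⟩ : ↥R)⁆, ?_, rfl⟩
    rw [SetLike.mem_coe, MonoidHom.mem_ker, map_commutatorElement, commutatorElement_eq_one_iff_mul_comm]
    exact mul_comm _ _
  obtain ⟨w, hw, hwg⟩ := hle g.2
  have : w = g := Subtype.ext hwg
  rw [← this]
  exact hw

/-- **T6, lifted** -/
theorem T6l [Finite G] (K : Kit N0 A E z s x r ψ) {F V : Type*} [Field F] [AddCommGroup V] [Module F V]
    {Gh : Subgroup (V ≃ₗ[F] V)} {π : ↥Gh →* G} (L : Lin Gh π) (f : ↥((centralizer (N0 : Set G)).comap π) →* ℤˣ)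
    (hsc : ∀ g : ↥((centralizer (N0 : Set G)).comap π), IsSc ((g : ↥Gh) : V ≃ₗ[F] V) → f g = 1)
    (hs : ∀ g : ↥((centralizer (N0 : Set G)).comap π), π (g : ↥Gh) = s → f g = 1)
    (g : ↥((centralizer (N0 : Set G)).comap π)) : f g = 1 := by
  have hsurj := MonoidHom.subgroupComap_surjective_of_surjective π (centralizer (N0 : Set G)) L.surj
  have hker : (π.subgroupComap (centralizer (N0 : Set G))).ker ≤ f.ker := by
    intro y hy
    rw [MonoidHom.mem_ker] at hy ⊢
    exact hsc y ((L.ker _).1 (congrArg Subtype.val hy))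
  let f' := (π.subgroupComap (centralizer (N0 : Set G))).liftOfSurjective hsurj ⟨f, hker⟩
  have hf : ∀ y, f' (π.subgroupComap (centralizer (N0 : Set G)) y) = f y := fun y =>
    MonoidHom.liftOfRightInverse_comp_apply _ _ _ ⟨f, hker⟩ y
  rw [← hf]
  refine K.T6 f' ?_ _
  intro h
  obtain ⟨y, hy⟩ := hsurj ⟨s, h⟩
  rw [← hy, hf]
  exact hs y (congrArg Subtype.val hy)

end group

end Cfsg.Agent.H100.C3
end

-- part: H100/C3/ArfLift
section
/-!
# S1920, case B, orthogonal groups, section 5: the lifted kit (helper100)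

* `dich` : two elements of `Nh` commute, or anticommute on `{sh² = 1}` and their images do not commute;
* `AZ_of` : the linear data;
* `dim_four` : `dim M ≥ 4` is impossible.
-/

set_option autoImplicit false
set_option linter.unusedSectionVars false

open Subgroup
open scoped commutatorElement

namespace Cfsg.Agent.H100.C3

open QuadraticMap Cfsg.Agent.H415.C3 Cfsg.Agent.LieClassical.OrthCore Cfsg.Agent.LieClassical.OrthTrans
open AZ (rf)

variable {G : Type*} [Group G]
variable {N0 A Ek : Subgroup G} {z s x r : G} {ψ : ↥A →* Equiv.Perm (Fin 6)}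
variable {F V : Type*} [Field F] [AddCommGroup V] [Module F V] {Q : QuadraticForm F V} {π : ↥(E Q) →* G}
  {Nh Eh : Subgroup (V ≃ₗ[F] V)} {zh sh xh rh : V ≃ₗ[F] V}

theorem pi_eq {Gh : Subgroup (V ≃ₗ[F] V)} {π : ↥Gh →* G} (L : Lin Gh π) {g g' : ↥Gh} {c : F}
    (h : ∀ v, g.1 v = c • g'.1 v) : π g = π g' := by
  have h1 : π (g * g'⁻¹) = 1 := by
    rw [L.ker]
    refine ⟨c, fun v => ?_⟩
    change g.1 (g'.1⁻¹ v) = c • v
    rw [h]
    congr 1
    exact LinearEquiv.apply_symm_apply g'.1 v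
  rw [map_mul, map_inv, mul_inv_eq_one] at h1
  exact h1

/-- the situation of section 5 -/
structure Sit (Q : QuadraticForm F V) (π : ↥(E Q) →* G) (N0 A Ek : Subgroup G) (z s x r : G)
    (ψ : ↥A →* Equiv.Perm (Fin 6)) (Nh Eh : Subgroup (V ≃ₗ[F] V)) (zh sh xh rh : V ≃ₗ[F] V) : Prop where
  good : Good Q
  two : (2 : F) ≠ 0
  kit : Kit N0 A Ek z s x r ψ
  lin : Lin (E Q) π
  lk : LKit (E Q) π N0 A Ek z s x r Nh Eh zh sh xh rh
  s_comm : ∀ n ∈ Nh, n * sh = sh * n
  c_ne : ∃ v, v ≠ 0 ∧ sh (sh v) = -v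
  c_comm : ∀ n ∈ Nh, ∀ m ∈ Nh, ∀ v, sh (sh v) = -v → n (m v) = m (n v)

namespace Sit

variable (S : Sit Q π N0 A Ek z s x r ψ Nh Eh zh sh xh rh)
include S

theorem mem_E {n : V ≃ₗ[F] V} (hn : n ∈ Nh) : n ∈ E Q := ((S.lk.mem_Nh n).1 hn).1

theorem pi_mem {n : V ≃ₗ[F] V} (hn : n ∈ Nh) : π ⟨n, S.mem_E hn⟩ ∈ N0 := ((S.lk.mem_Nh n).1 hn).2

theorem s4 (v : V) : sh (sh (sh (sh v))) = v := by
  obtain ⟨c, hc, h⟩ := S.lk.s_sq
  have hz : ∀ w, zh (zh w) = w := fun w => LinearEquiv.congr_fun S.lk.z_sq w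
  have h' : ∀ w, sh (sh w) = c • zh w := h
  have h4 : ∀ w, sh (sh (sh (sh w))) = (c * c) • w := by
    intro w
    rw [h' (sh (sh w)), h' w, map_smul, hz, smul_smul]
  obtain ⟨u, hu, hu'⟩ := S.c_ne
  have h5 : sh (sh (sh (sh u))) = u := by rw [hu', map_neg, map_neg, hu', neg_neg]
  rw [h4] at h5
  have h6 : (c * c - 1) • u = 0 := by rw [sub_smul, h5, one_smul, sub_self]
  rw [h4, sub_eq_zero.1 ((smul_eq_zero.1 h6).resolve_right hu), one_smul]

theorem s_comm' {n : V ≃ₗ[F] V} (hn : n ∈ Nh) (v : V) : sh (n v) = n (sh v) :=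
  (LinearEquiv.congr_fun (S.s_comm n hn) v).symm

/-- two elements of `Nh` commute, or anticommute on `{sh² = 1}` and their images do not commute -/
theorem dich {n m : V ≃ₗ[F] V} (hn : n ∈ Nh) (hm : m ∈ Nh) :
    ((∀ v, n (m v) = m (n v)) ∧ π ⟨n, S.mem_E hn⟩ * π ⟨m, S.mem_E hm⟩ = π ⟨m, S.mem_E hm⟩ * π ⟨n, S.mem_E hn⟩) ∨
    ((∀ v, sh (sh v) = v → n (m v) = - m (n v)) ∧
      π ⟨n, S.mem_E hn⟩ * π ⟨m, S.mem_E hm⟩ = z * (π ⟨m, S.mem_E hm⟩ * π ⟨n, S.mem_E hn⟩)) := by
  obtain ⟨u, hu, hu'⟩ := S.c_ne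
  have hnu : sh (sh (n u)) = - n u := by rw [S.s_comm' hn, S.s_comm' hn, hu', map_neg]
  have hmnu : sh (sh (m (n u))) = - m (n u) := by rw [S.s_comm' hm, S.s_comm' hm, hnu, map_neg]
  have hne : m (n u) ≠ 0 := fun h => hu (n.map_eq_zero_iff.1 (m.map_eq_zero_iff.1 h))
  obtain ⟨c, hc, h | h⟩ := S.lk.comm n hn m hm
  · left
    have h1 : ∀ v, n (m v) = c • m (n v) := h
    have h2 : m (n u) = c • m (n u) := by
      rw [← h1]; exact (S.c_comm n hn m hm u hu').symm
    have h3 : (1 - c) • m (n u) = 0 := by rw [sub_smul, ← h2, one_smul, sub_self]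
    have h4 : c = 1 := (sub_eq_zero.1 ((smul_eq_zero.1 h3).resolve_right hne)).symm
    refine ⟨fun v => by rw [h1, h4, one_smul], ?_⟩
    rw [← map_mul, ← map_mul]
    exact pi_eq S.lin (c := 1) fun v => by
      change n (m v) = (1 : F) • m (n v)
      rw [h1, h4]
  · right
    have h1 : ∀ v, n (m v) = c • zh (m (n v)) := h
    obtain ⟨c', hc', h'⟩ := S.lk.s_sq
    have h2 : ∀ w, sh (sh w) = c' • zh w := h'
    have h3 : ∀ w, zh w = c'⁻¹ • sh (sh w) := fun w => by rw [h2, smul_smul, inv_mul_cancel₀ hc', one_smul]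
    have h4 : m (n u) = -(c * c'⁻¹) • m (n u) := by
      have := h1 u
      rw [S.c_comm n hn m hm u hu', h3, hmnu, smul_neg, smul_neg, smul_smul] at this
      rw [neg_smul]
      exact this
    have h5 : (1 + c * c'⁻¹) • m (n u) = 0 := by
      rw [add_smul, one_smul]
      nth_rewrite 1 [h4]
      rw [neg_smul, neg_add_cancel]
    have h6 : c * c'⁻¹ = -1 := by
      have := (smul_eq_zero.1 h5).resolve_right hne
      linear_combination this
    refine ⟨fun v hv => ?_, ?_⟩
    · have h7 : sh (sh (m (n v))) = m (n v) := by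
        rw [S.s_comm' hm, S.s_comm' hm, S.s_comm' hn, S.s_comm' hn, hv]
      rw [h1, h3, h7, smul_smul, h6, neg_smul, one_smul]
    · have hzE : zh ∈ E Q := S.mem_E S.lk.zN
      have e2 : π ⟨n, S.mem_E hn⟩ * π ⟨m, S.mem_E hm⟩ =
          π ⟨zh, hzE⟩ * (π ⟨m, S.mem_E hm⟩ * π ⟨n, S.mem_E hn⟩) := by
        rw [← map_mul, ← map_mul, ← map_mul]
        exact pi_eq S.lin (c := c) fun v => h1 v
      exact e2.trans (congrArg (fun y => y * (π ⟨m, S.mem_E hm⟩ * π ⟨n, S.mem_E hn⟩)) (S.lk.pi_z hzE))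

theorem dich_pos {n m : V ≃ₗ[F] V} (hn : n ∈ Nh) (hm : m ∈ Nh) {v : V} (hv : v ≠ 0) (hvs : sh (sh v) = v)
    (h : n (m v) = m (n v)) :
    (∀ v, n (m v) = m (n v)) ∧ π ⟨n, S.mem_E hn⟩ * π ⟨m, S.mem_E hm⟩ = π ⟨m, S.mem_E hm⟩ * π ⟨n, S.mem_E hn⟩ := by
  rcases S.dich hn hm with h1 | ⟨h1, -⟩
  · exact h1
  · exfalso
    have h2 := h1 v hvs
    rw [h] at h2
    have h3 : (2 : F) • m (n v) = 0 := by
      rw [two_smul]
      nth_rewrite 1 [h2]
      rw [neg_add_cancel]
    have h4 := (smul_eq_zero.1 h3).resolve_left S.two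
    exact hv (n.map_eq_zero_iff.1 (m.map_eq_zero_iff.1 h4))

theorem dich_neg {n m : V ≃ₗ[F] V} (hn : n ∈ Nh) (hm : m ∈ Nh) {v : V} (hv : v ≠ 0) (_ : sh (sh v) = v)
    (h : n (m v) = - m (n v)) :
    π ⟨n, S.mem_E hn⟩ * π ⟨m, S.mem_E hm⟩ = z * (π ⟨m, S.mem_E hm⟩ * π ⟨n, S.mem_E hn⟩) := by
  rcases S.dich hn hm with ⟨h1, -⟩ | ⟨-, h1⟩
  · exfalso
    have h2 := h1 v
    rw [h] at h2
    have h3 : (2 : F) • m (n v) = 0 := by
      rw [two_smul]
      nth_rewrite 1 [← h2]
      rw [neg_add_cancel]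
    have h4 := (smul_eq_zero.1 h3).resolve_left S.two
    exact hv (n.map_eq_zero_iff.1 (m.map_eq_zero_iff.1 h4))
  · exact h1

end Sit

/-- a hyperbolic basis on `V_ε` -/
structure HypB (Nh : Subgroup (V ≃ₗ[F] V)) (sh : V ≃ₗ[F] V) (ε : F) (n1 n2 m1 m2 : V ≃ₗ[F] V) : Prop where
  eps : ε = 1 ∨ ε = -1
  n1N : n1 ∈ Nh
  n2N : n2 ∈ Nh
  m1N : m1 ∈ Nh
  m2N : m2 ∈ Nh
  n11 : ∀ v, sh v = ε • v → n1 (n1 v) = v
  n22 : ∀ v, sh v = ε • v → n2 (n2 v) = v
  m11 : ∀ v, sh v = ε • v → m1 (m1 v) = v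
  m22 : ∀ v, sh v = ε • v → m2 (m2 v) = v
  nn : ∀ v, sh v = ε • v → n1 (n2 v) = n2 (n1 v)
  mm : ∀ v, sh v = ε • v → m1 (m2 v) = m2 (m1 v)
  nm12 : ∀ v, sh v = ε • v → n1 (m2 v) = m2 (n1 v)
  nm21 : ∀ v, sh v = ε • v → n2 (m1 v) = m1 (n2 v)
  nm11 : ∀ v, sh v = ε • v → n1 (m1 v) = - m1 (n1 v)
  nm22 : ∀ v, sh v = ε • v → n2 (m2 v) = - m2 (n2 v)

section main

variable (S : Sit Q π N0 A Ek z s x r ψ Nh Eh zh sh xh rh) {ε : F} {n1 n2 m1 m2 : V ≃ₗ[F] V}
  (B : HypB Nh sh ε n1 n2 m1 m2)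
include S B

theorem eps_sq : ε * ε = 1 := by
  rcases B.eps with h | h <;> rw [h] <;> ring

theorem AZ_of : AZ Q ε sh n1 n2 m1 m2 where
  two := S.two
  eps := eps_sq S B
  sO := E_le_O (S.mem_E S.lk.sN)
  n1O := E_le_O (S.mem_E B.n1N)
  n2O := E_le_O (S.mem_E B.n2N)
  m1O := E_le_O (S.mem_E B.m1N)
  m2O := E_le_O (S.mem_E B.m2N)
  s4 := S.s4
  sn1 := S.s_comm' B.n1N
  sn2 := S.s_comm' B.n2N
  sm1 := S.s_comm' B.m1N
  sm2 := S.s_comm' B.m2N
  n11 := B.n11
  n22 := B.n22
  m11 := B.m11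
  m22 := B.m22
  nn := B.nn
  mm := B.mm
  nm12 := B.nm12
  nm21 := B.nm21
  nm11 := B.nm11
  nm22 := B.nm22

theorem sq_of {v : V} (hv : sh v = ε • v) : sh (sh v) = v := by
  rw [hv, map_smul, hv, smul_smul, eps_sq S B, one_smul]

/-- elements of `E Q` commuting with `sh` and the basis have images commuting with `N0` -/
theorem comm_N0 [Finite G] {v0 : V} (hv0 : v0 ≠ 0) (hv0' : sh v0 = ε • v0) {g : V ≃ₗ[F] V} (hg : g ∈ E Q)
    (hs : ∀ v, g (sh v) = sh (g v)) (h1 : ∀ v, g (n1 v) = n1 (g v)) (h2 : ∀ v, g (n2 v) = n2 (g v))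
    (h3 : ∀ v, g (m1 v) = m1 (g v)) (h4 : ∀ v, g (m2 v) = m2 (g v)) : ∀ n ∈ N0, π ⟨g, hg⟩ * n = n * π ⟨g, hg⟩ := by
  have hvs := sq_of S B hv0'
  have hgen := N0_gen S.kit (S.pi_mem B.n1N) (S.pi_mem B.n2N) (S.pi_mem B.m1N) (S.pi_mem B.m2N)
    (S.dich_neg B.n1N B.m1N hv0 hvs (B.nm11 v0 hv0')) (S.dich_neg B.n2N B.m2N hv0 hvs (B.nm22 v0 hv0'))
    (S.dich_pos B.n1N B.n2N hv0 hvs (B.nn v0 hv0')).2 (S.dich_pos B.m1N B.m2N hv0 hvs (B.mm v0 hv0')).2
    (S.dich_pos B.n1N B.m2N hv0 hvs (B.nm12 v0 hv0')).2 (S.dich_pos B.n2N B.m1N hv0 hvs (B.nm21 v0 hv0')).2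
  have key : ∀ {n : V ≃ₗ[F] V} (hn : n ∈ E Q), (∀ v, g (n v) = n (g v)) →
      π ⟨n, hn⟩ * π ⟨g, hg⟩ = π ⟨g, hg⟩ * π ⟨n, hn⟩ := by
    intro n hn h
    rw [← map_mul, ← map_mul]
    exact pi_eq S.lin (c := 1) fun v => by
      change n (g v) = (1 : F) • g (n v)
      rw [one_smul, h]
  have hle : closure {s, π ⟨n1, S.mem_E B.n1N⟩, π ⟨n2, S.mem_E B.n2N⟩, π ⟨m1, S.mem_E B.m1N⟩, π ⟨m2, S.mem_E B.m2N⟩} ≤
      centralizer {π ⟨g, hg⟩} := by
    rw [closure_le]
    intro y hy
    rw [SetLike.mem_coe, mem_centralizer_singleton_iff]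
    rcases hy with rfl | rfl | rfl | rfl | rfl
    · rw [← S.lk.pi_s (S.mem_E S.lk.sN)]
      exact key _ hs
    · exact key _ h1
    · exact key _ h2
    · exact key _ h3
    · exact key _ h4
  intro n hn
  exact (mem_centralizer_singleton_iff.1 (hle (hgen hn))).symm

/-- the invariance of `M` -/
theorem rho_kit [Finite G] {v0 : V} (hv0 : v0 ≠ 0) (hv0' : sh v0 = ε • v0) {u : V} (hu : InM ε sh n1 n2 u)
    (hQ : Q u ≠ 0) : ∃ (ρ : V ≃ₗ[F] V) (hρ : ρ ∈ E Q), (∀ v, ρ v = rf Q m1 m2 u v) ∧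
      (∀ n ∈ N0, π ⟨ρ, hρ⟩ * n = n * π ⟨ρ, hρ⟩) ∧ (π ⟨ρ, hρ⟩) ^ 2 = 1 := by
  have h := AZ_of S B
  obtain ⟨ρ, hρ, hv⟩ := h.exists_rho S.good hu hQ
  refine ⟨ρ, hρ, hv, comm_N0 S B hv0 hv0' hρ ?_ ?_ ?_ ?_ ?_, ?_⟩
  · intro v; rw [hv, hv]; exact h.rf_sh hu v
  · intro v; rw [hv, hv]; exact h.rf_n1 hu v
  · intro v; rw [hv, hv]; exact h.rf_n2 hu v
  · intro v; rw [hv, hv]; exact h.rf_m1 hu v
  · intro v; rw [hv, hv]; exact h.rf_m2 hu v
  · rw [← map_pow, ← map_one π]
    refine congrArg π (Subtype.ext (LinearEquiv.ext fun v => ?_))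
    change (ρ ^ 2) v = v
    rw [pow_two]
    change ρ (ρ v) = v
    rw [hv, hv]
    exact h.rf_rf hu hQ v

/-- **`T5` for three reflections and a fixed vector** -/
theorem t5app [Finite G] {u1 u2 u3 v0 : V} (hu1 : InM ε sh n1 n2 u1) (hu2 : InM ε sh n1 n2 u2)
    (hu3 : InM ε sh n1 n2 u3) (hv : InM ε sh n1 n2 v0) (hv0 : v0 ≠ 0) (q1 : Q u1 ≠ 0) (q2 : Q u2 ≠ 0) (q3 : Q u3 ≠ 0)
    (p12 : polar Q u1 u2 = 0) (p13 : polar Q u1 u3 = 0) (p23 : polar Q u2 u3 = 0)
    (p1 : polar Q u1 v0 = 0) (p2 : polar Q u2 v0 = 0) (p3 : polar Q u3 v0 = 0) : False := by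
  have h := AZ_of S B
  have two := S.two
  obtain ⟨ρ1, hρ1, r1, c1, s1⟩ := rho_kit S B hv0 hv.1 hu1 q1
  obtain ⟨ρ2, hρ2, r2, c2, s2⟩ := rho_kit S B hv0 hv.1 hu2 q2
  obtain ⟨ρ3, hρ3, r3, c3, s3⟩ := rho_kit S B hv0 hv.1 hu3 q3
  have hcomm : ∀ {g g' : V ≃ₗ[F] V} (hg : g ∈ E Q) (hg' : g' ∈ E Q), (∀ v, g (g' v) = g' (g v)) →
      Commute (π ⟨g, hg⟩) (π ⟨g', hg'⟩) := by
    intro g g' hg hg' hgg
    change _ * _ = _ * _
    rw [← map_mul, ← map_mul]
    exact pi_eq S.lin (c := 1) fun v => by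
      change g (g' v) = (1 : F) • g' (g v)
      rw [one_smul, hgg]
  -- action on `M`
  have hm1 : ∀ v, InM ε sh n1 n2 v → polar Q u1 v = 0 → ρ1 v = v := fun v hv hp => by
    rw [r1, h.rf_M hu1 hv, hp, mul_zero, zero_smul, sub_zero]
  have hm2 : ∀ v, InM ε sh n1 n2 v → polar Q u2 v = 0 → ρ2 v = v := fun v hv hp => by
    rw [r2, h.rf_M hu2 hv, hp, mul_zero, zero_smul, sub_zero]
  have hm3 : ∀ v, InM ε sh n1 n2 v → polar Q u3 v = 0 → ρ3 v = v := fun v hv hp => by
    rw [r3, h.rf_M hu3 hv, hp, mul_zero, zero_smul, sub_zero]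
  have hself : ∀ u, InM ε sh n1 n2 u → Q u ≠ 0 → rf Q m1 m2 u u = -u := by
    intro u hu hq
    rw [h.rf_M hu hu, polar_self', ← mul_assoc, mul_comm _ (2 : F), mul_assoc, inv_mul_cancel₀ hq, mul_one, two_smul]
    abel
  have hn1 : ρ1 u1 = -u1 := by rw [r1, hself u1 hu1 q1]
  have hn2 : ρ2 u2 = -u2 := by rw [r2, hself u2 hu2 q2]
  have hn3 : ρ3 u3 = -u3 := by rw [r3, hself u3 hu3 q3]
  -- action on `Vc`
  obtain ⟨w, hw, hw'⟩ := S.c_ne
  have hcperp : ∀ y, sh y = ε • y → polar Q y w = 0 := by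
    intro y hy
    have h1 := polar_map h.sO y w
    have h2 := polar_map h.sO (sh y) (sh w)
    rw [sq_of S B hy, hw', polar_neg_right, h1] at h2
    have h3 : (2 : F) * polar Q y w = 0 := by linear_combination -h2
    exact (mul_eq_zero.1 h3).resolve_left two
  have hcfix : ∀ u, InM ε sh n1 n2 u → rf Q m1 m2 u w = w := fun u hu =>
    h.rf_of_perp hu (hcperp _ hu.1) (hcperp _ (h.e1 hu)) (hcperp _ (h.e2 hu)) (hcperp _ (h.e3 hu))
  have hw1 : ρ1 w = w := by rw [r1, hcfix u1 hu1]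
  have hw2 : ρ2 w = w := by rw [r2, hcfix u2 hu2]
  have hw3 : ρ3 w = w := by rw [r3, hcfix u3 hu3]
  -- powers
  have hpf : ∀ (g : V ≃ₗ[F] V) (v : V), g v = v → ∀ i : ℕ, (g ^ i) v = v := by
    intro g v hgv i
    induction i with
    | zero => rfl
    | succ i ih => rw [pow_succ]; change (g ^ i) (g v) = v; rw [hgv, ih]
  have hpn : ∀ (g : V ≃ₗ[F] V) (v : V), g v = -v → ∀ i : ℕ, (g ^ i) v = (-1 : F) ^ i • v := by
    intro g v hgv i
    induction i with
    | zero => simp
    | succ i ih => rw [pow_succ]; change (g ^ i) (g v) = _; rw [hgv, map_neg, ih, pow_succ, mul_neg, mul_one, neg_smul]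
  have hpar : ∀ (i : ℕ) (v : V), v ≠ 0 → (-1 : F) ^ i • v = v → 2 ∣ i := by
    intro i v hv hi
    rcases Nat.even_or_odd i with he | ho
    · exact he.two_dvd
    · exfalso
      rw [ho.neg_one_pow, neg_smul, one_smul] at hi
      have h3 : (2 : F) • v = 0 := by
        rw [two_smul]; nth_rewrite 1 [← hi]; rw [neg_add_cancel]
      exact hv ((smul_eq_zero.1 h3).resolve_left two)
  refine T5v S.kit c1 c2 c3 (hcomm hρ1 hρ2 fun v => ?_) (hcomm hρ1 hρ3 fun v => ?_) (hcomm hρ2 hρ3 fun v => ?_)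
    s1 s2 s3 ?_
  · rw [r1, r2, r2, r1]; exact h.rf_comm hu1 hu2 p12 v
  · rw [r1, r3, r3, r1]; exact h.rf_comm hu1 hu3 p13 v
  · rw [r2, r3, r3, r2]; exact h.rf_comm hu2 hu3 p23 v
  intro i j k hijk
  -- the lift
  have hsE := S.mem_E S.lk.sN
  obtain ⟨t, ht⟩ := hijk
  have ht' : π (⟨ρ1, hρ1⟩ ^ i * ⟨ρ2, hρ2⟩ ^ j * ⟨ρ3, hρ3⟩ ^ k) = π (⟨sh, hsE⟩ ^ t) := by
    rw [map_mul, map_mul, map_pow, map_pow, map_pow, map_zpow, S.lk.pi_s hsE]
    exact ht.symm
  have h1 : π ((⟨ρ1, hρ1⟩ ^ i * ⟨ρ2, hρ2⟩ ^ j * ⟨ρ3, hρ3⟩ ^ k) * (⟨sh, hsE⟩ ^ t)⁻¹) = 1 := by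
    rw [map_mul, map_inv, ht', mul_inv_cancel]
  rw [S.lin.ker] at h1
  obtain ⟨c, hc⟩ := h1
  have hR : ∀ v, (ρ1 ^ i) ((ρ2 ^ j) ((ρ3 ^ k) v)) = c • (sh ^ t) v := by
    intro v
    have h2 := hc ((sh ^ t) v)
    change (ρ1 ^ i) ((ρ2 ^ j) ((ρ3 ^ k) ((sh ^ t)⁻¹ ((sh ^ t) v)))) = c • (sh ^ t) v at h2
    rwa [show (sh ^ t)⁻¹ ((sh ^ t) v) = v from LinearEquiv.symm_apply_apply _ v] at h2
  -- powers of `sh`
  have hs2 : ∀ v, (sh ^ t) ((sh ^ t) v) = ((sh * sh) ^ t) v := by
    intro v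
    rw [(Commute.refl sh).mul_zpow]
    rfl
  have hzfix : ∀ (g : V ≃ₗ[F] V) (v : V), g v = v → ∀ t : ℤ, (g ^ t) v = v := by
    intro g v hgv t
    have hinv : g⁻¹ v = v := by
      nth_rewrite 1 [← hgv]
      exact LinearEquiv.symm_apply_apply g v
    induction t with
    | zero => rfl
    | succ t ih => rw [zpow_add_one]; change (g ^ (t : ℤ)) (g v) = v; rw [hgv, ih]
    | pred t ih => rw [zpow_sub_one]; change (g ^ (-(t : ℤ))) (g⁻¹ v) = v; rw [hinv, ih]
  have hzneg : ∀ (g : V ≃ₗ[F] V) (v : V), g v = -v → ∀ t : ℤ, (g ^ t) v = (-1 : F) ^ t • v := by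
    intro g v hgv t
    have hinv : g⁻¹ v = -v := by
      have : g⁻¹ (g v) = v := LinearEquiv.symm_apply_apply g v
      rw [hgv, map_neg] at this
      exact neg_eq_iff_eq_neg.1 this
    have h1 : (-1 : F) ≠ 0 := neg_ne_zero.2 one_ne_zero
    induction t with
    | zero => simp
    | succ t ih =>
      rw [zpow_add_one]; change (g ^ (t : ℤ)) (g v) = _
      rw [hgv, map_neg, ih, zpow_add_one₀ h1, mul_neg, mul_one, neg_smul]
    | pred t ih =>
      rw [zpow_sub_one]; change (g ^ (-(t : ℤ))) (g⁻¹ v) = _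
      rw [hinv, map_neg, ih, zpow_sub_one₀ h1, inv_neg, inv_one, mul_neg, mul_one, neg_smul]
  have hRw : c • (sh ^ t) w = w := by rw [← hR, hpf ρ3 w hw3, hpf ρ2 w hw2, hpf ρ1 w hw1]
  have hRv : c • (sh ^ t) v0 = v0 := by
    rw [← hR, hpf ρ3 v0 (hm3 v0 hv p3), hpf ρ2 v0 (hm2 v0 hv p2), hpf ρ1 v0 (hm1 v0 hv p1)]
  have hsw : (sh * sh) w = -w := hw'
  have hsv : (sh * sh) v0 = v0 := sq_of S B hv.1
  have e1 : (c * c * (-1 : F) ^ t) • w = w := by
    have h2 : c • (sh ^ t) (c • (sh ^ t) w) = w := by rw [hRw, hRw]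
    rw [map_smul, hs2, hzneg _ _ hsw, smul_smul, smul_smul] at h2
    exact h2
  have e2 : (c * c) • v0 = v0 := by
    have h2 : c • (sh ^ t) (c • (sh ^ t) v0) = v0 := by rw [hRv, hRv]
    rw [map_smul, hs2, hzfix _ _ hsv, smul_smul] at h2
    exact h2
  have e3 : c * c = 1 := by
    have h3 : (c * c - 1) • v0 = 0 := by rw [sub_smul, e2, one_smul, sub_self]
    exact sub_eq_zero.1 ((smul_eq_zero.1 h3).resolve_right hv0)
  have e4 : (-1 : F) ^ t = 1 := by
    rw [e3, one_mul] at e1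
    have h3 : ((-1 : F) ^ t - 1) • w = 0 := by rw [sub_smul, e1, one_smul, sub_self]
    exact sub_eq_zero.1 ((smul_eq_zero.1 h3).resolve_right hw)
  -- `t` is even
  have ht2 : Even t := by
    rcases Int.even_or_odd t with he | ho
    · exact he
    · exfalso
      rw [ho.neg_one_zpow] at e4
      apply two
      linear_combination -e4
  obtain ⟨t', ht2⟩ := ht2
  have hsM : ∀ v, InM ε sh n1 n2 v → (sh ^ t) v = v := by
    intro v hv
    rw [ht2, zpow_add]
    change (sh ^ t') ((sh ^ t') v) = v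
    have : (sh ^ t') ((sh ^ t') v) = ((sh * sh) ^ t') v := by
      rw [(Commute.refl sh).mul_zpow]
      rfl
    rw [this]
    exact hzfix _ _ (sq_of S B hv.1) t'
  have hc1 : c = 1 := by
    rw [hsM v0 hv] at hRv
    have h3 : (c - 1) • v0 = 0 := by rw [sub_smul, hRv, one_smul, sub_self]
    exact sub_eq_zero.1 ((smul_eq_zero.1 h3).resolve_right hv0)
  have hne : ∀ u, Q u ≠ 0 → u ≠ 0 := fun u hq h0 => hq (by rw [h0, map_zero])
  refine ⟨hpar i u1 (hne u1 q1) ?_, hpar j u2 (hne u2 q2) ?_, hpar k u3 (hne u3 q3) ?_⟩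
  · have h2 := hR u1
    rw [hpf ρ3 u1 (hm3 u1 hu1 (by rw [polar_comm, p13])), hpf ρ2 u1 (hm2 u1 hu1 (by rw [polar_comm, p12])),
      hpn ρ1 u1 hn1, hsM u1 hu1, hc1, one_smul] at h2
    exact h2
  · have h2 := hR u2
    rw [hpf ρ3 u2 (hm3 u2 hu2 (by rw [polar_comm, p23])), hpn ρ2 u2 hn2, map_smul,
      hpf ρ1 u2 (hm1 u2 hu2 p12), hsM u2 hu2, hc1, one_smul] at h2
    exact h2
  · have h2 := hR u3
    rw [hpn ρ3 u3 hn3, map_smul, map_smul, hpf ρ2 u3 (hm2 u3 hu3 p23), hpf ρ1 u3 (hm1 u3 hu3 p13), hsM u3 hu3, hc1,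
      one_smul] at h2
    exact h2

end main

end Cfsg.Agent.H100.C3
end

private theorem dce_aaed5cb992c5 : _root_.True := by
  try have : _root_.True := by simp only [_root_.Cfsg.Agent.H100.C3.AZ.rf.eq_1]
  exact _root_.True.intro
end

-- part: H512/Co3/Main
section
prune_inst 0x415604160456200000000009001000000280001000000000008200404000804620902200000000404020a000000040000001000a000000000000004000000010008800004a1080000000086000080000000000000000000000000000000000004000000000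
set_option linter.all false
open scoped Cfsg.Agent.FastGrp

-- part: H512/Co3/Sit
section
/-!
# S1920, case B: the orthogonal situation (helper512)

`Sit z act B` : the centraliser of `z` in `Γ` acts by similarities on the orthogonal space `V` with kernel `⟨z⟩`, and
every product of two reflections `r_u r_v` with `B(u,u) B(v,v)` a square is induced.

Tools for the configuration `CB`: `mem_N0` (a `2`-element of `ker ψ` normalising `N0` is in `N0`), `psi_one` (an element
commuting modulo `⟨z⟩` with enough elements is in `ker ψ`), `no16` (`S₆` has no elementary abelian subgroup of order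
`16`), `Orth.expand` (orthogonal bases).
-/

set_option autoImplicit false

open Subgroup

namespace Cfsg.Agent.H512.Co3

open Cfsg.Agent.H13.Co3 (CB)

section perm

open Equiv Equiv.Perm Pointwise

/-- a permutation of six points commuting with all even permutations is trivial -/
theorem perm_one (σ : Perm (Fin 6)) (h : ∀ π : Perm (Fin 6), sign π = 1 → σ * π = π * σ) : σ = 1 := by
  by_contra hne
  obtain ⟨i, hi⟩ : ∃ i, σ i ≠ i := by
    by_contra hc
    push Not at hc
    exact hne (Equiv.ext fun i => by simpa using hc i)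
  obtain ⟨k, l, hkl, hki, hkj, hli, hlj⟩ : ∃ k l : Fin 6, k ≠ l ∧ k ≠ i ∧ k ≠ σ i ∧ l ≠ i ∧ l ≠ σ i := by
    clear hi
    generalize σ i = j
    revert i j
    decide +kernel
  have hs : sign (swap (σ i) k * swap k l) = 1 := by
    rw [Perm.sign_mul, sign_swap hkj.symm, sign_swap hkl]; decide
  have := congrArg (fun π : Perm (Fin 6) => π i) (h _ hs)
  simp only [Perm.mul_apply] at this
  rw [swap_apply_of_ne_of_ne (x := i) hki.symm hli.symm, swap_apply_of_ne_of_ne (x := i) hi.symm hki.symm,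
    swap_apply_of_ne_of_ne (x := σ i) hkj.symm hlj.symm, swap_apply_left] at this
  exact hkj this.symm

/-- `S₆` has no elementary abelian subgroup of order `16` -/
theorem no16 {A : Type*} [Group A] (f : A →* Perm (Fin 6)) (hf : Function.Injective f) (h2 : ∀ a : A, a * a = 1)
    (hA : 16 ≤ Nat.card A) : False := by
  have : Finite A := Finite.of_injective f hf
  have : Fact (Nat.Prime 2) := ⟨Nat.prime_two⟩
  have hcr : Nat.card f.range = Nat.card A := (Nat.card_congr (MonoidHom.ofInjective hf).toEquiv).symm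
  have hp : IsPGroup 2 A := fun a => ⟨1, by rw [pow_one, pow_two]; exact h2 a⟩
  obtain ⟨k, hk⟩ := (IsPGroup.iff_card).1 hp
  have h720 : Nat.card (Perm (Fin 6)) = 720 := by
    rw [Nat.card_eq_fintype_card, Fintype.card_perm]; rfl
  have hd : Nat.card A ∣ 720 := by
    rw [← h720, ← hcr]; exact Subgroup.card_subgroup_dvd_card _
  have hk4 : k ≤ 4 := by
    by_contra hlt
    push Not at hlt
    have h32 : (2 : ℕ) ^ 5 ∣ 720 := (pow_dvd_pow 2 hlt).trans (hk ▸ hd)
    revert h32; decide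
  have hk16 : Nat.card A = 16 := by
    refine le_antisymm ?_ hA
    rw [hk]
    calc 2 ^ k ≤ 2 ^ 4 := Nat.pow_le_pow_right (by norm_num) hk4
      _ = 16 := by norm_num
  have hpr : IsPGroup 2 f.range := by
    rintro ⟨_, a, rfl⟩
    refine ⟨1, Subtype.ext ?_⟩
    rw [pow_one, pow_two]
    simp only [Subgroup.coe_mul, Subgroup.coe_one]
    rw [← map_mul, h2, map_one]
  obtain ⟨Q, hQ⟩ := hpr.exists_le_sylow
  have hQc : Nat.card (Q : Subgroup (Perm (Fin 6))) ≤ 16 := by
    obtain ⟨l, hl⟩ := (IsPGroup.iff_card).1 Q.2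
    have hd' : Nat.card (Q : Subgroup (Perm (Fin 6))) ∣ 720 := by
      rw [← h720]; exact Subgroup.card_subgroup_dvd_card _
    have hl' : Nat.card (Q : Subgroup (Perm (Fin 6))) = 2 ^ l := hl
    rw [hl'] at hd' ⊢
    have hl4 : l ≤ 4 := by
      by_contra hlt
      push Not at hlt
      have h32 : (2 : ℕ) ^ 5 ∣ 720 := (pow_dvd_pow 2 hlt).trans hd'
      revert h32; decide
    calc 2 ^ l ≤ 2 ^ 4 := Nat.pow_le_pow_right (by norm_num) hl4
      _ = 16 := by norm_num
  have hQe : f.range = (Q : Subgroup (Perm (Fin 6))) := Subgroup.eq_of_le_of_card_ge hQ (by rw [hcr]; omega)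
  -- a four-cycle
  let c : Perm (Fin 6) := swap 0 1 * swap 1 2 * swap 2 3
  have hc4 : c ^ 4 = 1 := by decide
  have hc2 : c * c ≠ 1 := by decide
  have hcp : IsPGroup 2 (zpowers c) := by
    rintro ⟨_, k, rfl⟩
    refine ⟨2, Subtype.ext ?_⟩
    simp only [SubmonoidClass.coe_pow, OneMemClass.coe_one]
    rw [← zpow_natCast, zpow_comm, zpow_natCast]
    norm_num [hc4]
  obtain ⟨R, hR⟩ := hcp.exists_le_sylow
  obtain ⟨g, hg⟩ := MulAction.exists_smul_eq (Perm (Fin 6)) Q R
  have hcR : c ∈ (g • Q : Sylow 2 (Perm (Fin 6))) := by rw [hg]; exact hR (mem_zpowers c)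
  rw [Sylow.smul_def] at hcR
  have hcR' : c ∈ MulAut.conj g • (Q : Subgroup (Perm (Fin 6))) := hcR
  rw [← hQe, mem_smul_pointwise_iff_exists] at hcR'
  obtain ⟨_, ⟨a, rfl⟩, ha⟩ := hcR'
  apply hc2
  rw [← ha, ← smul_mul', ← map_mul, h2, map_one, smul_one]

/-- a non-trivial subgroup normalised by `A₆` contains `A₆` -/
theorem even_le (M : Subgroup (Perm (Fin 6))) (hn : ∀ π : Perm (Fin 6), sign π = 1 → ∀ m ∈ M, π * m * π⁻¹ ∈ M)
    {m : Perm (Fin 6)} (hm : m ∈ M) (hm1 : m ≠ 1) : ∀ π : Perm (Fin 6), sign π = 1 → π ∈ M := by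
  obtain ⟨π, hπ, hc⟩ : ∃ π : Perm (Fin 6), sign π = 1 ∧ m * π ≠ π * m := by
    by_contra hcon
    push Not at hcon
    exact hm1 (perm_one m hcon)
  have : IsSimpleGroup (alternatingGroup (Fin 6)) := alternatingGroup.isSimpleGroup (by simp)
  let M' : Subgroup (alternatingGroup (Fin 6)) := M.comap (alternatingGroup (Fin 6)).subtype
  have hM' : M'.Normal := ⟨fun x hx g => hn g g.2 x hx⟩
  rcases hM'.eq_bot_or_eq_top with h | h
  · exfalso
    have hcm : m * (π * m⁻¹ * π⁻¹) ∈ M := mul_mem hm (hn π hπ _ (inv_mem hm))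
    have hce : sign (m * (π * m⁻¹ * π⁻¹)) = 1 := by
      simp only [Perm.sign_mul, Perm.sign_inv, hπ]
      simp
    have h1 : (⟨m * (π * m⁻¹ * π⁻¹), hce⟩ : alternatingGroup (Fin 6)) ∈ M' := hcm
    rw [h, mem_bot, Subtype.ext_iff] at h1
    apply hc
    have h1' : m * (π * m⁻¹ * π⁻¹) = 1 := h1
    calc m * π = m * (π * m⁻¹ * π⁻¹) * (π * m) := by group
      _ = π * m := by rw [h1', one_mul]
  · intro ρ hρ
    have h1 : (⟨ρ, hρ⟩ : alternatingGroup (Fin 6)) ∈ M' := by rw [h]; exact mem_top _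
    exact h1

end perm

section tools

open Equiv.Perm

variable {G : Type*} [Group G] {P N0 : Subgroup G} {z s : G} {ψ : ↥(normalizer (P : Set G)) →* Equiv.Perm (Fin 6)}

theorem zN (C : CB P N0 z s ψ) : z ∈ N0 := C.PN C.zP

theorem z_comm (C : CB P N0 z s ψ) {n : G} (hn : n ∈ N0) : n * z = z * n := by
  rw [← C.s_sq, ← mul_assoc, C.s_cen n hn, mul_assoc, C.s_cen n hn, mul_assoc]

theorem psi_z (C : CB P N0 z s ψ) (h : z ∈ normalizer (P : Set G)) : ψ ⟨z, h⟩ = 1 := C.psi_N z (zN C)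

/-- **a `2`-element of `ker ψ` normalising `N0` is in `N0`** -/
theorem mem_N0 (C : CB P N0 z s ψ) {g : G} (hg : g ∈ normalizer (P : Set G))
    (hgN : g ∈ normalizer (N0 : Set G)) {k : ℕ} (h2 : g ^ 2 ^ k = 1) (h1 : ψ ⟨g, hg⟩ = 1) : g ∈ N0 := by
  have : Fact (Nat.Prime 2) := ⟨Nat.prime_two⟩
  have hz2 : IsPGroup 2 (zpowers g) := by
    rintro ⟨_, j, rfl⟩
    refine ⟨k, Subtype.ext ?_⟩
    simp only [SubmonoidClass.coe_pow, OneMemClass.coe_one]
    rw [← zpow_natCast, zpow_comm, zpow_natCast, h2, one_zpow]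
  have hQ2 : IsPGroup 2 (zpowers g ⊔ N0 : Subgroup G) :=
    IsPGroup.to_sup_of_normal_right' hz2 C.N_two (by rw [zpowers_le]; exact hgN)
  let K : Subgroup G := ψ.ker.map (normalizer (P : Set G)).subtype
  have hQK : zpowers g ⊔ N0 ≤ K := by
    refine sup_le ?_ ?_
    · rw [zpowers_le]
      exact ⟨⟨g, hg⟩, h1, rfl⟩
    · intro n hn
      exact ⟨⟨n, C.NH hn⟩, C.psi_N n hn, rfl⟩
  obtain ⟨m, hm, hcard⟩ := C.ker_card
  have hKc : Nat.card K = 64 * m := by
    rw [Subgroup.card_map_of_injective (normalizer (P : Set G)).subtype_injective]; exact hcard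
  have hm0 : 0 < m := hm.pos
  have hKf : Finite K := Nat.finite_of_card_ne_zero (by rw [hKc]; positivity)
  have hQf : Finite (zpowers g ⊔ N0 : Subgroup G) := Finite.of_injective _ (Subgroup.inclusion_injective hQK)
  obtain ⟨l, hl⟩ := (IsPGroup.iff_card).1 hQ2
  have hdvd : Nat.card (zpowers g ⊔ N0 : Subgroup G) ∣ 64 * m := by
    rw [← hKc]; exact Subgroup.card_dvd_of_le hQK
  rw [hl] at hdvd
  have h64 : 2 ^ l ∣ 64 := (Nat.Coprime.pow_left l (Nat.coprime_two_left.2 hm)).dvd_of_dvd_mul_right hdvd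
  have hle : Nat.card (zpowers g ⊔ N0 : Subgroup G) ≤ Nat.card N0 := by
    rw [hl, C.card]; exact Nat.le_of_dvd (by norm_num) h64
  have he : N0 = zpowers g ⊔ N0 := Subgroup.eq_of_le_of_card_ge le_sup_right hle
  rw [he]
  exact le_sup_left (a := zpowers g) (mem_zpowers g)

/-- **an element commuting modulo `⟨z⟩` with elements inducing all even permutations is in `ker ψ`** -/
theorem psi_one (C : CB P N0 z s ψ) {g : G} (hg : g ∈ normalizer (P : Set G))
    (h : ∀ π : Equiv.Perm (Fin 6), sign π = 1 → ∃ k : ↥(normalizer (P : Set G)), ψ k = π ∧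
      (g * k = k * g ∨ g * k = z * (k * g))) : ψ ⟨g, hg⟩ = 1 := by
  apply perm_one
  intro π hπ
  obtain ⟨k, rfl, hk⟩ := h π hπ
  rcases hk with hk | hk
  · rw [← map_mul, ← map_mul]
    congr 1
    exact Subtype.ext hk
  · have hzH := C.NH (zN C)
    have e : (⟨g, hg⟩ : ↥(normalizer (P : Set G))) * k = ⟨z, hzH⟩ * (k * ⟨g, hg⟩) := Subtype.ext hk
    rw [← map_mul, e, map_mul, psi_z C, one_mul, map_mul]

end tools



section forms

open Module

variable {F V : Type*} [Field F] [AddCommGroup V] [Module F V]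

/-- the reflection in `u` -/
noncomputable def rf (B : V →ₗ[F] V →ₗ[F] F) (u w : V) : V := w - (2 * B u w / B u u) • u

theorem rf_self {B : V →ₗ[F] V →ₗ[F] F} {u : V} (h : B u u ≠ 0) : rf B u u = -u := by
  unfold rf
  rw [mul_div_assoc, div_self h, mul_one, two_smul]; abel

theorem rf_orth {B : V →ₗ[F] V →ₗ[F] F} {u w : V} (h : B u w = 0) : rf B u w = w := by
  unfold rf
  rw [h, mul_zero, zero_div, zero_smul, sub_zero]

theorem rf_smul (B : V →ₗ[F] V →ₗ[F] F) (u w : V) (a : F) : rf B u (a • w) = a • rf B u w := by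
  unfold rf
  rw [map_smul, smul_sub, smul_smul, smul_eq_mul]
  congr 2
  ring

theorem rf_neg (B : V →ₗ[F] V →ₗ[F] F) (u w : V) : rf B u (-w) = -rf B u w := by
  have := rf_smul B u w (-1)
  simpa using this

/-- pairwise orthogonal non-isotropic vectors -/
structure Orth (B : V →ₗ[F] V →ₗ[F] F) {ι : Type*} (f : ι → V) : Prop where
  off : ∀ i j, i ≠ j → B (f i) (f j) = 0
  on : ∀ i, B (f i) (f i) ≠ 0

namespace Orth

variable {B : V →ₗ[F] V →ₗ[F] F} {ι : Type*} {f : ι → V}

theorem B_sum [Fintype ι] (h : Orth B f) (a : ι → F) (j : ι) : B (f j) (∑ i, a i • f i) = a j * B (f j) (f j) := by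
  classical
  rw [map_sum, Finset.sum_eq_single j]
  · rw [map_smul, smul_eq_mul]
  · intro i _ hij
    rw [map_smul, h.off j i (Ne.symm hij), smul_zero]
  · intro hj; exact absurd (Finset.mem_univ j) hj

theorem linInd [Fintype ι] (h : Orth B f) : LinearIndependent F f := by
  rw [Fintype.linearIndependent_iff]
  intro a ha j
  have h1 := h.B_sum a j
  rw [ha, map_zero] at h1
  exact (mul_eq_zero.1 h1.symm).resolve_right (h.on j)

theorem expand [FiniteDimensional F V] [Fintype ι] (h : Orth B f) (hc : Fintype.card ι = finrank F V) (v : V) :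
    v = ∑ i, (B (f i) v / B (f i) (f i)) • f i := by
  have hsp : Submodule.span F (Set.range f) = ⊤ := h.linInd.span_eq_top_of_card_eq_finrank' hc
  have hv : v ∈ Submodule.span F (Set.range f) := by rw [hsp]; exact Submodule.mem_top
  obtain ⟨a, ha⟩ := (Submodule.mem_span_range_iff_exists_fun F).1 hv
  have h2 : ∀ j, B (f j) v / B (f j) (f j) = a j := fun j => by
    rw [← ha, h.B_sum a j, mul_div_assoc, div_self (h.on j), mul_one]
  simp only [h2]
  exact ha.symm

theorem ext_vec [FiniteDimensional F V] [Fintype ι] (h : Orth B f) (hc : Fintype.card ι = finrank F V) {v w : V}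
    (hvw : ∀ i, B (f i) v = B (f i) w) : v = w := by
  rw [h.expand hc v, h.expand hc w]
  simp only [hvw]

theorem ext_map [FiniteDimensional F V] [Fintype ι] (h : Orth B f) (hc : Fintype.card ι = finrank F V) {φ φ' : V →ₗ[F] V}
    (he : ∀ i, φ (f i) = φ' (f i)) (v : V) : φ v = φ' v := by
  rw [h.expand hc v]
  simp only [map_sum, map_smul, he]

end Orth

/-- **The orthogonal situation.** -/
structure Sit {Γ : Type*} [Group Γ] (z : Γ) (act : Γ → V →ₗ[F] V) (B : V →ₗ[F] V →ₗ[F] F) : Prop where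
  two : (2 : F) ≠ 0
  symm : ∀ u v, B u v = B v u
  nondeg : ∀ u, (∀ v, B u v = 0) → u = 0
  one : act 1 = LinearMap.id
  mul : ∀ g h : Γ, g * z = z * g → h * z = z * h → ∀ v, act (g * h) v = act g (act h v)
  sim : ∀ g : Γ, g * z = z * g → ∃ μ : F, μ ≠ 0 ∧ ∀ u v, B (act g u) (act g v) = μ * B u v
  act_z : act z = LinearMap.id
  ker : ∀ g : Γ, g * z = z * g → (∀ v, act g v = v) → g = 1 ∨ g = z
  lift : ∀ u v : V, ∀ c : F, c ≠ 0 → c * c = B u u * B v v →
    ∃ g : Γ, g * z = z * g ∧ ∀ w, act g w = rf B u (rf B v w)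

namespace Sit

variable {Γ : Type*} [Group Γ] {z : Γ} {act : Γ → V →ₗ[F] V} {B : V →ₗ[F] V →ₗ[F] F}

theorem one' (S : Sit z act B) (v : V) : act 1 v = v := by rw [S.one]; rfl

theorem act_z' (S : Sit z act B) (v : V) : act z v = v := by rw [S.act_z]; rfl

theorem inv_comm {g : Γ} (hg : g * z = z * g) : g⁻¹ * z = z * g⁻¹ := by
  rw [inv_mul_eq_iff_eq_mul, ← mul_assoc, hg, mul_inv_cancel_right]

theorem mul_comm' {g h : Γ} (hg : g * z = z * g) (hh : h * z = z * h) : g * h * z = z * (g * h) := by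
  rw [mul_assoc, hh, ← mul_assoc, hg, mul_assoc]

theorem inv_act (S : Sit z act B) {g : Γ} (hg : g * z = z * g) (v : V) : act g⁻¹ (act g v) = v := by
  rw [← S.mul _ _ (inv_comm hg) hg, inv_mul_cancel, S.one']

theorem act_inv (S : Sit z act B) {g : Γ} (hg : g * z = z * g) (v : V) : act g (act g⁻¹ v) = v := by
  rw [← S.mul _ _ hg (inv_comm hg), mul_inv_cancel, S.one']

theorem act_inj (S : Sit z act B) {g : Γ} (hg : g * z = z * g) {v w : V} (h : act g v = act g w) : v = w := by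
  rw [← S.inv_act hg v, h, S.inv_act hg]

/-- two elements of `C(z)` with the same action differ by an element of `⟨z⟩` -/
theorem same (S : Sit z act B) {g h : Γ} (hg : g * z = z * g) (hh : h * z = z * h) (e : ∀ v, act g v = act h v) :
    g = h ∨ g = z * h := by
  have h1 : g * h⁻¹ * z = z * (g * h⁻¹) := mul_comm' hg (inv_comm hh)
  have h2 : ∀ v, act (g * h⁻¹) v = v := fun v => by
    rw [S.mul _ _ hg (inv_comm hh), e, S.act_inv hh]
  rcases S.ker _ h1 h2 with h3 | h3
  · left; exact mul_inv_eq_one.1 h3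
  · right; exact mul_inv_eq_iff_eq_mul.1 h3

theorem pow_comm' {g : Γ} (hg : g * z = z * g) (k : ℕ) : g ^ k * z = z * g ^ k := (show Commute g z from hg).pow_left k

/-- if `g` acts with order dividing `2 ^ k` then it is a `2`-element -/
theorem two_elt (S : Sit z act B) (hz : z * z = 1) {g : Γ} (hg : g * z = z * g) {k : ℕ}
    (h : ∀ v, act (g ^ 2 ^ k) v = v) : g ^ 2 ^ (k + 1) = 1 := by
  rw [pow_succ, pow_mul]
  rcases S.ker _ (pow_comm' hg _) h with h1 | h1
  · rw [h1, one_pow]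
  · rw [h1, pow_two, hz]

end Sit

/-- **The configuration in the orthogonal situation.** -/
structure Big {Γ : Type*} [Group Γ] (P N0 : Subgroup Γ) (z s : Γ)
    (ψ : ↥(normalizer (P : Set Γ)) →* Equiv.Perm (Fin 6)) (act : Γ → V →ₗ[F] V) (B : V →ₗ[F] V →ₗ[F] F) : Prop where
  S : Sit z act B
  C : CB P N0 z s ψ
  iso : ∀ n ∈ N0, ∀ u v, B (act n u) (act n v) = B u v

/-- common eigenvectors of `N0` -/
def Eig {Γ : Type*} [Group Γ] (N0 : Subgroup Γ) (act : Γ → V →ₗ[F] V) (u : V) : Prop :=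
  ∀ n ∈ N0, act n u = u ∨ act n u = -u

namespace Big

variable {Γ : Type*} [Group Γ] {P N0 : Subgroup Γ} {z s : Γ} {ψ : ↥(normalizer (P : Set Γ)) →* Equiv.Perm (Fin 6)}
  {act : Γ → V →ₗ[F] V} {B : V →ₗ[F] V →ₗ[F] F}

theorem nz (h : Big P N0 z s ψ act B) {n : Γ} (hn : n ∈ N0) : n * z = z * n := z_comm h.C hn

theorem act_sq (h : Big P N0 z s ψ act B) {n : Γ} (hn : n ∈ N0) (v : V) : act n (act n v) = v := by
  rw [← h.S.mul _ _ (h.nz hn) (h.nz hn)]
  rcases h.C.sq n hn with e | e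
  · rw [e, h.S.one']
  · rw [e, h.S.act_z']

theorem act_comm (h : Big P N0 z s ψ act B) {n m : Γ} (hn : n ∈ N0) (hm : m ∈ N0) (v : V) :
    act n (act m v) = act m (act n v) := by
  rw [← h.S.mul _ _ (h.nz hn) (h.nz hm), ← h.S.mul _ _ (h.nz hm) (h.nz hn)]
  rcases h.C.comm n hn m hm with e | e
  · rw [e]
  · rw [e, h.S.mul _ _ rfl (Sit.mul_comm' (h.nz hm) (h.nz hn)), h.S.act_z']

theorem adj (h : Big P N0 z s ψ act B) {n : Γ} (hn : n ∈ N0) (u v : V) : B (act n u) v = B u (act n v) := by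
  rw [← h.iso n hn u (act n v), h.act_sq hn]

/-- **KEY (*)**: an element of `C(z)` commuting with the action of `N0` normalises `P` and `N0` -/
theorem key (h : Big P N0 z s ψ act B) {g : Γ} (hz : g * z = z * g)
    (hc : ∀ n ∈ N0, ∀ v, act g (act n v) = act n (act g v)) :
    g ∈ normalizer (P : Set Γ) ∧ g ∈ normalizer (N0 : Set Γ) := by
  have h1 : ∀ n ∈ N0, g * n = n * g ∨ g * n = z * (n * g) := by
    intro n hn
    apply h.S.same (Sit.mul_comm' hz (h.nz hn)) (Sit.mul_comm' (h.nz hn) hz)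
    intro v
    rw [h.S.mul _ _ hz (h.nz hn), h.S.mul _ _ (h.nz hn) hz, hc n hn]
  refine ⟨h.C.key h1, ?_⟩
  have hf : Finite N0 := Nat.finite_of_card_ne_zero (by rw [h.C.card]; norm_num)
  have : Finite ((N0 : Set Γ) : Set Γ) := hf
  apply mem_normalizer_fintype
  intro n hn
  rcases h1 n hn with e | e
  · rw [e, mul_inv_cancel_right]; exact hn
  · rw [e, mul_assoc, mul_inv_cancel_right]; exact mul_mem (zN h.C) hn

end Big

end forms

end Cfsg.Agent.H512.Co3
end

-- part: H512/Co3/Frame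
section
/-!
# S1920, case B: the frame (helper512)

`exists_basis` : an orthogonal basis of common eigenvectors of `N0`.  `exists_class` : three of them have the same
character.
-/

set_option autoImplicit false

open Subgroup

namespace Cfsg.Agent.H512.Co3

open Cfsg.Agent.H13.Co3 (CB)
open Module

variable {F V : Type*} [Field F] [AddCommGroup V] [Module F V]
variable {Γ : Type*} [Group Γ] {P N0 : Subgroup Γ} {z s : Γ} {ψ : ↥(normalizer (P : Set Γ)) →* Equiv.Perm (Fin 6)}
  {act : Γ → V →ₗ[F] V} {B : V →ₗ[F] V →ₗ[F] F}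

namespace Big

/-- the orthogonal complement of a family contains two non-orthogonal common eigenvectors with the same character -/
theorem exists_pair (h : Big P N0 z s ψ act B) {ι : Type*} {f : ι → V} (he : ∀ i, Eig N0 act (f i)) {w₁ w₂ : V}
    (h1 : ∀ i, B (f i) w₁ = 0) (h2 : ∀ i, B (f i) w₂ = 0) (h12 : B w₁ w₂ ≠ 0) (T : Finset Γ) (hT : ∀ n ∈ T, n ∈ N0) :
    ∃ u₁ u₂ : V, (∀ i, B (f i) u₁ = 0) ∧ (∀ i, B (f i) u₂ = 0) ∧ B u₁ u₂ ≠ 0 ∧
      ∀ n ∈ T, (act n u₁ = u₁ ∧ act n u₂ = u₂) ∨ (act n u₁ = -u₁ ∧ act n u₂ = -u₂) := by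
  classical
  induction T using Finset.induction_on with
  | empty => exact ⟨w₁, w₂, h1, h2, h12, by simp⟩
  | insert m T hmT ih =>
    obtain ⟨u₁, u₂, g1, g2, g12, gT⟩ := ih fun n hn => hT n (Finset.mem_insert_of_mem hn)
    have hm : m ∈ N0 := hT m (Finset.mem_insert_self _ _)
    have horth : ∀ u : V, (∀ i, B (f i) u = 0) → ∀ i, B (f i) (act m u) = 0 := by
      intro u hu i
      rw [← h.adj hm]
      rcases he i m hm with e | e
      · rw [e, hu]
      · rw [e, map_neg, LinearMap.neg_apply, hu, neg_zero]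
    have hmm : ∀ n ∈ T, ∀ v, act n (act m v) = act m (act n v) := fun n hn v =>
      h.act_comm (hT n (Finset.mem_insert_of_mem hn)) hm v
    have key : B (u₁ + act m u₁) (u₂ + act m u₂) + B (u₁ - act m u₁) (u₂ - act m u₂) = 2 * (2 * B u₁ u₂) := by
      simp only [map_add, map_sub, LinearMap.add_apply, LinearMap.sub_apply]
      rw [h.iso m hm]
      ring
    have h4 : (2 : F) * (2 * B u₁ u₂) ≠ 0 := mul_ne_zero h.S.two (mul_ne_zero h.S.two g12)
    rcases eq_or_ne (B (u₁ + act m u₁) (u₂ + act m u₂)) 0 with h0 | h0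
    · rw [h0, zero_add] at key
      refine ⟨u₁ - act m u₁, u₂ - act m u₂, fun i => by rw [map_sub, g1, horth _ g1, sub_zero],
        fun i => by rw [map_sub, g2, horth _ g2, sub_zero], by rw [key]; exact h4, ?_⟩
      intro n hn
      rcases Finset.mem_insert.1 hn with rfl | hn
      · right
        constructor
        · rw [map_sub, h.act_sq hm, neg_sub]
        · rw [map_sub, h.act_sq hm, neg_sub]
      · rcases gT n hn with ⟨e1, e2⟩ | ⟨e1, e2⟩
        · left
          constructor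
          · rw [map_sub, hmm n hn, e1]
          · rw [map_sub, hmm n hn, e2]
        · right
          constructor
          · rw [map_sub, hmm n hn, e1, map_neg]; abel
          · rw [map_sub, hmm n hn, e2, map_neg]; abel
    · refine ⟨u₁ + act m u₁, u₂ + act m u₂, fun i => by rw [map_add, g1, horth _ g1, add_zero],
        fun i => by rw [map_add, g2, horth _ g2, add_zero], h0, ?_⟩
      intro n hn
      rcases Finset.mem_insert.1 hn with rfl | hn
      · left
        constructor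
        · rw [map_add, h.act_sq hm, add_comm]
        · rw [map_add, h.act_sq hm, add_comm]
      · rcases gT n hn with ⟨e1, e2⟩ | ⟨e1, e2⟩
        · left
          constructor
          · rw [map_add, hmm n hn, e1]
          · rw [map_add, hmm n hn, e2]
        · right
          constructor
          · rw [map_add, hmm n hn, e1, map_neg]; abel
          · rw [map_add, hmm n hn, e2, map_neg]; abel

/-- the projection to the orthogonal complement -/
theorem proj_orth {ι : Type*} [Fintype ι] {f : ι → V} (hf : Orth B f) (v : V) (j : ι) :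
    B (f j) (v - ∑ i, (B (f i) v / B (f i) (f i)) • f i) = 0 := by
  rw [map_sub, hf.B_sum (fun i => B (f i) v / B (f i) (f i)), div_mul_cancel₀ _ (hf.on j), sub_self]

/-- **an orthogonal basis of common eigenvectors of `N0`** -/
theorem exists_basis [FiniteDimensional F V] (h : Big P N0 z s ψ act B) :
    ∀ k ≤ finrank F V, ∃ f : Fin k → V, Orth B f ∧ ∀ i, Eig N0 act (f i) := by
  intro k
  induction k with
  | zero => exact fun _ => ⟨Fin.elim0, ⟨fun i => i.elim0, fun i => i.elim0⟩, fun i => i.elim0⟩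
  | succ k ih =>
    intro hk
    obtain ⟨f, hf, he⟩ := ih (by omega)
    -- a vector outside the span
    obtain ⟨v, hv⟩ : ∃ v, v ∉ Submodule.span F (Set.range f) := by
      by_contra hc
      push Not at hc
      have htop : Submodule.span F (Set.range f) = ⊤ := by
        rw [eq_top_iff]; exact fun v _ => hc v
      have := finrank_range_le_card (R := F) f
      rw [Set.finrank, htop, finrank_top, Fintype.card_fin] at this
      omega
    obtain ⟨w₁, hw₁, hw₁0⟩ : ∃ w, (∀ i, B (f i) w = 0) ∧ w ≠ 0 := by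
      refine ⟨v - ∑ i, (B (f i) v / B (f i) (f i)) • f i, proj_orth hf v, fun h0 => hv ?_⟩
      rw [sub_eq_zero] at h0
      rw [h0]
      exact Submodule.sum_mem _ fun i _ => Submodule.smul_mem _ _ (Submodule.subset_span ⟨i, rfl⟩)
    obtain ⟨v₂, hv₂⟩ : ∃ v₂, B w₁ v₂ ≠ 0 := by
      by_contra hc
      push Not at hc
      exact hw₁0 (h.S.nondeg _ hc)
    have hw₂ : B w₁ (v₂ - ∑ i, (B (f i) v₂ / B (f i) (f i)) • f i) ≠ 0 := by
      rw [map_sub, map_sum, Finset.sum_eq_zero, sub_zero]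
      · exact hv₂
      · intro i _
        rw [map_smul, h.S.symm w₁, hw₁, smul_zero]
    have hfin : Finite N0 := Nat.finite_of_card_ne_zero (by rw [h.C.card]; norm_num)
    have hfin' : ((N0 : Set Γ)).Finite := hfin
    obtain ⟨u₁, u₂, g1, g2, g12, gT⟩ := h.exists_pair he hw₁ (proj_orth hf v₂) hw₂ hfin'.toFinset
      (fun n hn => by simpa using hn)
    have gT' : ∀ n ∈ N0, (act n u₁ = u₁ ∧ act n u₂ = u₂) ∨ (act n u₁ = -u₁ ∧ act n u₂ = -u₂) :=
      fun n hn => gT n (by simpa using hn)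
    -- polarisation
    obtain ⟨u, hu0, huu, hue⟩ : ∃ u, (∀ i, B (f i) u = 0) ∧ B u u ≠ 0 ∧ Eig N0 act u := by
      rcases eq_or_ne (B u₁ u₁) 0 with a1 | a1
      · rcases eq_or_ne (B u₂ u₂) 0 with a2 | a2
        · refine ⟨u₁ + u₂, fun i => by rw [map_add, g1, g2, add_zero], ?_, ?_⟩
          · have e : B (u₁ + u₂) (u₁ + u₂) = 2 * B u₁ u₂ := by
              simp only [map_add, LinearMap.add_apply]
              rw [a1, a2, h.S.symm u₂ u₁]; ring
            rw [e]
            exact mul_ne_zero h.S.two g12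
          · intro n hn
            rcases gT' n hn with ⟨e1, e2⟩ | ⟨e1, e2⟩
            · left; rw [map_add, e1, e2]
            · right; rw [map_add, e1, e2]; abel
        · exact ⟨u₂, g2, a2, fun n hn => (gT' n hn).imp (fun e => e.2) (fun e => e.2)⟩
      · exact ⟨u₁, g1, a1, fun n hn => (gT' n hn).imp (fun e => e.1) (fun e => e.1)⟩
    refine ⟨Fin.cons u f, ⟨?_, ?_⟩, ?_⟩
    · intro i j hij
      induction i using Fin.cases with
      | zero =>
        induction j using Fin.cases with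
        | zero => exact absurd rfl hij
        | succ j => rw [Fin.cons_zero, Fin.cons_succ, h.S.symm, hu0]
      | succ i =>
        induction j using Fin.cases with
        | zero => rw [Fin.cons_zero, Fin.cons_succ, hu0]
        | succ j => rw [Fin.cons_succ, Fin.cons_succ]; exact hf.off i j fun e => hij (by rw [e])
    · intro i
      induction i using Fin.cases with
      | zero => rw [Fin.cons_zero]; exact huu
      | succ i => rw [Fin.cons_succ]; exact hf.on i
    · intro i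
      induction i using Fin.cases with
      | zero => rw [Fin.cons_zero]; exact hue
      | succ i => rw [Fin.cons_succ]; exact he i

/-- the algebra of similitudes of a plane -/
theorem plane_alg {α β γ δ μ ci cj : F} (hci : ci ≠ 0) (hcj : cj ≠ 0) (hμ : μ ≠ 0)
    (h1 : α ^ 2 * ci + β ^ 2 * cj = μ * ci) (h2 : γ ^ 2 * ci + δ ^ 2 * cj = μ * cj)
    (h3 : α * γ * ci + β * δ * cj = 0) : α ^ 2 = δ ^ 2 ∧ (α + δ) * (β * cj + γ * ci) = 0 := by
  have e1 : μ * ci * cj * (α ^ 2 - δ ^ 2) = 0 := by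
    linear_combination (α * γ * ci - β * δ * cj) * h3 - α ^ 2 * ci * h2 + δ ^ 2 * cj * h1
  have e2 : α ^ 2 - δ ^ 2 = 0 :=
    (mul_eq_zero.1 e1).resolve_left (mul_ne_zero (mul_ne_zero hμ hci) hcj)
  refine ⟨sub_eq_zero.1 e2, ?_⟩
  have e3 : (α + δ) * (α - δ) = 0 := by linear_combination e2
  rcases mul_eq_zero.1 e3 with e | e
  · rw [e, zero_mul]
  · have e4 : α = δ := sub_eq_zero.1 e
    subst e4
    have e5 : α * (β * cj + γ * ci) = 0 := by linear_combination h3
    rcases mul_eq_zero.1 e5 with e | e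
    · rw [e]; ring
    · rw [e, mul_zero]

/-- `u` and `v` have the same character -/
def Same (N0 : Subgroup Γ) (act : Γ → V →ₗ[F] V) (u v : V) : Prop := ∀ n ∈ N0, (act n u = u ↔ act n v = v)

theorem coef0 (h : Big P N0 z s ψ act B) {g : Γ}
    (hc : ∀ n ∈ N0, ∀ v, act g (act n v) = act n (act g v)) {u v : V} (hu : Eig N0 act u) (hv : Eig N0 act v)
    (hne : ¬ Same N0 act u v) : B v (act g u) = 0 := by
  unfold Same at hne
  push Not at hne
  obtain ⟨n, hn, hh⟩ := hne
  have h2 := h.S.two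
  have e0 : B v (act g u) = -B v (act g u) := by
    have e1 : B v (act g u) = B (act n v) (act g (act n u)) := by rw [hc n hn, h.iso n hn]
    rcases hh with ⟨a, b⟩ | ⟨a, b⟩
    · have b' := (hv n hn).resolve_left b
      rw [a, b', map_neg, LinearMap.neg_apply] at e1
      exact e1
    · have a' := (hu n hn).resolve_left a
      rw [a', b, map_neg, map_neg] at e1
      exact e1
  have e2 : (2 : F) * B v (act g u) = 0 := by linear_combination e0
  exact (mul_eq_zero.1 e2).resolve_left h2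

theorem Same.symm {N0 : Subgroup Γ} {act : Γ → V →ₗ[F] V} {u v : V} (h : Same N0 act u v) : Same N0 act v u :=
  fun n hn => (h n hn).symm

theorem Same.trans {N0 : Subgroup Γ} {act : Γ → V →ₗ[F] V} {u v w : V} (h : Same N0 act u v)
    (h' : Same N0 act v w) : Same N0 act u w :=
  fun n hn => (h n hn).trans (h' n hn)

/-- the square of a similitude of a plane -/
theorem square_plane [FiniteDimensional F V] (h : Big P N0 z s ψ act B) {ι : Type*} [Fintype ι] {f : ι → V}
    (hf : Orth B f) (hcard : Fintype.card ι = finrank F V) (he : ∀ i, Eig N0 act (f i)) {k : Γ} (hkz : k * z = z * k)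
    (hk : ∀ n ∈ N0, ∀ v, act k (act n v) = act n (act k v)) {i j : ι} (hij : i ≠ j)
    (hs : ∀ l, l ≠ i → l ≠ j → ¬ Same N0 act (f i) (f l) ∧ ¬ Same N0 act (f j) (f l)) :
    ∃ p t : F, act (k * k) (f i) = p • f i + (t * B (f i) (f i)) • f j ∧
      act (k * k) (f j) = (-t * B (f j) (f j)) • f i + p • f j := by
  classical
  have hexp : ∀ m, (m = i ∨ m = j) → act k (f m) = (B (f i) (act k (f m)) / B (f i) (f i)) • f i +
      (B (f j) (act k (f m)) / B (f j) (f j)) • f j := by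
    intro m hm
    apply hf.ext_vec hcard
    intro l
    rw [map_add, map_smul, map_smul, smul_eq_mul, smul_eq_mul]
    rcases eq_or_ne l i with rfl | hli
    · rw [hf.off _ _ hij, mul_zero, add_zero, div_mul_cancel₀ _ (hf.on _)]
    rcases eq_or_ne l j with rfl | hlj
    · rw [hf.off _ _ hli, mul_zero, zero_add, div_mul_cancel₀ _ (hf.on _)]
    · rw [hf.off _ _ hli, hf.off _ _ hlj, mul_zero, mul_zero, add_zero]
      rcases hm with rfl | rfl
      · exact h.coef0 hk (he _) (he _) (hs l hli hlj).1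
      · exact h.coef0 hk (he _) (he _) (hs l hli hlj).2
  obtain ⟨α, β, hα⟩ : ∃ α β : F, act k (f i) = α • f i + β • f j := ⟨_, _, hexp i (Or.inl rfl)⟩
  obtain ⟨γ, δ, hγ⟩ : ∃ γ δ : F, act k (f j) = γ • f i + δ • f j := ⟨_, _, hexp j (Or.inr rfl)⟩
  obtain ⟨μ, hμ, hsim⟩ := h.S.sim k hkz
  have oij := hf.off i j hij
  have oji := hf.off j i hij.symm
  have q1 := hsim (f i) (f i)
  have q2 := hsim (f j) (f j)
  have q3 := hsim (f i) (f j)
  rw [hα] at q1
  rw [hγ] at q2
  rw [hα, hγ] at q3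
  simp only [map_add, map_smul, LinearMap.add_apply, LinearMap.smul_apply, smul_eq_mul, oij, oji] at q1 q2 q3
  obtain ⟨a1, a2⟩ := plane_alg (hf.on i) (hf.on j) hμ (α := α) (β := β) (γ := γ) (δ := δ)
    (by linear_combination q1) (by linear_combination q2) (by linear_combination q3)
  refine ⟨α ^ 2 + β * γ, (α + δ) * β / B (f i) (f i), ?_, ?_⟩
  · rw [h.S.mul _ _ hkz hkz, hα, map_add, map_smul, map_smul, hα, hγ, div_mul_cancel₀ _ (hf.on i)]
    module
  · have e1 : -((α + δ) * β / B (f i) (f i)) * B (f j) (f j) = (α + δ) * γ := by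
      field_simp [hf.on i]
      linear_combination -a2
    rw [e1, h.S.mul _ _ hkz hkz, hγ, map_add, map_smul, map_smul, hα, hγ]
    have e2 : α ^ 2 + β * γ = δ ^ 2 + β * γ := by rw [a1]
    rw [e2]
    module

/-- **three vectors of the basis have the same character** -/
theorem exists_class [FiniteDimensional F V] (h : Big P N0 z s ψ act B) {ι : Type*} [Fintype ι] {f : ι → V}
    (hf : Orth B f) (hcard : Fintype.card ι = finrank F V) (he : ∀ i, Eig N0 act (f i)) :
    ∃ i j l, i ≠ j ∧ i ≠ l ∧ j ≠ l ∧ Same N0 act (f i) (f j) ∧ Same N0 act (f i) (f l) := by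
  classical
  by_contra hcon
  push Not at hcon
  have hsq : ∀ k k' : Γ, (∀ n ∈ N0, k * n = n * k) → (∀ n ∈ N0, k' * n = n * k') → ∀ v,
      act (k * k) (act (k' * k') v) = act (k' * k') (act (k * k) v) := by
    intro k k' hk hk' v
    have hkz : k * z = z * k := hk z (zN h.C)
    have hkz' : k' * z = z * k' := hk' z (zN h.C)
    have hka : ∀ n ∈ N0, ∀ v, act k (act n v) = act n (act k v) := fun n hn v => by
      rw [← h.S.mul _ _ hkz (h.nz hn), hk n hn, h.S.mul _ _ (h.nz hn) hkz]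
    have hka' : ∀ n ∈ N0, ∀ v, act k' (act n v) = act n (act k' v) := fun n hn v => by
      rw [← h.S.mul _ _ hkz' (h.nz hn), hk' n hn, h.S.mul _ _ (h.nz hn) hkz']
    refine hf.ext_map hcard (φ := act (k * k) ∘ₗ act (k' * k')) (φ' := act (k' * k') ∘ₗ act (k * k)) ?_ v
    intro i
    simp only [LinearMap.comp_apply]
    by_cases hi : ∃ j, i ≠ j ∧ Same N0 act (f i) (f j)
    · obtain ⟨j, hij, hs⟩ := hi
      have hs' : ∀ l, l ≠ i → l ≠ j → ¬ Same N0 act (f i) (f l) ∧ ¬ Same N0 act (f j) (f l) := by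
        intro l hli hlj
        have := hcon i j l hij hli.symm hlj.symm hs
        exact ⟨this, fun h' => this (hs.trans h')⟩
      obtain ⟨p, t, e1, e2⟩ := h.square_plane hf hcard he hkz hka hij hs'
      obtain ⟨p', t', e1', e2'⟩ := h.square_plane hf hcard he hkz' hka' hij hs'
      rw [e1', e1, map_add, map_add, map_smul, map_smul, map_smul, map_smul, e1', e1, e2', e2]
      module
    · push Not at hi
      have hone : ∀ g : Γ, (∀ n ∈ N0, ∀ v, act g (act n v) = act n (act g v)) →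
          act g (f i) = (B (f i) (act g (f i)) / B (f i) (f i)) • f i := by
        intro g hg
        apply hf.ext_vec hcard
        intro l
        rw [map_smul, smul_eq_mul]
        rcases eq_or_ne l i with rfl | hli
        · rw [div_mul_cancel₀ _ (hf.on _)]
        · rw [hf.off _ _ hli, mul_zero]
          exact h.coef0 hg (he _) (he _) (hi l hli.symm)
      have hkk : ∀ n ∈ N0, ∀ v, act (k * k) (act n v) = act n (act (k * k) v) := fun n hn v => by
        rw [h.S.mul _ _ hkz hkz, hka n hn, hka n hn, h.S.mul _ _ hkz hkz]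
      have hkk' : ∀ n ∈ N0, ∀ v, act (k' * k') (act n v) = act n (act (k' * k') v) := fun n hn v => by
        rw [h.S.mul _ _ hkz' hkz', hka' n hn, hka' n hn, h.S.mul _ _ hkz' hkz']
      obtain ⟨a, ha⟩ : ∃ a : F, act (k * k) (f i) = a • f i := ⟨_, hone _ hkk⟩
      obtain ⟨a', ha'⟩ : ∃ a : F, act (k' * k') (f i) = a • f i := ⟨_, hone _ hkk'⟩
      rw [ha', ha, map_smul, map_smul, ha, ha', smul_smul, smul_smul, mul_comm]
  obtain ⟨k, hk, hkψ⟩ := h.C.even (Equiv.swap 0 1 * Equiv.swap 1 2) (by decide)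
  obtain ⟨k', hk', hkψ'⟩ := h.C.even (Equiv.swap 0 1 * Equiv.swap 1 3) (by decide)
  have hkz : (k : Γ) * z = z * k := hk z (zN h.C)
  have hkz' : (k' : Γ) * z = z * k' := hk' z (zN h.C)
  have c1 := Sit.mul_comm' hkz hkz
  have c2 := Sit.mul_comm' hkz' hkz'
  have hψ : ψ ((k * k) * (k' * k')) = ψ ((k' * k') * (k * k)) := by
    rcases h.S.same (g := (k : Γ) * k * (k' * k')) (h := (k' : Γ) * k' * (k * k)) (Sit.mul_comm' c1 c2)
      (Sit.mul_comm' c2 c1) (fun v => by
        rw [h.S.mul _ _ c1 c2, h.S.mul _ _ c2 c1, hsq _ _ hk hk']) with e | e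
    · congr 1
      exact Subtype.ext e
    · have hzH := h.C.NH (zN h.C)
      have e' : (k * k) * (k' * k') = ⟨z, hzH⟩ * ((k' * k') * (k * k)) := Subtype.ext e
      rw [e', map_mul, psi_z h.C, one_mul]
  simp only [map_mul, hkψ, hkψ'] at hψ
  revert hψ
  decide

end Big

/-! ### square classes of a finite field -/

open Classical in
/-- the square class of a non-zero element -/
noncomputable def cls (a : F) : ZMod 2 := if IsSquare a then 0 else 1

theorem not_sq_mul [Finite F] (h2 : (2 : F) ≠ 0) {a b : F} (ha : ¬ IsSquare a) (hb : ¬ IsSquare b) :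
    IsSquare (a * b) := by
  classical
  have := Fintype.ofFinite F
  have h2' : ringChar F ≠ 2 := fun h => h2 (by
    have := ringChar.Nat.cast_ringChar (R := F)
    rw [h] at this; exact_mod_cast this)
  have ha0 : a ≠ 0 := fun h => ha (h ▸ IsSquare.zero)
  have hb0 : b ≠ 0 := fun h => hb (h ▸ IsSquare.zero)
  rw [← quadraticChar_one_iff_isSquare (mul_ne_zero ha0 hb0), map_mul,
    quadraticChar_neg_one_iff_not_isSquare.2 ha, quadraticChar_neg_one_iff_not_isSquare.2 hb]
  norm_num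

theorem cls_mul [Finite F] (h2 : (2 : F) ≠ 0) {a b : F} (ha : a ≠ 0) (hb : b ≠ 0) :
    cls (a * b) = cls a + cls b := by
  unfold cls
  by_cases h1 : IsSquare a
  · by_cases h3 : IsSquare b
    · rw [if_pos h1, if_pos h3, if_pos (h1.mul h3), add_zero]
    · have : ¬ IsSquare (a * b) := by
        rintro ⟨c, hc⟩
        obtain ⟨d, hd⟩ := h1
        have hd0 : d ≠ 0 := fun h => ha (by rw [hd, h, mul_zero])
        apply h3
        refine ⟨c / d, ?_⟩
        field_simp
        rw [hd] at hc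
        linear_combination hc
      rw [if_pos h1, if_neg h3, if_neg this, zero_add]
  · by_cases h3 : IsSquare b
    · have : ¬ IsSquare (a * b) := by
        rintro ⟨c, hc⟩
        obtain ⟨d, hd⟩ := h3
        have hd0 : d ≠ 0 := fun h' => hb (by rw [hd, h', mul_zero])
        apply h1
        refine ⟨c / d, ?_⟩
        field_simp
        rw [hd] at hc
        linear_combination hc
      rw [if_neg h1, if_pos h3, if_neg this, add_zero]
    · rw [if_neg h1, if_neg h3, if_pos (not_sq_mul h2 h1 h3)]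
      decide

theorem cls_eq [Finite F] {a b : F} (ha : a ≠ 0) (hb : b ≠ 0) (h2 : (2 : F) ≠ 0) (h : cls a = cls b) :
    ∃ c : F, c ≠ 0 ∧ c * c = a * b := by
  have h1 : cls (a * b) = 0 := by
    rw [cls_mul h2 ha hb, h]
    generalize cls b = x
    revert x; decide
  unfold cls at h1
  have h3 : IsSquare (a * b) := by
    by_contra hc
    rw [if_neg hc] at h1
    exact absurd h1 (by decide)
  obtain ⟨c, hc⟩ := h3
  exact ⟨c, fun h' => mul_ne_zero ha hb (by rw [hc, h', mul_zero]), hc.symm⟩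

theorem cls_sq (c : F) : cls (c * c) = 0 := by
  unfold cls
  rw [if_pos ⟨c, rfl⟩]

/-- elements of `C(z)` which are diagonal in a basis of eigenvectors commute with the action of `N0` -/
theorem Big.diag_comm [FiniteDimensional F V] (h : Big P N0 z s ψ act B) {ι : Type*} [Fintype ι] {f : ι → V}
    (hf : Orth B f) (hcard : Fintype.card ι = finrank F V) (he : ∀ i, Eig N0 act (f i)) {g : Γ}
    (hg : ∀ i, ∃ a : F, act g (f i) = a • f i) : ∀ n ∈ N0, ∀ v, act g (act n v) = act n (act g v) := by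
  intro n hn v
  refine hf.ext_map hcard (φ := act g ∘ₗ act n) (φ' := act n ∘ₗ act g) ?_ v
  intro i
  simp only [LinearMap.comp_apply]
  obtain ⟨a, ha⟩ := hg i
  rcases he i n hn with e | e
  · rw [e, ha, map_smul, e]
  · rw [e, ha, map_smul, e, map_neg, ha, smul_neg]

/-- **sign changes with determinant one and trivial spinor norm lift** -/
theorem sign_lift [Finite F] (S : Sit z act B) {ι : Type*} [Fintype ι] [DecidableEq ι]
    {f : ι → V} (hf : Orth B f) :
    ∀ (k : ℕ) (y : ι → ZMod 2), (Finset.univ.filter fun i => y i ≠ 0).card = k → ∑ i, y i = 0 →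
      ∑ i, y i * cls (B (f i) (f i)) = 0 →
      ∃ g, g * z = z * g ∧ ∀ i, act g (f i) = if y i = 0 then f i else -f i := by
  intro k
  induction k using Nat.strong_induction_on with
  | _ k ih =>
    intro y hy h0 h1
    have z1 : ∀ a : ZMod 2, a ≠ 0 → a = 1 := by decide
    by_cases hz : ∀ i, y i = 0
    · exact ⟨1, by rw [one_mul, mul_one], fun i => by rw [if_pos (hz i), S.one']⟩
    push Not at hz
    -- two indices with the same square class
    obtain ⟨i, j, hij, hi, hj, hc⟩ : ∃ i j, i ≠ j ∧ y i ≠ 0 ∧ y j ≠ 0 ∧ cls (B (f i) (f i)) = cls (B (f j) (f j)) := by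
      obtain ⟨i, hi⟩ := hz
      obtain ⟨j, hji, hj⟩ : ∃ j, j ≠ i ∧ y j ≠ 0 := by
        by_contra hcon
        push Not at hcon
        rw [Finset.sum_eq_single i (fun j _ hj => hcon j hj) (fun h => absurd (Finset.mem_univ i) h)] at h0
        exact hi h0
      by_cases hc : cls (B (f i) (f i)) = cls (B (f j) (f j))
      · exact ⟨i, j, hji.symm, hi, hj, hc⟩
      by_cases hl : ∃ l, l ≠ i ∧ l ≠ j ∧ y l ≠ 0
      · obtain ⟨l, hli, hlj, hl⟩ := hl
        have key : ∀ a b c : ZMod 2, a ≠ b → c = a ∨ c = b := by decide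
        rcases key _ _ (cls (B (f l) (f l))) hc with e | e
        · exact ⟨l, i, hli, hl, hi, e⟩
        · exact ⟨l, j, hlj, hl, hj, e⟩
      · exfalso
        push Not at hl
        rw [← Finset.sum_subset (Finset.subset_univ {i, j}) (fun l _ hl' => by
          simp only [Finset.mem_insert, Finset.mem_singleton, not_or] at hl'
          rw [hl l hl'.1 hl'.2, zero_mul]), Finset.sum_pair hji.symm, z1 _ hi, z1 _ hj, one_mul, one_mul] at h1
        apply hc
        revert h1
        generalize cls (B (f i) (f i)) = a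
        generalize cls (B (f j) (f j)) = b
        revert a b
        decide
    let y' : ι → ZMod 2 := fun l => if l = i ∨ l = j then 0 else y l
    have hyy : ∀ l, y l = y' l + (if l = i then 1 else 0) + (if l = j then 1 else 0) := by
      intro l
      rcases eq_or_ne l i with rfl | hli
      · simp only [y', true_or, if_true, if_neg hij, zero_add, add_zero]
        exact z1 _ hi
      rcases eq_or_ne l j with rfl | hlj
      · simp only [y', or_true, if_true, if_neg hij.symm, zero_add]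
        exact z1 _ hj
      · simp only [y', hli, hlj, or_self, if_false, add_zero]
    have h11 : (1 : ZMod 2) + 1 = 0 := by decide
    have s0 : ∑ l, y' l = 0 := by
      have e : ∑ l, y l = ∑ l, (y' l + (if l = i then 1 else 0) + (if l = j then 1 else 0)) :=
        Finset.sum_congr rfl fun l _ => hyy l
      rw [h0, Finset.sum_add_distrib, Finset.sum_add_distrib, Finset.sum_ite_eq', Finset.sum_ite_eq',
        if_pos (Finset.mem_univ _), if_pos (Finset.mem_univ _), add_assoc, h11, add_zero] at e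
      exact e.symm
    have s1 : ∑ l, y' l * cls (B (f l) (f l)) = 0 := by
      have e : ∑ l, y l * cls (B (f l) (f l)) = ∑ l, (y' l * cls (B (f l) (f l)) +
          (if l = i then cls (B (f l) (f l)) else 0) + (if l = j then cls (B (f l) (f l)) else 0)) :=
        Finset.sum_congr rfl fun l _ => by
          rw [hyy l, add_mul, add_mul]
          split_ifs <;> simp
      rw [h1, Finset.sum_add_distrib, Finset.sum_add_distrib, Finset.sum_ite_eq', Finset.sum_ite_eq',
        if_pos (Finset.mem_univ _), if_pos (Finset.mem_univ _), hc, add_assoc, ← two_mul] at e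
      have h20 : (2 : ZMod 2) = 0 := by decide
      rw [h20, zero_mul, add_zero] at e
      exact e.symm
    have hlt : (Finset.univ.filter fun l => y' l ≠ 0).card < k := by
      rw [← hy]
      apply Finset.card_lt_card
      rw [Finset.ssubset_iff_of_subset]
      · refine ⟨i, by simpa only [_root_.ne_eq, _root_.Finset.mem_filter, _root_.Finset.mem_univ, _root_.true_and] using hi, ?_⟩
        simp only [y', _root_.ne_eq, _root_.ite_eq_left_iff, _root_.not_or, _root_.and_imp, _root_.Classical.not_imp, _root_.Finset.mem_filter, _root_.Finset.mem_univ, _root_.not_true_eq_false, _root_.false_and, _root_.and_false, _root_.not_false_eq_true]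
      · intro l hl
        simp only [Finset.mem_filter, Finset.mem_univ, true_and, y'] at hl ⊢
        split_ifs at hl with hh
        · exact absurd rfl hl
        · exact hl
    obtain ⟨g', hg'z, hg'⟩ := ih _ hlt y' rfl s0 s1
    obtain ⟨c, hc0, hcc⟩ := cls_eq (hf.on i) (hf.on j) S.two hc
    obtain ⟨g₁, hg₁z, hg₁⟩ := S.lift (f i) (f j) c hc0 hcc
    refine ⟨g₁ * g', Sit.mul_comm' hg₁z hg'z, fun l => ?_⟩
    rw [S.mul _ _ hg₁z hg'z, hg']
    rcases eq_or_ne l i with rfl | hli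
    · have e : y' l = 0 := by simp [y']
      rw [if_pos e, if_neg hi, hg₁, rf_orth (hf.off _ _ hij.symm), rf_self (hf.on _)]
    rcases eq_or_ne l j with rfl | hlj
    · have e : y' l = 0 := by simp [y']
      rw [if_pos e, if_neg hj, hg₁, rf_self (hf.on _), rf_neg, rf_orth (hf.off _ _ hij)]
    · have e : y' l = y l := by simp [y', hli, hlj]
      have e2 : act g₁ (f l) = f l := by
        rw [hg₁, rf_orth (hf.off _ _ hlj.symm), rf_orth (hf.off _ _ hli.symm)]
      rw [e]
      split_ifs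
      · exact e2
      · rw [map_neg, e2]

end Cfsg.Agent.H512.Co3
end

-- part: H512/Co3/Zone
section
/-!
# S1920, case B: the zone `V_0` (helper512)

`Fr` : an orthogonal basis `e_i` (`i < w`, one character, `w ≥ 3`), `b_k` (`k < m`) of eigenvectors of `N0` such that every
element of `H` acting as a scalar on the span of the `e_i` is in `ker ψ`.
-/

set_option autoImplicit false

open Subgroup

namespace Cfsg.Agent.H512.Co3

open Cfsg.Agent.H13.Co3 (CB)
open Module

variable {F V : Type*} [Field F] [AddCommGroup V] [Module F V]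
variable {Γ : Type*} [Group Γ] {P N0 : Subgroup Γ} {z s : Γ} {ψ : ↥(normalizer (P : Set Γ)) →* Equiv.Perm (Fin 6)}
  {act : Γ → V →ₗ[F] V} {B : V →ₗ[F] V →ₗ[F] F}

theorem three_pair : ∀ a b c : ZMod 2, a = b ∨ a = c ∨ b = c := by decide

/-- the elements of `H` acting on `V_0` only -/
def zoneGrp (h : Big P N0 z s ψ act B) {ι : Type*} (f : ι → V) (c : ι → Prop) :
    Subgroup ↥(normalizer (P : Set Γ)) where
  carrier := {g | (∀ n ∈ N0, ∀ v, act g (act n v) = act n (act g v)) ∧ ∀ i, ¬ c i → act g (f i) = f i}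
  mul_mem' := by
    intro a b ⟨ha, ha'⟩ ⟨hb, hb'⟩
    have haz := h.C.z_cen a a.2
    have hbz := h.C.z_cen b b.2
    refine ⟨fun n hn v => ?_, fun i hi => ?_⟩
    · rw [Subgroup.coe_mul, h.S.mul _ _ haz hbz, h.S.mul _ _ haz hbz, hb n hn, ha n hn]
    · rw [Subgroup.coe_mul, h.S.mul _ _ haz hbz, hb' i hi, ha' i hi]
  one_mem' := by
    refine ⟨fun n hn v => ?_, fun i hi => ?_⟩
    · rw [Subgroup.coe_one, h.S.one', h.S.one']
    · rw [Subgroup.coe_one, h.S.one']
  inv_mem' := by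
    intro a ⟨ha, ha'⟩
    have haz := h.C.z_cen a a.2
    refine ⟨fun n hn v => ?_, fun i hi => ?_⟩
    · apply h.S.act_inj haz
      rw [Subgroup.coe_inv, h.S.act_inv haz, ha n hn, h.S.act_inv haz]
    · apply h.S.act_inj haz
      rw [Subgroup.coe_inv, h.S.act_inv haz, ha' i hi]

/-- a linear map which is trivial (scalar) on a part of an orthogonal basis is so on its span -/
theorem on_part [FiniteDimensional F V] {ι : Type*} [Fintype ι] {f : ι → V} (hf : Orth B f)
    (hcard : Fintype.card ι = finrank F V) {c : ι → Prop} {φ : V →ₗ[F] V} {a : F} (hφ : ∀ i, c i → φ (f i) = a • f i)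
    {v : V} (hv : ∀ i, ¬ c i → B (f i) v = 0) : φ v = a • v := by
  classical
  rw [hf.expand hcard v, map_sum, Finset.smul_sum]
  refine Finset.sum_congr rfl fun i _ => ?_
  by_cases hi : c i
  · rw [map_smul, hφ i hi, smul_comm]
  · rw [hv i hi, zero_div, zero_smul, map_zero, smul_zero]

/-- **the zone**: if three vectors of the basis have the same character then the elements of `H` acting as a scalar on
their class are in `ker ψ` -/
theorem Big.zone [Finite F] [FiniteDimensional F V] (h : Big P N0 z s ψ act B) {ι : Type*} [Fintype ι] {f : ι → V}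
    (hf : Orth B f) (hcard : Fintype.card ι = finrank F V) (he : ∀ i, Eig N0 act (f i)) {i₀ j₀ l₀ : ι} (hij : i₀ ≠ j₀)
    (hil : i₀ ≠ l₀) (hjl : j₀ ≠ l₀) (sj : Big.Same N0 act (f i₀) (f j₀)) (sl : Big.Same N0 act (f i₀) (f l₀)) {g : Γ}
    (hg : g ∈ normalizer (P : Set Γ)) {a : F} (hga : ∀ i, Big.Same N0 act (f i₀) (f i) → act g (f i) = a • f i) :
    ψ ⟨g, hg⟩ = 1 := by
  classical
  have h2 := h.S.two
  let c : ι → Prop := fun i => Big.Same N0 act (f i₀) (f i)
  have hzz : z * z = 1 := h.C.z_sq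
  -- an element of the zone group which is not in the kernel
  have step : ∀ i j l : ι, i ≠ j → i ≠ l → j ≠ l → c i → c j → c l → cls (B (f i) (f i)) = cls (B (f j) (f j)) →
      ∃ t ∈ zoneGrp h f c, ψ t ≠ 1 := by
    intro i j l hij hil hjl ci cj cl hcl
    obtain ⟨d, hd0, hdd⟩ := cls_eq (hf.on i) (hf.on j) h2 hcl
    obtain ⟨t, htz, ht⟩ := h.S.lift (f i) (f j) d hd0 hdd
    have ti : act t (f i) = -f i := by rw [ht, rf_orth (hf.off _ _ hij.symm), rf_self (hf.on _)]
    have tj : act t (f j) = -f j := by rw [ht, rf_self (hf.on _), rf_neg, rf_orth (hf.off _ _ hij)]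
    have tq : ∀ m, m ≠ i → m ≠ j → act t (f m) = f m := fun m hi hj => by
      rw [ht, rf_orth (hf.off _ _ hj.symm), rf_orth (hf.off _ _ hi.symm)]
    have tsc : ∀ m, ∃ b : F, act t (f m) = b • f m := by
      intro m
      rcases eq_or_ne m i with rfl | hi
      · exact ⟨-1, by rw [ti, neg_one_smul]⟩
      rcases eq_or_ne m j with rfl | hj
      · exact ⟨-1, by rw [tj, neg_one_smul]⟩
      · exact ⟨1, by rw [tq m hi hj, one_smul]⟩
    have tc := h.diag_comm hf hcard he tsc
    obtain ⟨tH, tN⟩ := h.key htz tc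
    refine ⟨⟨t, tH⟩, ⟨tc, fun m hm => tq m (fun e => hm (e ▸ ci)) (fun e => hm (e ▸ cj))⟩, fun hψ => ?_⟩
    have t2 : t ^ 2 ^ (1 + 1) = 1 := by
      apply h.S.two_elt hzz htz
      intro v
      rw [pow_one, pow_two, h.S.mul _ _ htz htz]
      refine hf.ext_map hcard (φ := act t ∘ₗ act t) (φ' := LinearMap.id) ?_ v
      intro m
      simp only [LinearMap.comp_apply, LinearMap.id_apply]
      rcases eq_or_ne m i with rfl | hi
      · rw [ti, map_neg, ti, neg_neg]
      rcases eq_or_ne m j with rfl | hj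
      · rw [tj, map_neg, tj, neg_neg]
      · rw [tq m hi hj, tq m hi hj]
    have tN0 := mem_N0 h.C tH tN t2 hψ
    -- uniform sign on the class
    have h3 := (Big.Same.trans (Big.Same.symm ci) cl) t tN0
    rw [ti, tq l hil.symm hjl.symm] at h3
    have h4 : -f i = f i := h3.2 rfl
    have h5 : (2 : F) • f i = 0 := by rw [two_smul]; nth_rw 1 [← h4]; exact neg_add_cancel _
    rcases smul_eq_zero.1 h5 with h6 | h6
    · exact h2 h6
    · exact hf.on i (by rw [h6, map_zero])
  obtain ⟨t, ht, htψ⟩ : ∃ t ∈ zoneGrp h f c, ψ t ≠ 1 := by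
    have c0 : c i₀ := fun n _ => Iff.rfl
    rcases three_pair (cls (B (f i₀) (f i₀))) (cls (B (f j₀) (f j₀))) (cls (B (f l₀) (f l₀))) with e | e | e
    · exact step i₀ j₀ l₀ hij hil hjl c0 sj sl e
    · exact step i₀ l₀ j₀ hil hij hjl.symm c0 sl sj e
    · exact step j₀ l₀ i₀ hjl hij.symm hil.symm sj sl c0 e
  -- the zone group induces all even permutations
  have hev : ∀ π : Equiv.Perm (Fin 6), Equiv.Perm.sign π = 1 → π ∈ (zoneGrp h f c).map ψ := by
    refine even_le _ ?_ ⟨t, ht, rfl⟩ htψ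
    rintro π hπ _ ⟨u, ⟨hu, hu'⟩, rfl⟩
    obtain ⟨k, hk, rfl⟩ := h.C.even π hπ
    have hkz : (k : Γ) * z = z * k := hk z (zN h.C)
    have hka : ∀ n ∈ N0, ∀ v, act k (act n v) = act n (act k v) := fun n hn v => by
      rw [← h.S.mul _ _ hkz (h.nz hn), hk n hn, h.S.mul _ _ (h.nz hn) hkz]
    have hkz' := Sit.inv_comm hkz
    have hka' : ∀ n ∈ N0, ∀ v, act (k : Γ)⁻¹ (act n v) = act n (act (k : Γ)⁻¹ v) := fun n hn v => by
      apply h.S.act_inj hkz
      rw [h.S.act_inv hkz, hka n hn, h.S.act_inv hkz]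
    have huz := h.C.z_cen u u.2
    refine ⟨k * u * k⁻¹, ⟨fun n hn v => ?_, fun i hi => ?_⟩, by rw [map_mul, map_mul, map_inv]⟩
    · simp only [Subgroup.coe_mul, Subgroup.coe_inv]
      rw [h.S.mul _ _ (Sit.mul_comm' hkz huz) hkz', h.S.mul _ _ hkz huz, h.S.mul _ _ (Sit.mul_comm' hkz huz) hkz',
        h.S.mul _ _ hkz huz, hka' n hn, hu n hn, hka n hn]
    · simp only [Subgroup.coe_mul, Subgroup.coe_inv]
      rw [h.S.mul _ _ (Sit.mul_comm' hkz huz) hkz', h.S.mul _ _ hkz huz]
      have e1 : act (u : Γ) (act (k : Γ)⁻¹ (f i)) = (1 : F) • act (k : Γ)⁻¹ (f i) := by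
        refine on_part hf hcard (c := fun m => ¬ c m) (fun m hm => by rw [one_smul]; exact hu' m hm) ?_
        intro m hm
        have hm' : c m := not_not.1 hm
        exact h.coef0 hka' (he i) (he m) fun hs => hi (Big.Same.trans hm' hs.symm)
      rw [e1, one_smul, h.S.act_inv hkz]
  -- conclusion
  apply psi_one h.C hg
  intro π hπ
  obtain ⟨u, ⟨hu, hu'⟩, rfl⟩ := hev π hπ
  refine ⟨u, rfl, ?_⟩
  have hgz := h.C.z_cen g hg
  have huz := h.C.z_cen u u.2
  have ha0 : a ≠ 0 := by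
    rintro rfl
    have e := hga i₀ (fun n _ => Iff.rfl)
    rw [zero_smul] at e
    have e2 : f i₀ = 0 := h.S.act_inj hgz (by rw [e, map_zero])
    exact hf.on i₀ (by rw [e2, map_zero])
  apply h.S.same (Sit.mul_comm' hgz huz) (Sit.mul_comm' huz hgz)
  intro v
  rw [h.S.mul _ _ hgz huz, h.S.mul _ _ huz hgz]
  refine hf.ext_map hcard (φ := act g ∘ₗ act (u : Γ)) (φ' := act (u : Γ) ∘ₗ act g) ?_ v
  intro i
  simp only [LinearMap.comp_apply]
  by_cases hi : c i
  · rw [hga i hi, map_smul]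
    refine on_part hf hcard (c := c) (fun m hm => hga m hm) ?_
    intro m hm
    exact h.coef0 hu (he i) (he m) fun hs => hm (Big.Same.trans hi hs)
  · rw [hu' i hi]
    symm
    have e1 : act (u : Γ) (act g (f i)) = (1 : F) • act g (f i) := by
      refine on_part hf hcard (c := fun m => ¬ c m) (fun m hm => by rw [one_smul]; exact hu' m hm) ?_
      intro m hm
      have hm' : c m := not_not.1 hm
      obtain ⟨μ, -, hμ⟩ := h.S.sim g hgz
      have e2 := hμ (f m) (f i)
      rw [hga m hm', hf.off m i (fun e => hi (e ▸ hm')), mul_zero, map_smul, LinearMap.smul_apply, smul_eq_mul] at e2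
      exact (mul_eq_zero.1 e2).resolve_left ha0
    rw [e1, one_smul]

/-- **The frame.** -/
structure Fr (P N0 : Subgroup Γ) (z s : Γ) (ψ : ↥(normalizer (P : Set Γ)) →* Equiv.Perm (Fin 6))
    (act : Γ → V →ₗ[F] V) (B : V →ₗ[F] V →ₗ[F] F) {w m : ℕ} (e : Fin w → V) (b : Fin m → V) : Prop where
  big : Big P N0 z s ψ act B
  orth : Orth B (Sum.elim e b)
  card : w + m = finrank F V
  eigE : ∀ n ∈ N0, (∀ i, act n (e i) = e i) ∨ (∀ i, act n (e i) = -e i)
  eigB : ∀ k, Eig N0 act (b k)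
  Z : ∀ (g : Γ) (hg : g ∈ normalizer (P : Set Γ)) (a : F), (∀ i, act g (e i) = a • e i) → ψ ⟨g, hg⟩ = 1
  w3 : 3 ≤ w

/-- **the frame exists** -/
theorem Big.exists_frame [Finite F] [FiniteDimensional F V] (h : Big P N0 z s ψ act B) :
    ∃ (w m : ℕ) (e : Fin w → V) (b : Fin m → V), Fr P N0 z s ψ act B e b := by
  classical
  obtain ⟨f, hf, he⟩ := h.exists_basis (finrank F V) le_rfl
  have hcard : Fintype.card (Fin (finrank F V)) = finrank F V := Fintype.card_fin _
  obtain ⟨i₀, j₀, l₀, hij, hil, hjl, sj, sl⟩ := h.exists_class hf hcard he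
  let c : Fin (finrank F V) → Prop := fun i => Big.Same N0 act (f i₀) (f i)
  let eE : Fin (Fintype.card {i // c i}) ≃ {i // c i} := (Fintype.equivFin _).symm
  let eB : Fin (Fintype.card {i // ¬ c i}) ≃ {i // ¬ c i} := (Fintype.equivFin _).symm
  refine ⟨Fintype.card {i // c i}, Fintype.card {i // ¬ c i}, fun i => f (eE i), fun k => f (eB k), ⟨h, ⟨?_, ?_⟩, ?_,
    ?_, fun k => he _, ?_, ?_⟩⟩
  · rintro (i | i) (j | j) hne
    · exact hf.off _ _ fun e => hne (congrArg Sum.inl (eE.injective (Subtype.ext e)))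
    · exact hf.off _ _ fun e => (eB j).2 (by rw [← e]; exact (eE i).2)
    · exact hf.off _ _ fun e => (eB i).2 (by rw [e]; exact (eE j).2)
    · exact hf.off _ _ fun e => hne (congrArg Sum.inr (eB.injective (Subtype.ext e)))
  · rintro (i | i)
    · exact hf.on _
    · exact hf.on _
  · have := Fintype.card_subtype_compl c
    have h3 := Fintype.card_subtype_le c
    rw [Fintype.card_fin] at this h3
    omega
  · intro n hn
    rcases he i₀ n hn with e | e
    · left; intro i
      exact ((eE i).2 n hn).1 e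
    · right; intro i
      refine (he _ n hn).resolve_left fun e' => ?_
      have e2 := ((eE i).2 n hn).2 e'
      rw [e] at e2
      have h5 : (2 : F) • f i₀ = 0 := by rw [two_smul]; nth_rw 1 [← e2]; exact neg_add_cancel _
      rcases smul_eq_zero.1 h5 with h6 | h6
      · exact h.S.two h6
      · exact hf.on i₀ (by rw [h6, map_zero])
  · intro g hg a hga
    refine h.zone hf hcard he hij hil hjl sj sl hg (a := a) ?_
    intro i hi
    have := hga (eE.symm ⟨i, hi⟩)
    simpa using this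
  · have h3 : ({i₀, j₀, l₀} : Finset (Fin (finrank F V))).card = 3 := by
      rw [Finset.card_insert_of_notMem (by simp [hij, hil]), Finset.card_insert_of_notMem (by simp [hjl]),
        Finset.card_singleton]
    rw [Fintype.card_subtype, ← h3]
    apply Finset.card_le_card
    intro x hx
    simp only [Finset.mem_insert, Finset.mem_singleton] at hx
    simp only [Finset.mem_filter, Finset.mem_univ, true_and]
    rcases hx with rfl | rfl | rfl
    · exact fun n _ => Iff.rfl
    · exact sj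
    · exact sl

namespace Fr

variable {w m : ℕ} {e : Fin w → V} {b : Fin m → V}

theorem hcard (h : Fr P N0 z s ψ act B e b) : Fintype.card (Fin w ⊕ Fin m) = finrank F V := by
  rw [Fintype.card_sum, Fintype.card_fin, Fintype.card_fin, h.card]

theorem eig (h : Fr P N0 z s ψ act B e b) : ∀ i, Eig N0 act (Sum.elim e b i) := by
  rintro (i | k)
  · intro n hn
    rcases h.eigE n hn with e | e
    · left; exact e i
    · right; exact e i
  · exact h.eigB k

theorem eb (h : Fr P N0 z s ψ act B e b) (i : Fin w) (k : Fin m) : B (e i) (b k) = 0 :=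
  h.orth.off (Sum.inl i) (Sum.inr k) (by simp)

theorem be (h : Fr P N0 z s ψ act B e b) (i : Fin w) (k : Fin m) : B (b k) (e i) = 0 :=
  h.orth.off (Sum.inr k) (Sum.inl i) (by simp)

theorem ee (h : Fr P N0 z s ψ act B e b) : Orth B e :=
  ⟨fun i j hij => h.orth.off (Sum.inl i) (Sum.inl j) (by simpa using hij), fun i => h.orth.on (Sum.inl i)⟩

theorem bb (h : Fr P N0 z s ψ act B e b) : Orth B b :=
  ⟨fun i j hij => h.orth.off (Sum.inr i) (Sum.inr j) (by simpa using hij), fun i => h.orth.on (Sum.inr i)⟩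

theorem ne_neg (h : Fr P N0 z s ψ act B e b) {v : V} (hv : v ≠ 0) : -v ≠ v := by
  intro e2
  have h5 : (2 : F) • v = 0 := by rw [two_smul]; nth_rw 1 [← e2]; exact neg_add_cancel _
  rcases smul_eq_zero.1 h5 with h6 | h6
  · exact h.big.S.two h6
  · exact hv h6

theorem ne0 (h : Fr P N0 z s ψ act B e b) (i : Fin w ⊕ Fin m) : Sum.elim e b i ≠ 0 := fun h0 =>
  h.orth.on i (by rw [h0, map_zero])

/-- **a change of basis in the zone** -/
theorem change [FiniteDimensional F V] (h : Fr P N0 z s ψ act B e b) {e' : Fin w → V} (ho : Orth B e')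
    (hb : ∀ i k, B (e' i) (b k) = 0) : Fr P N0 z s ψ act B e' b := by
  have hb' : ∀ i k, B (b k) (e' i) = 0 := fun i k => by rw [h.big.S.symm, hb]
  have ho' : Orth B (Sum.elim e' b) := by
    refine ⟨?_, ?_⟩
    · rintro (i | i) (j | j) hne
      · exact ho.off i j fun e => hne (by rw [e])
      · exact hb _ _
      · exact hb' _ _
      · exact h.bb.off i j fun e => hne (by rw [e])
    · rintro (i | i)
      · exact ho.on i
      · exact h.bb.on i
  have hin : ∀ (φ : V →ₗ[F] V) (a : F), (∀ i, φ (e i) = a • e i) → ∀ i, φ (e' i) = a • e' i := by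
    intro φ a hφ i
    refine on_part h.orth h.hcard (c := fun x => x.isLeft = true) ?_ ?_
    · rintro (j | j) hj
      · exact hφ j
      · simp at hj
    · rintro (j | j) hj
      · simp at hj
      · exact hb' i j
  have hout : ∀ (φ : V →ₗ[F] V) (a : F), (∀ i, φ (e' i) = a • e' i) → ∀ i, φ (e i) = a • e i := by
    intro φ a hφ i
    refine on_part ho' h.hcard (c := fun x => x.isLeft = true) ?_ ?_
    · rintro (j | j) hj
      · exact hφ j
      · simp at hj
    · rintro (j | j) hj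
      · simp at hj
      · exact h.be i j
  refine ⟨h.big, ho', h.card, ?_, h.eigB, ?_, h.w3⟩
  · intro n hn
    rcases h.eigE n hn with e1 | e1
    · left
      intro i
      have := hin (act n) 1 (fun i => by rw [e1, one_smul]) i
      rw [this, one_smul]
    · right
      intro i
      have := hin (act n) (-1) (fun i => by rw [e1, neg_one_smul]) i
      rw [this, neg_one_smul]
  · intro g hg a hga
    exact h.Z g hg a (hout _ a hga)

/-- an element of `C(z)` diagonal in the frame, a scalar on the zone, with square trivial is in `N0` -/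
theorem diag_mem [FiniteDimensional F V] (h : Fr P N0 z s ψ act B e b) {g : Γ} (hgz : g * z = z * g)
    {a : F} (ha : ∀ i, act g (e i) = a • e i) (haa : a * a = 1) (hb : ∀ k, act g (b k) = b k ∨ act g (b k) = -b k) :
    g ∈ N0 := by
  have hd : ∀ i, ∃ c : F, act g (Sum.elim e b i) = c • Sum.elim e b i := by
    rintro (i | k)
    · exact ⟨a, ha i⟩
    · rcases hb k with e1 | e1
      · exact ⟨1, by rw [one_smul]; exact e1⟩
      · exact ⟨-1, by rw [neg_one_smul]; exact e1⟩
  obtain ⟨hH, hN⟩ := h.big.key hgz (h.big.diag_comm h.orth h.hcard h.eig hd)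
  have h2 : g ^ 2 ^ (1 + 1) = 1 := by
    apply h.big.S.two_elt h.big.C.z_sq hgz
    intro v
    rw [pow_one, pow_two, h.big.S.mul _ _ hgz hgz]
    refine h.orth.ext_map h.hcard (φ := act g ∘ₗ act g) (φ' := LinearMap.id) ?_ v
    rintro (i | k)
    · simp only [LinearMap.comp_apply, LinearMap.id_apply, Sum.elim_inl]
      rw [ha, map_smul, ha, smul_smul, haa, one_smul]
    · simp only [LinearMap.comp_apply, LinearMap.id_apply, Sum.elim_inr]
      rcases hb k with e1 | e1
      · rw [e1, e1]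
      · rw [e1, map_neg, e1, neg_neg]
  exact mem_N0 h.big.C hH hN h2 (h.Z g hH a ha)

end Fr

end Cfsg.Agent.H512.Co3
end

-- part: H512/Co3/Count
section
/-!
# S1920, case B: the sign vectors of `N0` in the frame (helper512)

`card_signs` : there are exactly `32` of them; `all_signs` : every sign vector with determinant one and trivial spinor
norm is one of them.
-/

set_option autoImplicit false

open Subgroup

namespace Cfsg.Agent.H512.Co3

open Cfsg.Agent.H13.Co3 (CB)
open Module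

variable {F V : Type*} [Field F] [AddCommGroup V] [Module F V]
variable {Γ : Type*} [Group Γ] {P N0 : Subgroup Γ} {z s : Γ} {ψ : ↥(normalizer (P : Set Γ)) →* Equiv.Perm (Fin 6)}
  {act : Γ → V →ₗ[F] V} {B : V →ₗ[F] V →ₗ[F] F}

open Classical in
/-- the sign of `n` on `v` -/
noncomputable def sg (act : Γ → V →ₗ[F] V) (n : Γ) (v : V) : ZMod 2 := if act n v = v then 0 else 1

namespace Fr

variable {w m : ℕ} {e : Fin w → V} {b : Fin m → V}

/-- the vectors carrying the signs -/
def vec (h : Fr P N0 z s ψ act B e b) : Option (Fin m) → V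
  | none => e ⟨0, by have := h.w3; omega⟩
  | some k => b k

theorem vec_eig (h : Fr P N0 z s ψ act B e b) (k : Option (Fin m)) : Eig N0 act (h.vec k) := by
  cases k with
  | none => exact h.eig (Sum.inl _)
  | some k => exact h.eigB k

theorem vec_ne (h : Fr P N0 z s ψ act B e b) (k : Option (Fin m)) : h.vec k ≠ 0 := by
  cases k with
  | none => exact h.ne0 (Sum.inl _)
  | some k => exact h.ne0 (Sum.inr k)

theorem act_sg (_h : Fr P N0 z s ψ act B e b) {n : Γ} (hn : n ∈ N0) {v : V} (hv : Eig N0 act v) :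
    act n v = if sg act n v = 0 then v else -v := by
  unfold sg
  rcases hv n hn with e1 | e1
  · rw [if_pos e1, if_pos rfl, e1]
  · by_cases e2 : act n v = v
    · rw [if_pos e2, if_pos rfl, e2]
    · rw [if_neg e2, if_neg one_ne_zero, e1]

theorem act_e (h : Fr P N0 z s ψ act B e b) {n : Γ} (hn : n ∈ N0) (i : Fin w) :
    act n (e i) = if sg act n (h.vec none) = 0 then e i else -e i := by
  have h0 := h.act_sg hn (h.vec_eig none)
  rcases h.eigE n hn with e1 | e1
  · have : sg act n (h.vec none) = 0 := by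
      unfold sg; exact if_pos (e1 _)
    rw [if_pos this, e1]
  · have : sg act n (h.vec none) ≠ 0 := by
      unfold sg
      rw [if_neg]
      · exact one_ne_zero
      · intro e2
        exact h.ne_neg (h.vec_ne none) ((e1 _).symm.trans e2)
    rw [if_neg this, e1]

theorem sg_mul (h : Fr P N0 z s ψ act B e b) {n n' : Γ} (hn : n ∈ N0) (hn' : n' ∈ N0) {v : V}
    (hv : Eig N0 act v) (hv0 : v ≠ 0) : sg act (n * n') v = sg act n v + sg act n' v := by
  have hne := h.ne_neg hv0
  unfold sg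
  rw [h.big.S.mul _ _ (h.big.nz hn) (h.big.nz hn')]
  have h11 : (1 : ZMod 2) + 1 = 0 := by decide
  rcases hv n hn with e1 | e1
  · rcases hv n' hn' with e2 | e2
    · simp only [e1, e2, if_true, add_zero]
    · simp only [e1, e2, map_neg, hne, if_true, if_false, zero_add]
  · rcases hv n' hn' with e2 | e2
    · simp only [e1, e2, hne, if_true, if_false, add_zero]
    · simp only [e1, e2, map_neg, neg_neg, hne, if_true, if_false, h11]

/-- the sign vector -/
noncomputable def sig (h : Fr P N0 z s ψ act B e b) : N0 →* Multiplicative (Option (Fin m) → ZMod 2) where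
  toFun n := Multiplicative.ofAdd fun k => sg act (n : Γ) (h.vec k)
  map_one' := by
    rw [← ofAdd_zero]
    congr 1
    funext k
    simp only [sg, Subgroup.coe_one, h.big.S.one', if_true]
    rfl
  map_mul' := by
    intro n n'
    rw [← ofAdd_add]
    congr 1
    funext k
    exact h.sg_mul n.2 n'.2 (h.vec_eig k) (h.vec_ne k)

theorem sig_apply (h : Fr P N0 z s ψ act B e b) (n : N0) (k : Option (Fin m)) :
    Multiplicative.toAdd (h.sig n) k = sg act (n : Γ) (h.vec k) := rfl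

/-- elements of `N0` with the same sign vector have the same action -/
theorem same_act [FiniteDimensional F V] (h : Fr P N0 z s ψ act B e b) {n n' : Γ} (hn : n ∈ N0) (hn' : n' ∈ N0)
    (hs : ∀ k, sg act n (h.vec k) = sg act n' (h.vec k)) (v : V) : act n v = act n' v := by
  refine h.orth.ext_map h.hcard ?_ v
  rintro (i | k)
  · rw [Sum.elim_inl, h.act_e hn, h.act_e hn', hs]
  · have h1 := h.act_sg hn (h.vec_eig (some k))
    have h2 := h.act_sg hn' (h.vec_eig (some k))
    rw [hs] at h1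
    rw [Sum.elim_inr]
    exact h1.trans h2.symm

theorem card_signs [FiniteDimensional F V] (h : Fr P N0 z s ψ act B e b) : Nat.card h.sig.range = 32 := by
  have h1 : Nat.card h.sig.ker = 2 := by
    have hz := zN h.big.C
    have hk : h.sig.ker = zpowers (⟨z, hz⟩ : N0) := by
      ext n
      constructor
      · intro hn
        have hn' : ∀ k, sg act (n : Γ) (h.vec k) = sg act 1 (h.vec k) := fun k => by
          have := congrArg (fun x : Multiplicative (Option (Fin m) → ZMod 2) => Multiplicative.toAdd x k) (MonoidHom.mem_ker.1 hn)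
          simp only [sig_apply] at this
          rw [this]
          simp only [sg, h.big.S.one', if_true]
          rfl
        have h3 := h.same_act n.2 (one_mem N0) hn'
        rcases h.big.S.ker (n : Γ) (h.big.nz n.2) (fun v => by rw [h3, h.big.S.one']) with e1 | e1
        · have : n = 1 := Subtype.ext e1
          rw [this]; exact one_mem _
        · have : n = ⟨z, hz⟩ := Subtype.ext e1
          rw [this]; exact mem_zpowers _
      · rintro ⟨j, rfl⟩
        apply zpow_mem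
        rw [MonoidHom.mem_ker]
        apply Multiplicative.toAdd.injective
        funext k
        rw [sig_apply]
        simp only [sg, h.big.S.act_z', if_true]
        rfl
    rw [hk, Nat.card_zpowers]
    apply orderOf_eq_prime
    · rw [pow_two]; exact Subtype.ext h.big.C.z_sq
    · intro h0; exact h.big.C.z_ne (congrArg Subtype.val h0)
  have h2 := Subgroup.card_mul_index h.sig.ker
  rw [Subgroup.index_ker, h1, h.big.C.card] at h2
  omega

/-- the determinant and the spinor norm of a sign vector -/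
noncomputable def phi (_h : Fr P N0 z s ψ act B e b) : (Option (Fin m) → ZMod 2) →+ ZMod 2 × ZMod 2 where
  toFun x := (w * x none + ∑ k, x (some k),
    x none * ∑ i, cls (B (e i) (e i)) + ∑ k, x (some k) * cls (B (b k) (b k)))
  map_zero' := by simp only [_root_.Pi.zero_apply, _root_.MulZeroClass.mul_zero, _root_.Finset.sum_const_zero, _root_.add_zero, _root_.MulZeroClass.zero_mul, _root_.Prod.mk_eq_zero, _root_.and_self]
  map_add' := by
    intro x y
    ext
    · simp only [Pi.add_apply, Prod.fst_add, Finset.sum_add_distrib]; ring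
    · simp only [Pi.add_apply, Prod.snd_add, add_mul, Finset.sum_add_distrib]; ring

/-- **every sign vector with determinant one and trivial spinor norm is the sign vector of an element of `N0`** -/
theorem all_signs [Finite F] [FiniteDimensional F V] (h : Fr P N0 z s ψ act B e b) {x : Option (Fin m) → ZMod 2}
    (hx : h.phi x = 0) : ∃ n ∈ N0, ∀ k, sg act n (h.vec k) = x k := by
  classical
  let y : Fin w ⊕ Fin m → ZMod 2 := Sum.elim (fun _ => x none) fun k => x (some k)
  have h1 : w * x none + ∑ k, x (some k) = 0 := congrArg Prod.fst hx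
  have h2 : x none * ∑ i, cls (B (e i) (e i)) + ∑ k, x (some k) * cls (B (b k) (b k)) = 0 := congrArg Prod.snd hx
  obtain ⟨g, hgz, hg⟩ := sign_lift h.big.S h.orth _ y rfl
    (by
      rw [Fintype.sum_sum_type]
      simp only [y, Sum.elim_inl, Sum.elim_inr, Finset.sum_const, Finset.card_univ, Fintype.card_fin, nsmul_eq_mul]
      exact h1)
    (by
      rw [Fintype.sum_sum_type]
      simp only [y, Sum.elim_inl, Sum.elim_inr, ← Finset.mul_sum]
      exact h2)
  have hN : g ∈ N0 := by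
    refine h.diag_mem hgz (a := if x none = 0 then 1 else -1) (fun i => ?_) (by split_ifs <;> ring) (fun k => ?_)
    · have this : act g (e i) = if x none = 0 then e i else -e i := hg (Sum.inl i)
      rw [this]
      by_cases hx0 : x none = 0
      · rw [if_pos hx0, if_pos hx0, one_smul]
      · rw [if_neg hx0, if_neg hx0, neg_one_smul]
    · have this : act g (b k) = if x (some k) = 0 then b k else -b k := hg (Sum.inr k)
      rw [this]
      by_cases hx0 : x (some k) = 0
      · rw [if_pos hx0]; left; rfl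
      · rw [if_neg hx0]; right; rfl
  refine ⟨g, hN, fun k => ?_⟩
  have z1 : ∀ a : ZMod 2, a ≠ 0 → a = 1 := by decide
  have key : ∀ (v : V) (a : ZMod 2), v ≠ 0 → act g v = (if a = 0 then v else -v) → sg act g v = a := by
    intro v a hv hva
    unfold sg
    by_cases ha : a = 0
    · rw [if_pos ha] at hva
      rw [if_pos hva, ha]
    · rw [if_neg ha] at hva
      rw [if_neg (fun e1 => h.ne_neg hv (hva.symm.trans e1)), z1 a ha]
  cases k with
  | none => exact key _ _ (h.vec_ne none) (hg (Sum.inl _))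
  | some k => exact key _ _ (h.vec_ne (some k)) (hg (Sum.inr k))

theorem ker_phi_le [Finite F] [FiniteDimensional F V] (h : Fr P N0 z s ψ act B e b) (x : Option (Fin m) → ZMod 2)
    (hx : h.phi x = 0) : Multiplicative.ofAdd x ∈ h.sig.range := by
  obtain ⟨n, hn, hs⟩ := h.all_signs hx
  refine ⟨⟨n, hn⟩, ?_⟩
  apply Multiplicative.toAdd.injective
  funext k
  exact hs k

theorem card_ker (h : Fr P N0 z s ψ act B e b) : 2 ^ (m + 1) ≤ Nat.card h.phi.ker * 4 := by
  have h1 := AddSubgroup.card_mul_index h.phi.ker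
  have h2 : h.phi.ker.index ≤ 4 := by
    rw [AddSubgroup.index_ker]
    have : Nat.card (ZMod 2 × ZMod 2) = 4 := by simp
    rw [← this]
    exact Nat.card_le_card_of_injective _ Subtype.val_injective
  have h3 : Nat.card (Option (Fin m) → ZMod 2) = 2 ^ (m + 1) := by
    rw [Nat.card_eq_fintype_card, Fintype.card_fun, ZMod.card, Fintype.card_option, Fintype.card_fin]
  rw [h3] at h1
  rw [← h1]
  exact Nat.mul_le_mul_left _ h2

theorem card_le [Finite F] [FiniteDimensional F V] (h : Fr P N0 z s ψ act B e b) : Nat.card h.phi.ker ≤ 32 := by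
  rw [← h.card_signs]
  refine Nat.card_le_card_of_injective (fun x : h.phi.ker => (⟨Multiplicative.ofAdd x.1, h.ker_phi_le _ x.2⟩ :
    h.sig.range)) ?_
  intro x y hxy
  have := Subtype.ext_iff.1 hxy
  exact Subtype.ext (Multiplicative.ofAdd.injective this)

/-- at most six further vectors -/
theorem m_le [Finite F] [FiniteDimensional F V] (h : Fr P N0 z s ψ act B e b) : m ≤ 6 := by
  have h1 := h.card_ker
  have h2 := h.card_le
  by_contra hc
  push Not at hc
  have h3 : 2 ^ 8 ≤ 2 ^ (m + 1) := Nat.pow_le_pow_right (by norm_num) (by omega)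
  have h7 : (2 : ℕ) ^ 8 = 256 := by norm_num
  rw [h7] at h3
  omega

/-- at least four further vectors -/
theorem le_m [FiniteDimensional F V] (h : Fr P N0 z s ψ act B e b) : 4 ≤ m := by
  have h1 : Nat.card h.sig.range ≤ Nat.card (Multiplicative (Option (Fin m) → ZMod 2)) :=
    Nat.card_le_card_of_injective _ Subtype.val_injective
  have h3 : Nat.card (Multiplicative (Option (Fin m) → ZMod 2)) = 2 ^ (m + 1) := by
    rw [Nat.card_congr Multiplicative.toAdd, Nat.card_eq_fintype_card, Fintype.card_fun, ZMod.card,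
      Fintype.card_option, Fintype.card_fin]
  rw [h.card_signs, h3] at h1
  by_contra hc
  push Not at hc
  have h4 : 2 ^ (m + 1) ≤ 2 ^ 4 := Nat.pow_le_pow_right (by norm_num) (by omega)
  have h7 : (2 : ℕ) ^ 4 = 16 := by norm_num
  rw [h7] at h4
  omega

/-- if there are exactly `32` sign vectors with determinant one and trivial spinor norm then these are the sign vectors
of `N0` -/
theorem signs_eq [Finite F] [FiniteDimensional F V] (h : Fr P N0 z s ψ act B e b) (hm : m = 6) {n : Γ} (hn : n ∈ N0) :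
    h.phi (fun k => sg act n (h.vec k)) = 0 := by
  subst hm
  have h1 := h.card_ker
  have h2 := h.card_le
  have h7 : (2 : ℕ) ^ (6 + 1) = 128 := by norm_num
  rw [h7] at h1
  have h3 : Nat.card h.phi.ker = 32 := by omega
  let ι : h.phi.ker → h.sig.range := fun x => ⟨Multiplicative.ofAdd x.1, h.ker_phi_le _ x.2⟩
  have hι : Function.Injective ι := by
    intro x y hxy
    have := Subtype.ext_iff.1 hxy
    exact Subtype.ext (Multiplicative.ofAdd.injective this)
  have hfin : Finite h.sig.range := Subtype.finite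
  have hsurj : Function.Surjective ι :=
    ((Nat.bijective_iff_injective_and_card ι).2 ⟨hι, by rw [h3, h.card_signs]⟩).2
  obtain ⟨x, hx⟩ := hsurj ⟨h.sig ⟨n, hn⟩, ⟨n, hn⟩, rfl⟩
  have hx' : Multiplicative.ofAdd x.1 = h.sig ⟨n, hn⟩ := congrArg Subtype.val hx
  have hx2 : (fun k => sg act n (h.vec k)) = x.1 := by
    funext k
    rw [← h.sig_apply ⟨n, hn⟩ k, ← hx']
    rfl
  rw [hx2]
  exact x.2

end Fr

end Cfsg.Agent.H512.Co3
end

-- part: H512/Co3/Excl
section
/-!
# S1920, case B: the zone has dimension four and non-square discriminant (helper512)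
-/

set_option autoImplicit false

open Subgroup

namespace Cfsg.Agent.H512.Co3

open Cfsg.Agent.H13.Co3 (CB)
open Module

variable {F V : Type*} [Field F] [AddCommGroup V] [Module F V]
variable {Γ : Type*} [Group Γ] {P N0 : Subgroup Γ} {z s : Γ} {ψ : ↥(normalizer (P : Set Γ)) →* Equiv.Perm (Fin 6)}
  {act : Γ → V →ₗ[F] V} {B : V →ₗ[F] V →ₗ[F] F}

/-! ### normal form of an orthogonal basis -/

theorem exists_cls [Finite F] (h2 : (2 : F) ≠ 0) (κ : ZMod 2) : ∃ t : F, t ≠ 0 ∧ cls t = κ := by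
  have hκ : κ = 0 ∨ κ = 1 := by revert κ; decide
  rcases hκ with rfl | rfl
  · exact ⟨1, one_ne_zero, by have := cls_sq (1 : F); rwa [mul_one] at this⟩
  · have h2' : ringChar F ≠ 2 := fun h => h2 (by
      have := ringChar.Nat.cast_ringChar (R := F)
      rw [h] at this; exact_mod_cast this)
    obtain ⟨a, ha⟩ := FiniteField.exists_nonsquare h2'
    exact ⟨a, fun h0 => ha (h0 ▸ IsSquare.zero), by unfold cls; rw [if_neg ha]⟩

theorem exists_rep [Finite F] (h2 : (2 : F) ≠ 0) {c₁ c₂ : F} (h₁ : c₁ ≠ 0) (h₂ : c₂ ≠ 0) (κ : ZMod 2) :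
    ∃ x y : F, x ^ 2 * c₁ + y ^ 2 * c₂ ≠ 0 ∧ cls (x ^ 2 * c₁ + y ^ 2 * c₂) = κ := by
  classical
  have := Fintype.ofFinite F
  obtain ⟨t, ht0, ht⟩ := exists_cls h2 κ
  have hodd : Fintype.card F % 2 = 1 := by
    rcases Nat.mod_two_eq_zero_or_one (Fintype.card F) with h | h
    · exfalso
      have h2' : ringChar F ≠ 2 := fun h => h2 (by
        have := ringChar.Nat.cast_ringChar (R := F)
        rw [h] at this; exact_mod_cast this)
      have := FiniteField.odd_card_of_char_ne_two h2'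
      omega
    · exact h
  have hd1 : (Polynomial.C c₁ * Polynomial.X ^ 2 : Polynomial F).degree = 2 := Polynomial.degree_C_mul_X_pow 2 h₁
  have hd2 : (Polynomial.C c₂ * Polynomial.X ^ 2 - Polynomial.C t : Polynomial F).degree = 2 := by
    rw [Polynomial.degree_sub_C]
    · exact Polynomial.degree_C_mul_X_pow 2 h₂
    · rw [Polynomial.degree_C_mul_X_pow 2 h₂]; norm_num
  obtain ⟨x, y, hxy⟩ := FiniteField.exists_root_sum_quadratic hd1 hd2 hodd
  simp only [Polynomial.eval_mul, Polynomial.eval_C, Polynomial.eval_pow, Polynomial.eval_X, Polynomial.eval_sub] at hxy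
  have e1 : x ^ 2 * c₁ + y ^ 2 * c₂ = t := by linear_combination hxy
  exact ⟨x, y, by rw [e1]; exact ht0, by rw [e1]; exact ht⟩

/-- **normal form**: all square classes but the last one can be prescribed -/
theorem norm_form [Finite F] (S : Sit z act B) {w : ℕ} (κ : ZMod 2) {e : Fin w → V} (he : Orth B e) :
    ∀ t, t + 1 ≤ w → ∃ e' : Fin w → V, Orth B e' ∧ (∀ v, (∀ i, B (e i) v = 0) → ∀ i, B (e' i) v = 0) ∧
      ∑ i, cls (B (e' i) (e' i)) = ∑ i, cls (B (e i) (e i)) ∧ ∀ i : Fin w, i.1 < t → cls (B (e' i) (e' i)) = κ := by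
  intro t
  induction t with
  | zero => exact fun _ => ⟨e, he, fun v hv => hv, rfl, fun i hi => absurd hi (Nat.not_lt_zero _)⟩
  | succ t ih =>
    intro ht
    obtain ⟨f, hf, hsp, hsum, hcl⟩ := ih (by omega)
    let i : Fin w := ⟨t, by omega⟩
    let j : Fin w := ⟨t + 1, by omega⟩
    have hij : i ≠ j := fun h => by
      have := congrArg Fin.val h
      simp only [i, j] at this
      omega
    obtain ⟨x, y, hN0, hN⟩ := exists_rep S.two (hf.on i) (hf.on j) κ
    obtain ⟨c₁, hc₁⟩ : ∃ c, B (f i) (f i) = c := ⟨_, rfl⟩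
    obtain ⟨c₂, hc₂⟩ : ∃ c, B (f j) (f j) = c := ⟨_, rfl⟩
    have hc₁0 : c₁ ≠ 0 := hc₁ ▸ hf.on i
    have hc₂0 : c₂ ≠ 0 := hc₂ ▸ hf.on j
    rw [hc₁, hc₂] at hN0 hN
    have oij := hf.off i j hij
    have oji := hf.off j i hij.symm
    let g : Fin w → V := fun l => if l = i then x • f i + y • f j else
      if l = j then (-(y * c₂)) • f i + (x * c₁) • f j else f l
    have gi : g i = x • f i + y • f j := by simp only [g, if_true]
    have gj : g j = (-(y * c₂)) • f i + (x * c₁) • f j := by simp only [g, if_neg hij.symm, if_true]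
    have gl : ∀ l, l ≠ i → l ≠ j → g l = f l := fun l h1 h2 => by simp only [g, if_neg h1, if_neg h2]
    have nii : B (g i) (g i) = x ^ 2 * c₁ + y ^ 2 * c₂ := by
      rw [gi]
      simp only [map_add, map_smul, LinearMap.add_apply, LinearMap.smul_apply, smul_eq_mul, oij, oji, hc₁, hc₂]
      ring
    have njj : B (g j) (g j) = c₁ * c₂ * (x ^ 2 * c₁ + y ^ 2 * c₂) := by
      rw [gj]
      simp only [map_add, map_smul, LinearMap.add_apply, LinearMap.smul_apply, smul_eq_mul, oij, oji, hc₁, hc₂]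
      ring
    have nij : B (g i) (g j) = 0 := by
      rw [gi, gj]
      simp only [map_add, map_smul, LinearMap.add_apply, LinearMap.smul_apply, smul_eq_mul, oij, oji, hc₁, hc₂]
      ring
    have gz : ∀ v, (∀ l, B (f l) v = 0) → ∀ l, B (g l) v = 0 := by
      intro v hv l
      rcases eq_or_ne l i with rfl | hli
      · rw [gi]; simp [hv]
      rcases eq_or_ne l j with rfl | hlj
      · rw [gj]; simp only [hv, _root_.neg_smul, _root_.map_add, _root_.map_neg, _root_.map_smul, _root_.LinearMap.add_apply, _root_.LinearMap.neg_apply, _root_.LinearMap.smul_apply, _root_.smul_eq_mul, _root_.MulZeroClass.mul_zero, _root_.neg_zero, _root_.add_zero]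
      · rw [gl l hli hlj, hv]
    have gil : ∀ l, l ≠ i → l ≠ j → B (g i) (f l) = 0 := fun l h1 h2 => by
      rw [gi]; simp only [hf.off _ _ h1.symm, hf.off _ _ h2.symm, _root_.map_add, _root_.map_smul, _root_.LinearMap.add_apply, _root_.LinearMap.smul_apply, _root_.smul_eq_mul, _root_.MulZeroClass.mul_zero, _root_.add_zero]
    have gjl : ∀ l, l ≠ i → l ≠ j → B (g j) (f l) = 0 := fun l h1 h2 => by
      rw [gj]; simp only [hf.off _ _ h1.symm, hf.off _ _ h2.symm, _root_.neg_smul, _root_.map_add, _root_.map_neg, _root_.map_smul, _root_.LinearMap.add_apply, _root_.LinearMap.neg_apply, _root_.LinearMap.smul_apply, _root_.smul_eq_mul, _root_.MulZeroClass.mul_zero, _root_.neg_zero, _root_.add_zero]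
    refine ⟨g, ⟨?_, ?_⟩, fun v hv => gz v (hsp v hv), ?_, ?_⟩
    · intro a b hab
      rcases eq_or_ne a i with rfl | hai
      · rcases eq_or_ne b j with rfl | hbj
        · exact nij
        · rw [gl b hab.symm hbj]; exact gil b hab.symm hbj
      rcases eq_or_ne a j with rfl | haj
      · rcases eq_or_ne b i with rfl | hbi
        · rw [S.symm]; exact nij
        · rw [gl b hbi hab.symm]; exact gjl b hbi hab.symm
      rcases eq_or_ne b i with rfl | hbi
      · rw [gl a hai haj, S.symm]; exact gil a hai haj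
      rcases eq_or_ne b j with rfl | hbj
      · rw [gl a hai haj, S.symm]; exact gjl a hai haj
      · rw [gl a hai haj, gl b hbi hbj]; exact hf.off a b hab
    · intro a
      rcases eq_or_ne a i with rfl | hai
      · rw [nii]; exact hN0
      rcases eq_or_ne a j with rfl | haj
      · rw [njj]; exact mul_ne_zero (mul_ne_zero hc₁0 hc₂0) hN0
      · rw [gl a hai haj]; exact hf.on a
    · rw [← hsum]
      have key : ∀ l, cls (B (g l) (g l)) = cls (B (f l) (f l)) + (if l = i then κ + cls c₁ else 0) +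
          (if l = j then cls c₁ + κ else 0) := by
        have h2 : ∀ a b : ZMod 2, a = b + (a + b) := by decide
        have h3 : ∀ a b c : ZMod 2, a + b + c = b + (a + c) := by decide
        intro l
        rcases eq_or_ne l i with rfl | hli
        · rw [nii, hN, hc₁, if_pos rfl, if_neg hij, add_zero]
          exact h2 _ _
        rcases eq_or_ne l j with rfl | hlj
        · rw [njj, cls_mul S.two (mul_ne_zero hc₁0 hc₂0) hN0, cls_mul S.two hc₁0 hc₂0, hN, hc₂, if_neg hli, if_pos rfl,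
            add_zero]
          exact h3 _ _ _
        · rw [gl l hli hlj, if_neg hli, if_neg hlj, add_zero, add_zero]
      rw [Finset.sum_congr rfl fun l _ => key l, Finset.sum_add_distrib, Finset.sum_add_distrib, Finset.sum_ite_eq',
        Finset.sum_ite_eq', if_pos (Finset.mem_univ _), if_pos (Finset.mem_univ _)]
      have h4 : ∀ a b c : ZMod 2, a + (b + c) + (c + b) = a := by decide
      exact h4 _ _ _
    · intro a ha
      rcases eq_or_ne a i with rfl | hai
      · rw [nii]; exact hN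
      have hat : a.1 < t := by
        have : a.1 ≠ t := fun h => hai (Fin.ext h)
        omega
      have haj : a ≠ j := fun h => by
        have := congrArg Fin.val h
        simp only [j] at this
        omega
      rw [gl a hai haj]
      exact hcl a hat

/-! ### sign changes -/

/-- `v` or `-v` -/
def sv (a : ZMod 2) (v : V) : V := if a = 0 then v else -v

theorem sv_zero (v : V) : sv 0 v = v := if_pos rfl

theorem sv_one (v : V) : sv 1 v = -v := if_neg one_ne_zero

theorem zcase : ∀ a : ZMod 2, a = 0 ∨ a = 1 := by decide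

theorem sv_sv (a c : ZMod 2) (v : V) : sv a (sv c v) = sv (a + c) v := by
  have h11 : (1 : ZMod 2) + 1 = 0 := by decide
  rcases zcase a with rfl | rfl
  · rw [sv_zero, zero_add]
  · rcases zcase c with rfl | rfl
    · rw [sv_zero, add_zero]
    · rw [sv_one, sv_one, neg_neg, h11, sv_zero]

theorem map_sv (φ : V →ₗ[F] V) (a : ZMod 2) (v : V) : φ (sv a v) = sv a (φ v) := by
  rcases zcase a with rfl | rfl
  · rw [sv_zero, sv_zero]
  · rw [sv_one, sv_one, map_neg]

theorem sv_or (a : ZMod 2) (v : V) : sv a v = v ∨ sv a v = -v := by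
  rcases zcase a with rfl | rfl
  · left; exact sv_zero v
  · right; exact sv_one v

theorem sv_eq_smul (a : ZMod 2) : ∃ c : F, c * c = 1 ∧ ∀ v : V, sv a v = c • v := by
  rcases zcase a with rfl | rfl
  · exact ⟨1, by ring, fun v => by rw [sv_zero, one_smul]⟩
  · exact ⟨-1, by ring, fun v => by rw [sv_one, neg_one_smul]⟩

theorem sv_inj {a c : ZMod 2} {v : V} (hv : -v ≠ v) (h : sv a v = sv c v) : a = c := by
  rcases zcase a with rfl | rfl
  · rcases zcase c with rfl | rfl
    · rfl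
    · rw [sv_zero, sv_one] at h; exact absurd h.symm hv
  · rcases zcase c with rfl | rfl
    · rw [sv_zero, sv_one] at h; exact absurd h hv
    · rfl

namespace Fr

variable {w m : ℕ} {e : Fin w → V} {b : Fin m → V}

/-- an element acting by signs on the frame -/
theorem diag_two [FiniteDimensional F V] (h : Fr P N0 z s ψ act B e b) {g : Γ} (hgz : g * z = z * g)
    {y : Fin w ⊕ Fin m → ZMod 2} (hy : ∀ i, act g (Sum.elim e b i) = sv (y i) (Sum.elim e b i)) :
    g ∈ normalizer (P : Set Γ) ∧ g ∈ normalizer (N0 : Set Γ) ∧ g ^ 2 ^ (1 + 1) = 1 := by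
  have hd : ∀ i, ∃ c : F, act g (Sum.elim e b i) = c • Sum.elim e b i := fun i => by
    obtain ⟨c, -, hc⟩ := sv_eq_smul (F := F) (V := V) (y i)
    exact ⟨c, by rw [hy, hc]⟩
  obtain ⟨hH, hN⟩ := h.big.key hgz (h.big.diag_comm h.orth h.hcard h.eig hd)
  refine ⟨hH, hN, ?_⟩
  apply h.big.S.two_elt h.big.C.z_sq hgz
  intro v
  rw [pow_one, pow_two, h.big.S.mul _ _ hgz hgz]
  refine h.orth.ext_map h.hcard (φ := act g ∘ₗ act g) (φ' := LinearMap.id) ?_ v
  intro i
  have h2 : ∀ a : ZMod 2, a + a = 0 := by decide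
  simp only [LinearMap.comp_apply, LinearMap.id_apply]
  rw [hy, map_sv, hy, sv_sv, h2, sv_zero]

/-- **the zone has dimension at most four** -/
theorem w_le [Finite F] [FiniteDimensional F V] (h : Fr P N0 z s ψ act B e b) : w ≤ 4 := by
  classical
  by_contra hcon
  push Not at hcon
  have hm := h.le_m
  let k₀ : Fin m := ⟨0, by omega⟩
  obtain ⟨e', he', hsp, -, hcl⟩ := norm_form h.big.S (cls (B (b k₀) (b k₀))) h.ee (w - 1) (by omega)
  have h' : Fr P N0 z s ψ act B e' b := h.change he' fun i k => hsp (b k) (fun i => h.eb i k) i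
  let ι : Fin 4 → Fin w := Fin.castLE (by omega)
  have hι : Function.Injective ι := Fin.castLE_injective _
  have hclι : ∀ j, cls (B (e' (ι j)) (e' (ι j))) = cls (B (b k₀) (b k₀)) := fun j => hcl _ (by
    have : (ι j).1 = j.1 := rfl
    omega)
  -- the sign vectors
  let y : (Fin 4 → ZMod 2) → Fin w ⊕ Fin m → ZMod 2 := fun x => Sum.elim (fun i => ∑ j, if ι j = i then x j else 0)
    (fun k => if k = k₀ then ∑ j, x j else 0)
  have hy_add : ∀ x x' i, y (x + x') i = y x i + y x' i := by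
    intro x x' i
    rcases i with i | k
    · simp only [y, Sum.elim_inl, Pi.add_apply, ← Finset.sum_add_distrib]
      refine Finset.sum_congr rfl fun j _ => ?_
      split_ifs
      · rfl
      · rw [add_zero]
    · simp only [y, Sum.elim_inr, Pi.add_apply, Finset.sum_add_distrib]
      split_ifs
      · rfl
      · rw [add_zero]
  have hlift : ∀ x : Fin 4 → ZMod 2, ∃ g : ↥(normalizer (P : Set Γ)), (g : Γ) * z = z * g ∧
      ∀ i, act (g : Γ) (Sum.elim e' b i) = sv (y x i) (Sum.elim e' b i) := by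
    intro x
    have hdd : ∀ a : ZMod 2, a + a = 0 := by decide
    obtain ⟨g, hgz, hg⟩ := sign_lift h.big.S h'.orth _ (y x) rfl (by
      rw [Fintype.sum_sum_type]
      simp only [y, Sum.elim_inl, Sum.elim_inr]
      rw [Finset.sum_comm]
      simp only [Finset.sum_ite_eq, Finset.sum_ite_eq', Finset.mem_univ, if_true]
      exact hdd _) (by
      rw [Fintype.sum_sum_type]
      simp only [y, Sum.elim_inl, Sum.elim_inr, Finset.sum_mul, ite_mul, zero_mul]
      rw [Finset.sum_comm]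
      simp only [Finset.sum_ite_eq, Finset.sum_ite_eq', Finset.mem_univ, if_true, hclι]
      exact hdd _)
    exact ⟨⟨g, (h'.diag_two hgz hg).1⟩, hgz, hg⟩
  choose G hGz hG using hlift
  have hmul : ∀ x x', ψ (G (x + x')) = ψ (G x) * ψ (G x') := by
    intro x x'
    rw [← map_mul]
    have hz := Sit.mul_comm' (hGz x) (hGz x')
    rcases h.big.S.same (hGz (x + x')) hz (by
      intro v
      rw [h.big.S.mul _ _ (hGz x) (hGz x')]
      refine h'.orth.ext_map h.hcard (φ' := act (G x : Γ) ∘ₗ act (G x' : Γ)) ?_ v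
      intro i
      simp only [LinearMap.comp_apply]
      rw [hG, hG, map_sv, hG, sv_sv, hy_add, add_comm]) with e1 | e1
    · congr 1
      exact Subtype.ext e1
    · have hzH := h.big.C.NH (zN h.big.C)
      have e2 : G (x + x') = ⟨z, hzH⟩ * (G x * G x') := Subtype.ext e1
      rw [e2, map_mul ψ ⟨z, hzH⟩, psi_z h.big.C, one_mul]
  have hone : ∀ x, ψ (G x) = 1 → x = 0 := by
    intro x hx
    obtain ⟨hH, hN, h4⟩ := h'.diag_two (hGz x) (hG x)
    have hN0 := mem_N0 h.big.C hH hN h4 hx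
    funext j
    -- a fifth vector
    let l : Fin w := ⟨4, by omega⟩
    have hl : y x (Sum.inl l) = 0 := by
      simp only [y, Sum.elim_inl]
      refine Finset.sum_eq_zero fun j _ => if_neg fun h0 => ?_
      have h1 := congrArg Fin.val h0
      have h2 : (ι j).1 = j.1 := rfl
      have h3 : l.1 = 4 := rfl
      omega
    have hj : y x (Sum.inl (ι j)) = x j := by
      simp only [y, Sum.elim_inl]
      rw [Finset.sum_eq_single j]
      · rw [if_pos rfl]
      · intro j' _ hj'; exact if_neg fun h0 => hj' (hι h0)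
      · intro h0; exact absurd (Finset.mem_univ j) h0
    have a1 := hG x (Sum.inl l)
    have a2 := hG x (Sum.inl (ι j))
    rw [hl, sv_zero] at a1
    rw [hj] at a2
    simp only [Sum.elim_inl] at a1 a2
    rcases h'.eigE _ hN0 with e1 | e1
    · rw [e1, ← sv_zero (e' (ι j)), sv_sv, add_zero] at a2
      exact (sv_inj (h'.ne_neg (h'.ne0 (Sum.inl (ι j)))) a2).symm
    · rw [e1] at a1
      exact absurd a1 (h'.ne_neg (h'.ne0 (Sum.inl l)))
  let f : Multiplicative (Fin 4 → ZMod 2) →* Equiv.Perm (Fin 6) := MonoidHom.mk' (fun x => ψ (G (Multiplicative.toAdd x)))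
    (fun x x' => hmul _ _)
  refine no16 f ((injective_iff_map_eq_one f).2 fun x hx => ?_) (fun x => ?_) ?_
  · exact Multiplicative.toAdd.injective (hone _ hx)
  · apply Multiplicative.toAdd.injective
    funext j
    have h2 : ∀ a : ZMod 2, a + a = 0 := by decide
    exact h2 _
  · rw [Nat.card_congr Multiplicative.toAdd, Nat.card_eq_fintype_card, Fintype.card_fun, ZMod.card, Fintype.card_fin]
    norm_num

/-- the bilinear form of the double swaps and the double sign changes -/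
def chi (q j : ZMod 2 × ZMod 2) : ZMod 2 := q.1 * j.1 + q.2 * j.2

/-- `g` acts on the zone as the monomial transformation `(p, q)` up to sign -/
def Mono (z : Γ) (act : Γ → V →ₗ[F] V) (E : ZMod 2 × ZMod 2 → V) (b : Fin m → V) (p q : ZMod 2 × ZMod 2) (g : Γ) :
    Prop :=
  g * z = z * g ∧ (∃ t : ZMod 2, ∀ j, act g (E j) = sv (t + chi q j) (E (j + p))) ∧ ∀ k, act g (b k) = b k

theorem Mono.mul (S : Sit z act B) {E : ZMod 2 × ZMod 2 → V} {b : Fin m → V} {p q p' q' : ZMod 2 × ZMod 2} {g g' : Γ}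
    (h : Mono z act E b p q g) (h' : Mono z act E b p' q' g') : Mono z act E b (p + p') (q + q') (g * g') := by
  obtain ⟨hz, ⟨t, ht⟩, hb⟩ := h
  obtain ⟨hz', ⟨t', ht'⟩, hb'⟩ := h'
  refine ⟨Sit.mul_comm' hz hz', ⟨t + t' + chi q p', fun j => ?_⟩, fun k => ?_⟩
  · rw [S.mul _ _ hz hz', ht', map_sv, ht, sv_sv]
    have e1 : t' + chi q' j + (t + chi q (j + p')) = t + t' + chi q p' + chi (q + q') j := by
      simp only [chi, Prod.fst_add, Prod.snd_add]; ring
    rw [e1]
    congr 1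
    rw [add_assoc, add_comm p' p]
  · rw [S.mul _ _ hz hz', hb', hb]

/-- **the discriminant of a four-dimensional zone is not a square** -/
theorem disc_ne [Finite F] [FiniteDimensional F V] {e : Fin 4 → V} (h : Fr P N0 z s ψ act B e b)
    (hd : ∑ i, cls (B (e i) (e i)) = 0) : False := by
  classical
  have S := h.big.S
  have h2 := S.two
  -- equal norms
  obtain ⟨e₁, he₁, hsp, hsum, hcl⟩ := norm_form S 0 h.ee 3 le_rfl
  have hcl' : ∀ i, cls (B (e₁ i) (e₁ i)) = 0 := by
    intro i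
    by_cases hi : i.1 < 3
    · exact hcl i hi
    · have hi3 : i = 3 := Fin.ext (by have := i.2; show i.1 = 3; omega)
      rw [hd, Fin.sum_univ_four, hcl 0 (by decide), hcl 1 (by decide), hcl 2 (by decide), zero_add, zero_add,
        zero_add] at hsum
      rw [hi3]; exact hsum
  obtain ⟨σ⟩ : Nonempty (ZMod 2 × ZMod 2 ≃ Fin 4) := ⟨Fintype.equivOfCardEq (by simp)⟩
  have hsc : ∀ i : Fin 4, ∃ a : F, a ≠ 0 ∧ a * a * B (e₁ i) (e₁ i) = 1 := by
    intro i
    have h1 := hcl' i
    unfold cls at h1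
    have h3 : IsSquare (B (e₁ i) (e₁ i)) := by
      by_contra hc
      rw [if_neg hc] at h1
      exact absurd h1 (by decide)
    obtain ⟨c, hc⟩ := h3
    have hc0 : c ≠ 0 := fun h0 => he₁.on i (by rw [hc, h0, mul_zero])
    refine ⟨c⁻¹, inv_ne_zero hc0, ?_⟩
    rw [hc]; field_simp
  choose a ha0 ha using hsc
  let e₂ : Fin 4 → V := fun i => a i • e₁ i
  have he₂ : Orth B e₂ := by
    refine ⟨fun i j hij => ?_, fun i => ?_⟩
    · simp only [e₂, map_smul, LinearMap.smul_apply, smul_eq_mul, he₁.off i j hij, mul_zero]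
    · simp only [e₂, map_smul, LinearMap.smul_apply, smul_eq_mul]
      rw [← mul_assoc, ha]; exact one_ne_zero
  have hn₂ : ∀ i, B (e₂ i) (e₂ i) = 1 := fun i => by
    simp only [e₂, map_smul, LinearMap.smul_apply, smul_eq_mul]
    rw [← mul_assoc, ha]
  have h' : Fr P N0 z s ψ act B e₂ b := h.change he₂ fun i k => by
    have := hsp (b k) (fun i => h.eb i k) i
    simp only [e₂, map_smul, LinearMap.smul_apply, smul_eq_mul, this, mul_zero]
  let E : ZMod 2 × ZMod 2 → V := fun j => e₂ (σ j)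
  have Eoff : ∀ i j, i ≠ j → B (E i) (E j) = 0 := fun i j hij => he₂.off _ _ fun h0 => hij (σ.injective h0)
  have Eon : ∀ i, B (E i) (E i) = 1 := fun i => hn₂ _
  have Eb : ∀ j k, B (E j) (b k) = 0 := fun j k => h'.eb _ k
  have hext : ∀ φ φ' : V →ₗ[F] V, (∀ j, φ (E j) = φ' (E j)) → (∀ k, φ (b k) = φ' (b k)) → ∀ v, φ v = φ' v := by
    intro φ φ' h1 h2
    refine h'.orth.ext_map h.hcard ?_
    rintro (i | k)
    · have := h1 (σ.symm i)
      simp only [E, Equiv.apply_symm_apply] at this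
      exact this
    · exact h2 k
  have EN : ∀ n ∈ N0, (∀ j, act n (E j) = E j) ∨ (∀ j, act n (E j) = -E j) := fun n hn =>
    (h'.eigE n hn).imp (fun h0 j => h0 _) (fun h0 j => h0 _)
  have Ene : ∀ j, E j ≠ 0 := fun j => h'.ne0 (Sum.inl _)
  -- reflections in differences
  have hdn : ∀ i j, i ≠ j → B (E i - E j) (E i - E j) = 2 := by
    intro i j hij
    simp only [map_sub, LinearMap.sub_apply, Eoff i j hij, Eoff j i hij.symm, Eon]
    ring
  have r1 : ∀ i j, i ≠ j → rf B (E i - E j) (E i) = E j := by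
    intro i j hij
    unfold rf
    rw [hdn i j hij, map_sub, LinearMap.sub_apply, Eon, Eoff j i hij.symm, sub_zero, mul_one, div_self h2, one_smul]
    abel
  have r2 : ∀ i j, i ≠ j → rf B (E i - E j) (E j) = E i := by
    intro i j hij
    unfold rf
    rw [hdn i j hij, map_sub, LinearMap.sub_apply, Eon, Eoff i j hij, zero_sub, mul_neg, mul_one, neg_div, div_self h2,
      neg_one_smul]
    abel
  have r3 : ∀ i j l, i ≠ l → j ≠ l → rf B (E i - E j) (E l) = E l := by
    intro i j l h1 h2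
    apply rf_orth
    rw [map_sub, LinearMap.sub_apply, Eoff i l h1, Eoff j l h2, sub_zero]
  have r4 : ∀ i j k, rf B (E i - E j) (b k) = b k := by
    intro i j k
    apply rf_orth
    rw [map_sub, LinearMap.sub_apply, Eb, Eb, sub_zero]
  have s1 : ∀ i, rf B (E i) (E i) = -E i := fun i => rf_self (by rw [Eon]; exact one_ne_zero)
  have s2 : ∀ i j, i ≠ j → rf B (E i) (E j) = E j := fun i j hij => rf_orth (Eoff i j hij)
  have s3 : ∀ i k, rf B (E i) (b k) = b k := fun i k => rf_orth (Eb i k)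
  -- double swaps
  have swap : ∀ p : ZMod 2 × ZMod 2, p ≠ 0 → ∃ g, Mono z act E b p 0 g := by
    intro p hp
    obtain ⟨c, hc0, hcp, hcp'⟩ : ∃ c : ZMod 2 × ZMod 2, c ≠ 0 ∧ c ≠ p ∧ ∀ j, j = 0 ∨ j = p ∨ j = c ∨ j = c + p := by
      revert p; decide
    have hpp : p + p = 0 := by
      have hzero : ∀ p : ZMod 2 × ZMod 2, p + p = 0 := by decide
      exact hzero p
    have hc0' : c + p ≠ 0 := fun h0 => hcp (by
      have : ∀ c p : ZMod 2 × ZMod 2, c + p = 0 → c = p := by decide
      exact this _ _ h0)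
    have hcpp : c + p ≠ p := fun h0 => hc0 (by simpa using h0)
    have hccp : c ≠ c + p := fun h0 => hp (by simpa using h0.symm)
    obtain ⟨g, hgz, hg⟩ := S.lift (E 0 - E p) (E c - E (c + p)) 2 h2 (by
      rw [hdn 0 p hp.symm, hdn c (c + p) hccp])
    refine ⟨g, hgz, ⟨0, fun j => ?_⟩, fun k => by rw [hg, r4, r4]⟩
    have hchi : chi 0 j = 0 := by simp [chi]
    rw [hchi, add_zero, sv_zero, hg]
    rcases hcp' j with rfl | rfl | rfl | rfl
    · rw [r3 _ _ _ hc0 hc0', r1 _ _ hp.symm, zero_add]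
    · rw [r3 _ _ _ hcp hcpp, r2 _ _ hp.symm, hpp]
    · rw [r1 _ _ hccp, r3 _ _ _ hc0'.symm hcpp.symm]
    · rw [r2 _ _ hccp, r3 _ _ _ hc0.symm hcp.symm, add_assoc, hpp, add_zero]
  -- double sign changes
  have sign : ∀ q : ZMod 2 × ZMod 2, q ≠ 0 → ∃ g, Mono z act E b 0 q g := by
    intro q hq
    obtain ⟨c, d, hcd, hcd'⟩ : ∃ c d : ZMod 2 × ZMod 2, c ≠ d ∧
        ∀ j, (j = c ∧ chi q j = 1) ∨ (j = d ∧ chi q j = 1) ∨ (j ≠ c ∧ j ≠ d ∧ chi q j = 0) := by
      revert q; decide +kernel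
    obtain ⟨g, hgz, hg⟩ := S.lift (E c) (E d) 1 one_ne_zero (by rw [Eon, Eon])
    refine ⟨g, hgz, ⟨0, fun j => ?_⟩, fun k => by rw [hg, s3, s3]⟩
    rw [hg, zero_add, add_zero]
    rcases hcd' j with ⟨rfl, e1⟩ | ⟨rfl, e1⟩ | ⟨h1, h3, e1⟩
    · rw [s2 _ _ hcd.symm, s1, e1, sv_one]
    · rw [s1, rf_neg, s2 _ _ hcd, e1, sv_one]
    · rw [s2 _ _ h3.symm, s2 _ _ h1.symm, e1, sv_zero]
  have m0 : Mono z act E b 0 0 1 := ⟨by rw [one_mul, mul_one], ⟨0, fun j => by
    rw [S.one', show chi 0 j = 0 by simp [chi], add_zero, sv_zero, add_zero]⟩, fun k => S.one' _⟩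
  have hall : ∀ p q, ∃ g, Mono z act E b p q g := by
    intro p q
    obtain ⟨g, hg⟩ : ∃ g, Mono z act E b p 0 g := by
      by_cases hp : p = 0
      · exact ⟨1, hp ▸ m0⟩
      · exact swap p hp
    obtain ⟨g', hg'⟩ : ∃ g, Mono z act E b 0 q g := by
      by_cases hq : q = 0
      · exact ⟨1, hq ▸ m0⟩
      · exact sign q hq
    exact ⟨g * g', by simpa using hg.mul S hg'⟩
  -- all these elements are in `H`, normalise `N0` and are `2`-elements
  have hprop : ∀ {p q g}, Mono z act E b p q g → g ∈ normalizer (P : Set Γ) ∧ g ∈ normalizer (N0 : Set Γ) ∧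
      g ^ 2 ^ (2 + 1) = 1 := by
    intro p q g hg
    obtain ⟨hgz, ⟨t, ht⟩, hb⟩ := id hg
    have hc : ∀ n ∈ N0, ∀ v, act g (act n v) = act n (act g v) := by
      intro n hn
      refine hext (act g ∘ₗ act n) (act n ∘ₗ act g) (fun j => ?_) (fun k => ?_)
      · simp only [LinearMap.comp_apply]
        rcases EN n hn with e1 | e1
        · rw [e1, ht, map_sv, e1]
        · rw [e1, map_neg, ht, map_sv, e1, ← sv_one, ← sv_one, sv_sv, sv_sv, add_comm]
      · simp only [LinearMap.comp_apply]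
        rcases h.eigB k n hn with e1 | e1
        · rw [e1, hb, e1]
        · rw [e1, map_neg, hb, e1]
    obtain ⟨hH, hN⟩ := h.big.key hgz hc
    refine ⟨hH, hN, ?_⟩
    apply S.two_elt h.big.C.z_sq hgz
    have h2g := hg.mul S hg
    have h4g := h2g.mul S h2g
    have hzero : ∀ p : ZMod 2 × ZMod 2, p + p = 0 := by decide
    rw [hzero p, hzero q, add_zero] at h4g
    have e4 : g ^ 2 ^ 2 = g * g * (g * g) := by
      rw [show 2 ^ 2 = 2 * 2 from rfl, pow_mul, pow_two, pow_two]
    rw [e4]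
    -- the square of `g * g` is trivial
    rw [hzero p, hzero q] at h2g
    obtain ⟨hggz, ⟨t', ht'⟩, hb'⟩ := h2g
    have hq0 : ∀ j, chi (0 : ZMod 2 × ZMod 2) j = 0 := fun j => by simp [chi]
    have h2a : ∀ a : ZMod 2, a + a = 0 := by decide
    refine hext _ LinearMap.id (fun j => ?_) (fun k => ?_)
    · rw [S.mul _ _ hggz hggz, ht', map_sv, ht', hq0, hq0, add_zero, add_zero, add_zero, sv_sv, h2a, sv_zero]; rfl
    · rw [S.mul _ _ hggz hggz, hb', hb']; rfl
  choose G hG using fun x : (ZMod 2 × ZMod 2) × (ZMod 2 × ZMod 2) => hall x.1 x.2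
  let H' : (ZMod 2 × ZMod 2) × (ZMod 2 × ZMod 2) → ↥(normalizer (P : Set Γ)) := fun x => ⟨G x, (hprop (hG x)).1⟩
  -- two elements with the same parameters have the same image
  have hsame : ∀ {p q g g'} (hg : Mono z act E b p q g) (hg' : Mono z act E b p q g'),
      ψ ⟨g, (hprop hg).1⟩ = ψ ⟨g', (hprop hg').1⟩ := by
    intro p q g g' hg hg'
    have hH := (hprop hg).1
    have hH' := (hprop hg').1
    obtain ⟨hz, ⟨t, ht⟩, hb⟩ := hg
    obtain ⟨hz', ⟨t', ht'⟩, hb'⟩ := hg'
    have hm := mul_mem (inv_mem hH') hH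
    obtain ⟨c, -, hc⟩ := sv_eq_smul (F := F) (V := V) (t + t')
    have h1 : ψ ⟨g'⁻¹ * g, hm⟩ = 1 := by
      refine h'.Z _ hm c fun i => ?_
      have : e₂ i = E (σ.symm i) := by simp only [E, Equiv.apply_symm_apply]
      rw [this, ← hc, S.mul _ _ (Sit.inv_comm hz') hz]
      apply S.act_inj hz'
      rw [S.act_inv hz', map_sv, ht, ht', sv_sv]
      congr 1
      have : ∀ a b c : ZMod 2, a + c = a + b + (b + c) := by decide
      exact this _ _ _
    have h2 : (⟨g'⁻¹ * g, hm⟩ : ↥(normalizer (P : Set Γ))) = ⟨g', hH'⟩⁻¹ * ⟨g, hH⟩ := rfl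
    rw [h2, map_mul, map_inv, inv_mul_eq_one] at h1
    exact h1.symm
  have hmul : ∀ x x', ψ (H' (x + x')) = ψ (H' x) * ψ (H' x') := by
    intro x x'
    rw [← map_mul]
    exact hsame (hG (x + x')) ((hG x).mul S (hG x'))
  have hone : ∀ x, ψ (H' x) = 1 → x = 0 := by
    intro x hx
    obtain ⟨hH, hN, h8⟩ := hprop (hG x)
    have hN0 := mem_N0 h.big.C hH hN h8 hx
    obtain ⟨hz, ⟨t, ht⟩, hb⟩ := hG x
    have hp : x.1 = 0 := by
      by_contra hp
      have h0 := ht 0
      rw [zero_add] at h0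
      have h3 : B (E 0) (act (G x) (E 0)) = 0 := by
        rw [h0]
        rcases sv_or (t + chi x.2 0) (E x.1) with e1 | e1
        · rw [e1, Eoff _ _ (Ne.symm hp)]
        · rw [e1, map_neg, Eoff _ _ (Ne.symm hp), neg_zero]
      rcases EN _ hN0 with e1 | e1
      · rw [e1, Eon] at h3; exact one_ne_zero h3
      · rw [e1, map_neg, Eon] at h3; exact one_ne_zero (neg_eq_zero.1 h3)
    have hq : ∀ j, chi x.2 j = chi x.2 0 := by
      intro j
      have hj := ht j
      have h0 := ht 0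
      rw [hp, add_zero] at hj h0
      have hcanc : ∀ a b c d : ZMod 2, a + b = d → a + c = d → b = c := by decide
      rcases EN _ hN0 with e1 | e1
      · rw [e1, ← sv_zero (E j), sv_sv, add_zero] at hj
        rw [e1, ← sv_zero (E 0), sv_sv, add_zero] at h0
        exact hcanc t _ _ 0 (sv_inj (h'.ne_neg (Ene j)) hj).symm (sv_inj (h'.ne_neg (Ene 0)) h0).symm
      · rw [e1, ← sv_one (E j)] at hj
        rw [e1, ← sv_one (E 0)] at h0
        exact hcanc t _ _ 1 (sv_inj (h'.ne_neg (Ene j)) hj).symm (sv_inj (h'.ne_neg (Ene 0)) h0).symm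
    refine Prod.ext hp ?_
    revert hq
    generalize x.2 = q
    revert q
    decide
  let f : Multiplicative ((ZMod 2 × ZMod 2) × (ZMod 2 × ZMod 2)) →* Equiv.Perm (Fin 6) :=
    MonoidHom.mk' (fun x => ψ (H' (Multiplicative.toAdd x))) (fun x x' => hmul _ _)
  refine no16 f ((injective_iff_map_eq_one f).2 fun x hx => ?_) (fun x => ?_) ?_
  · exact Multiplicative.toAdd.injective (hone _ hx)
  · apply Multiplicative.toAdd.injective
    have h2 : ∀ a : (ZMod 2 × ZMod 2) × (ZMod 2 × ZMod 2), a + a = 0 := by decide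
    exact h2 _
  · rw [Nat.card_congr Multiplicative.toAdd, Nat.card_eq_fintype_card]
    simp

end Fr

end Cfsg.Agent.H512.Co3
end

-- part: H10/Co3/Code
section
/-!
# S1920, the code lemma: every subcode of the even code of length six is invariant under a transposition of two
coordinates of the same colour, the number of coordinates of each colour being even
-/

set_option autoImplicit false

namespace Cfsg.Agent.H10.Co3

/-- words of length six -/
abbrev W := Fin 6 → Bool

/-- parity -/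
def par (u : W) : Bool := (u 0 ^^ u 1) ^^ (u 2 ^^ u 3) ^^ (u 4 ^^ u 5)

/-- sum of words -/
def sm (u v : W) : W := fun i => u i ^^ v i

/-- `u = e_i + e_j` -/
def isdd (u : W) (i j : Fin 6) : Bool := decide (∀ k, u k = (decide (k = i) || decide (k = j)))

/-! ### one colour -/

theorem step_six : ∀ u : W, par u = false → u 0 ≠ u 1 → (∃ i j, i ≠ j ∧ isdd u i j) ∨
    ∃ i j, i ≠ j ∧ u i = false ∧ u j = false ∧ ∀ k, k ≠ i → k ≠ j → u k = true := by
  (delta Cfsg.Agent.H10.Co3.isdd; set_option synthInstance.maxSize 100000 in exact Cfsg.Agent.Lib.Refl.of (by decide +kernel))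

theorem step_six' : ∀ (v : W) (i j : Fin 6), par v = false → i ≠ j → v i ≠ v j → (∃ k l, k ≠ l ∧ isdd v k l) ∨
    (∃ k l, k ≠ l ∧ isdd (fun m => if m = i ∨ m = j then v m else !(v m)) k l) := by
  (delta Cfsg.Agent.H10.Co3.isdd; set_option synthInstance.maxSize 100000 in exact Cfsg.Agent.Lib.Refl.of (by decide +kernel))

theorem one_colour (D : Set W) (hp : ∀ d ∈ D, par d = false) (ha : ∀ u ∈ D, ∀ v ∈ D, sm u v ∈ D) :
    ∃ i j, i ≠ j ∧ ((∀ d ∈ D, d i = d j) ∨ ∃ d ∈ D, isdd d i j = true) := by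
  by_contra hc
  push Not at hc
  have h1 : ∀ d ∈ D, ∀ i j, i ≠ j → isdd d i j = true → False := fun d hd i j hij h => (hc i j hij).2 d hd h
  have h2 : ∀ i j, i ≠ j → ∃ d ∈ D, d i ≠ d j := fun i j hij => (hc i j hij).1
  obtain ⟨u, hu, hu'⟩ := h2 0 1 (by decide)
  rcases step_six u (hp u hu) hu' with ⟨i, j, hij, h⟩ | ⟨i, j, hij, hi, hj, hk⟩
  · exact h1 u hu i j hij h
  · obtain ⟨v, hv, hv'⟩ := h2 i j hij
    rcases step_six' v i j (hp v hv) hij hv' with ⟨k, l, hkl, h⟩ | ⟨k, l, hkl, h⟩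
    · exact h1 v hv k l hkl h
    · have e : sm u v = fun m => if m = i ∨ m = j then v m else !(v m) := by
        funext m
        by_cases hm : m = i ∨ m = j
        · rcases hm with rfl | rfl
          · simp [sm, hi]
          · simp [sm, hj]
        · rw [not_or] at hm
          simp [sm, hm.1, hm.2, hk m hm.1 hm.2]
      refine h1 _ (ha u hu v hv) k l hkl ?_
      rw [e]
      exact h

/-! ### colours `{0,1,2,3}`, `{4,5}` -/

theorem stepA : ∀ u : W, par u = false → u 4 ≠ u 5 → ∃ a b c : Fin 4, a ≠ b ∧ a ≠ c ∧ b ≠ c ∧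
    u (Fin.castAdd 2 a) = u (Fin.castAdd 2 b) ∧ u (Fin.castAdd 2 a) = u (Fin.castAdd 2 c) := by
  decide +kernel

theorem stepB : ∀ (t : W) (x y : Fin 4), par t = false → t 4 = false → t 5 = false → x ≠ y →
    t (Fin.castAdd 2 x) ≠ t (Fin.castAdd 2 y) →
    (∃ k l : Fin 4, k ≠ l ∧ isdd t (Fin.castAdd 2 k) (Fin.castAdd 2 l) = true) := by
  decide +kernel

theorem two_colour (D : Set W) (hp : ∀ d ∈ D, par d = false) (ha : ∀ u ∈ D, ∀ v ∈ D, sm u v ∈ D) :
    ((∀ d ∈ D, d 4 = d 5) ∨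
    ∃ i j : Fin 4, i ≠ j ∧ ((∀ d ∈ D, d (Fin.castAdd 2 i) = d (Fin.castAdd 2 j)) ∨
      ∃ d ∈ D, isdd d (Fin.castAdd 2 i) (Fin.castAdd 2 j) = true)) := by
  by_contra hc
  rw [not_or] at hc
  obtain ⟨hc1, hc2⟩ := hc
  push Not at hc1 hc2
  obtain ⟨u, hu, hu'⟩ := hc1
  obtain ⟨a, b, c, hab, hac, hbc, e1, e2⟩ := stepA u (hp u hu) hu'
  -- separate two of `a, b, c` by an element constant on `{4, 5}`
  have sep : ∀ x y : Fin 4, x ≠ y → u (Fin.castAdd 2 x) = u (Fin.castAdd 2 y) →
      ∃ v ∈ D, v 4 = true ∧ v 5 = true ∧ v (Fin.castAdd 2 x) ≠ v (Fin.castAdd 2 y) := by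
    intro x y hxy he
    obtain ⟨v0, hv0, hs⟩ := (hc2 x y hxy).1
    obtain ⟨v, hv, h45, hs'⟩ : ∃ v ∈ D, v 4 = v 5 ∧ v (Fin.castAdd 2 x) ≠ v (Fin.castAdd 2 y) := by
      by_cases h : v0 4 = v0 5
      · exact ⟨v0, hv0, h, hs⟩
      · refine ⟨sm u v0, ha u hu v0 hv0, ?_, ?_⟩
        · simp only [sm]
          revert h hu'
          generalize u 4 = p
          generalize u 5 = q
          generalize v0 4 = r
          generalize v0 5 = t
          revert p q r t
          decide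
        · simp only [sm, he]
          intro h'
          apply hs
          simpa using h'
    refine ⟨v, hv, ?_, ?_, hs'⟩
    · by_contra h4
      have h4' : v 4 = false := by simpa using h4
      obtain ⟨k, l, hkl, h⟩ := stepB v x y (hp v hv) h4' (h45 ▸ h4') hxy hs'
      exact absurd h ((hc2 k l hkl).2 v hv)
    · by_contra h5
      have h5' : v 5 = false := by simpa using h5
      obtain ⟨k, l, hkl, h⟩ := stepB v x y (hp v hv) (h45.trans h5') h5' hxy hs'
      exact absurd h ((hc2 k l hkl).2 v hv)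
  obtain ⟨v, hv, v4, v5, hs⟩ := sep a b hab e1
  -- `v` does not separate two of `a, b, c`
  obtain ⟨x, y, hxy, he, hvxy⟩ : ∃ x y : Fin 4, x ≠ y ∧ u (Fin.castAdd 2 x) = u (Fin.castAdd 2 y) ∧
      v (Fin.castAdd 2 x) = v (Fin.castAdd 2 y) := by
    by_cases h : v (Fin.castAdd 2 a) = v (Fin.castAdd 2 c)
    · exact ⟨a, c, hac, e2, h⟩
    · refine ⟨b, c, hbc, e1.symm.trans e2, ?_⟩
      revert hs h
      generalize v (Fin.castAdd 2 a) = p
      generalize v (Fin.castAdd 2 b) = q
      generalize v (Fin.castAdd 2 c) = r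
      revert p q r
      decide
  obtain ⟨w, hw, w4, w5, hs'⟩ := sep x y hxy he
  have hvw := ha v hv w hw
  obtain ⟨k, l, hkl, h⟩ := stepB (sm v w) x y (hp _ hvw) (by simp [sm, v4, w4]) (by simp [sm, v5, w5]) hxy (by
    simp only [sm, hvxy]
    intro h'
    exact hs' (by simpa using h'))
  exact absurd h ((hc2 k l hkl).2 _ hvw)

/-! ### all colourings -/

/-- every even colouring is constant or has, after a permutation, the colour classes `{0,1,2,3}`, `{4,5}` -/
theorem colour : ∀ f : W, par f = false → (∀ i j, f i = f j) ∨ ∃ e : Equiv.Perm (Fin 6),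
    f (e 0) = f (e 1) ∧ f (e 0) = f (e 2) ∧ f (e 0) = f (e 3) ∧ f (e 4) = f (e 5) := by
  (set_option synthInstance.maxSize 2000 in open scoped Cfsg.Agent.Lib.PermDec in decide +kernel)

/-- **The code lemma.** -/
theorem code_lemma (D : Set W) (hp : ∀ d ∈ D, par d = false) (ha : ∀ u ∈ D, ∀ v ∈ D, sm u v ∈ D) (f : W)
    (hf : par f = false) :
    ∃ i j, i ≠ j ∧ f i = f j ∧ ((∀ d ∈ D, d i = d j) ∨ ∃ d ∈ D, isdd d i j = true) := by
  rcases colour f hf with h | ⟨e, h1, h2, h3, h4⟩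
  · obtain ⟨i, j, hij, hd⟩ := one_colour D hp ha
    exact ⟨i, j, hij, h i j, hd⟩
  · have hpe : ∀ u : W, par (fun i => u (e i)) = par u := by
      intro u
      have key : ∀ u : W, par u = true ↔ (∑ i, if u i then (1 : ZMod 2) else 0) = 1 := by
        intro u
        simp only [par, Fin.sum_univ_six]
        generalize u 0 = a0
        generalize u 1 = a1
        generalize u 2 = a2
        generalize u 3 = a3
        generalize u 4 = a4
        generalize u 5 = a5
        revert a0 a1 a2 a3 a4 a5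
        decide +kernel
      rw [Bool.eq_iff_iff, key, key, ← Equiv.sum_comp e (fun i => if u i then (1 : ZMod 2) else 0)]
    have hdd : ∀ (d : W) (i j : Fin 6), isdd (fun k => d (e k)) i j = true → isdd d (e i) (e j) = true := by
      intro d i j h
      simp only [isdd, decide_eq_true_eq] at h ⊢
      intro k
      have := h (e.symm k)
      simp only [Equiv.apply_symm_apply] at this
      rw [this]
      simp only [Equiv.symm_apply_eq]
    have hall : ∀ a : Fin 4, f (e 0) = f (e (Fin.castAdd 2 a)) := by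
      intro a
      fin_cases a
      · rfl
      · exact h1
      · exact h2
      · exact h3
    rcases two_colour {d | ∃ u ∈ D, d = fun k => u (e k)} (by
      rintro _ ⟨u, hu, rfl⟩
      rw [hpe]
      exact hp u hu) (by
      rintro _ ⟨u, hu, rfl⟩ _ ⟨v, hv, rfl⟩
      exact ⟨sm u v, ha u hu v hv, rfl⟩) with h | ⟨i, j, hij, h⟩
    · exact ⟨e 4, e 5, fun he => absurd (e.injective he) (by decide), h4, Or.inl fun d hd => h _ ⟨d, hd, rfl⟩⟩
    · refine ⟨e (Fin.castAdd 2 i), e (Fin.castAdd 2 j), fun he => hij (Fin.castAdd_injective 4 2 (e.injective he)),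
        (hall i).symm.trans (hall j), ?_⟩
      rcases h with h | ⟨d, ⟨u, hu, rfl⟩, hd⟩
      · exact Or.inl fun d hd => h _ ⟨d, hd, rfl⟩
      · exact Or.inr ⟨u, hu, hdd u _ _ hd⟩

/-- the transposition preserves the code -/
theorem code_swap (D : Set W) (hp : ∀ d ∈ D, par d = false) (ha : ∀ u ∈ D, ∀ v ∈ D, sm u v ∈ D) (f : W)
    (hf : par f = false) :
    ∃ i j, i ≠ j ∧ f i = f j ∧ ∀ d ∈ D, (fun k => d (Equiv.swap i j k)) ∈ D := by
  obtain ⟨i, j, hij, hfij, h⟩ := code_lemma D hp ha f hf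
  refine ⟨i, j, hij, hfij, fun d hd => ?_⟩
  have key : d i = d j → (fun k => d (Equiv.swap i j k)) = d := by
    intro h
    funext k
    by_cases h1 : k = i
    · subst h1
      rw [Equiv.swap_apply_left, h]
    · by_cases h2 : k = j
      · subst h2
        rw [Equiv.swap_apply_right, h]
      · rw [Equiv.swap_apply_of_ne_of_ne h1 h2]
  rcases h with h | ⟨t, ht, htd⟩
  · rw [key (h d hd)]
    exact hd
  · by_cases hdd : d i = d j
    · rw [key hdd]
      exact hd
    · have e : (fun k => d (Equiv.swap i j k)) = sm d t := by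
        simp only [isdd, decide_eq_true_eq] at htd
        funext k
        simp only [sm, htd k]
        by_cases h1 : k = i
        · subst h1
          rw [Equiv.swap_apply_left]
          simp only [decide_true, Bool.true_or, Bool.xor_true]
          exact (Bool.not_eq.2 (fun h => hdd h)).symm ▸ (by simp)
        · by_cases h2 : k = j
          · subst h2
            rw [Equiv.swap_apply_right]
            simp only [decide_true, Bool.or_true, Bool.xor_true]
            exact (Bool.not_eq.2 (fun h => hdd h.symm)).symm ▸ (by simp)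
          · rw [Equiv.swap_apply_of_ne_of_ne h1 h2]
            simp [h1, h2]
      rw [e]
      exact ha d hd t ht

end Cfsg.Agent.H10.Co3
end

-- part: H512/Co3/Main
section
/-!
# S1920, case B: no configuration in an orthogonal situation of dimension ten with non-square discriminant (helper512)
-/

set_option autoImplicit false

open Subgroup

namespace Cfsg.Agent.H512.Co3

open Cfsg.Agent.H13.Co3 (CB)
open Cfsg.Agent.H10.Co3 (par sm code_swap)
open Module

variable {F V : Type*} [Field F] [AddCommGroup V] [Module F V]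
variable {Γ : Type*} [Group Γ] {P N0 : Subgroup Γ} {z s : Γ} {ψ : ↥(normalizer (P : Set Γ)) →* Equiv.Perm (Fin 6)}
  {act : Γ → V →ₗ[F] V} {B : V →ₗ[F] V →ₗ[F] F}

/-- the bit of a sign -/
def toB (a : ZMod 2) : Bool := decide (a = 1)

theorem toB_add : ∀ a c : ZMod 2, toB (a + c) = (toB a ^^ toB c) := by decide

theorem toB_inj : ∀ a c : ZMod 2, toB a = toB c → a = c := by decide

theorem par_toB (x : Fin 6 → ZMod 2) (h : ∑ k, x k = 0) : par (fun k => toB (x k)) = false := by
  rw [Fin.sum_univ_six] at h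
  unfold par
  simp only [← toB_add]
  have : x 0 + x 1 + (x 2 + x 3) + (x 4 + x 5) = 0 := by linear_combination h
  rw [this]; rfl

/-- the swap of two further vectors of the same square class, times a reflection, lifts -/
theorem Fr.exists_swap [Finite F] [FiniteDimensional F V] {e : Fin 4 → V} {b : Fin 6 → V}
    (h : Fr P N0 z s ψ act B e b) (hd : ∑ i, cls (B (e i) (e i)) = 1) {i j : Fin 6} (hij : i ≠ j)
    (hc : cls (B (b i) (b i)) = cls (B (b j) (b j))) :
    ∃ (g : Γ) (a γ : F), g * z = z * g ∧ a * a = 1 ∧ γ ≠ 0 ∧ (∀ l, act g (e l) = a • e l) ∧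
      act g (b i) = -(γ • b j) ∧ act g (b j) = γ⁻¹ • b i ∧ ∀ k, k ≠ i → k ≠ j → act g (b k) = b k := by
  classical
  have S := h.big.S
  have h2 := S.two
  obtain ⟨c, hc0, hcc⟩ := cls_eq (h.bb.on i) (h.bb.on j) h2 hc
  have hj0 := h.bb.on j
  have hi0 := h.bb.on i
  obtain ⟨γ, hγ0, hγ⟩ : ∃ γ : F, γ ≠ 0 ∧ γ * γ * B (b j) (b j) = B (b i) (b i) := by
    refine ⟨c / B (b j) (b j), div_ne_zero hc0 hj0, ?_⟩
    field_simp
    linear_combination hcc
  obtain ⟨v, hv⟩ : ∃ v, v = γ • b j := ⟨_, rfl⟩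
  have oij := h.bb.off i j hij
  have oji := h.bb.off j i hij.symm
  have hvv : B v v = B (b i) (b i) := by
    rw [hv]; simp only [map_smul, LinearMap.smul_apply, smul_eq_mul]; rw [← hγ]; ring
  have hiv : B (b i) v = 0 := by rw [hv, map_smul, oij, smul_zero]
  have hvi : B v (b i) = 0 := by rw [S.symm, hiv]
  have hnn : B (b i - v) (b i - v) = 2 * B (b i) (b i) := by
    simp only [map_sub, LinearMap.sub_apply, hiv, hvi, hvv]; ring
  have hn0 : B (b i - v) (b i - v) ≠ 0 := by rw [hnn]; exact mul_ne_zero h2 hi0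
  -- the reflection in `b i - v`
  have r1 : rf B (b i - v) (b i) = v := by
    unfold rf
    rw [hnn, map_sub, LinearMap.sub_apply, hvi, sub_zero, div_self (mul_ne_zero h2 hi0), one_smul]
    abel
  have r2 : rf B (b i - v) v = b i := by
    unfold rf
    rw [hnn, map_sub, LinearMap.sub_apply, hiv, hvv, zero_sub, mul_neg, neg_div, div_self (mul_ne_zero h2 hi0),
      neg_one_smul]
    abel
  have r3 : ∀ k, k ≠ i → k ≠ j → rf B (b i - v) (b k) = b k := by
    intro k hki hkj
    apply rf_orth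
    rw [map_sub, LinearMap.sub_apply, h.bb.off i k hki.symm, hv, map_smul, LinearMap.smul_apply,
      h.bb.off j k hkj.symm, smul_zero, sub_zero]
  have r4 : ∀ u, (∀ k, B (b k) u = 0) → rf B (b i - v) u = u := by
    intro u hu
    apply rf_orth
    rw [map_sub, LinearMap.sub_apply, hu, hv, map_smul, LinearMap.smul_apply, hu, smul_zero, sub_zero]
  have hjv : b j = γ⁻¹ • v := by rw [hv, smul_smul, inv_mul_cancel₀ hγ0, one_smul]
  rcases zcase (cls (2 : F)) with hcl | hcl
  · -- `2` is a square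
    have hs2 : IsSquare (2 : F) := by
      unfold cls at hcl
      by_contra hcon
      rw [if_neg hcon] at hcl
      exact absurd hcl (by decide)
    obtain ⟨d, hd2⟩ := hs2
    have hd0 : d ≠ 0 := fun h0 => h2 (by rw [hd2, h0, mul_zero])
    obtain ⟨g, hgz, hg⟩ := S.lift (b i - v) (b i) (d * B (b i) (b i)) (mul_ne_zero hd0 hi0) (by
      rw [hnn]; linear_combination (-(B (b i) (b i) * B (b i) (b i))) * hd2)
    refine ⟨g, 1, γ, hgz, one_mul 1, hγ0, fun l => ?_, ?_, ?_, fun k hki hkj => ?_⟩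
    · rw [hg, rf_orth (h.be l i), r4 _ (fun k => h.be l k), one_smul]
    · rw [hg, rf_self hi0, rf_neg, r1, hv]
    · rw [hjv, map_smul, hg, rf_orth hiv, r2]
    · rw [hg, rf_orth (h.bb.off i k hki.symm), r3 k hki hkj]
  · -- `2` is not a square
    obtain ⟨e', he', hsp, hsum, hcl'⟩ := norm_form S (cls (B (b i - v) (b i - v))) h.ee 3 le_rfl
    have he0 : cls (B (e' 0) (e' 0)) = cls (B (b i - v) (b i - v)) := hcl' 0 (by decide)
    have h' : Fr P N0 z s ψ act B e' b := h.change he' fun i k => hsp (b k) (fun i => h.eb i k) i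
    obtain ⟨d, hd0, hdd⟩ := cls_eq hn0 (he'.on 0) h2 he0.symm
    obtain ⟨g₁, hg₁z, hg₁⟩ := S.lift (b i - v) (e' 0) d hd0 hdd
    let y : Fin 4 ⊕ Fin 6 → ZMod 2 := Sum.elim (fun l => if l = 0 then 0 else 1) (fun k => if k = i then 1 else 0)
    obtain ⟨g₂, hg₂z, hg₂⟩ := sign_lift S h'.orth _ y rfl (by
      rw [Fintype.sum_sum_type]
      simp only [y, Sum.elim_inl, Sum.elim_inr, Finset.sum_ite_eq', Finset.mem_univ, if_true]
      decide) (by
      rw [Fintype.sum_sum_type]
      simp only [y, Sum.elim_inl, Sum.elim_inr, ite_mul, zero_mul, one_mul, Finset.sum_ite_eq', Finset.mem_univ,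
        if_true]
      rw [hd] at hsum
      rw [Fin.sum_univ_four] at hsum ⊢
      rw [he0, hnn, cls_mul h2 h2 hi0, hcl] at hsum
      simp only [if_true, Fin.isValue, one_ne_zero, if_false, Fin.reduceEq]
      revert hsum
      generalize cls (B (e' 1) (e' 1)) = x1
      generalize cls (B (e' 2) (e' 2)) = x2
      generalize cls (B (e' 3) (e' 3)) = x3
      generalize cls (B (b i) (b i)) = x4
      revert x1 x2 x3 x4
      decide)
    have t0 : act g₂ (e' 0) = e' 0 := by
      have := hg₂ (Sum.inl 0)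
      simpa [y] using this
    have tl : ∀ l : Fin 4, l ≠ 0 → act g₂ (e' l) = -e' l := fun l hl => by
      have := hg₂ (Sum.inl l)
      simpa only [y, hl, _root_.Sum.elim_inl, _root_.Fin.isValue, ↓ _root_.reduceIte, _root_.one_ne_zero] using this
    have ti : act g₂ (b i) = -b i := by
      have := hg₂ (Sum.inr i)
      simpa only [y, _root_.Sum.elim_inr, _root_.Fin.isValue, ↓ _root_.reduceIte, _root_.one_ne_zero] using this
    have tk : ∀ k, k ≠ i → act g₂ (b k) = b k := fun k hk => by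
      have := hg₂ (Sum.inr k)
      simpa [y, hk] using this
    have hgz := Sit.mul_comm' hg₁z hg₂z
    have hE : ∀ l, act (g₁ * g₂) (e' l) = (-1 : F) • e' l := by
      intro l
      rw [S.mul _ _ hg₁z hg₂z, neg_one_smul]
      rcases eq_or_ne l 0 with rfl | hl
      · rw [t0, hg₁, rf_self (he'.on 0), rf_neg, r4 _ (fun k => h'.be 0 k)]
      · rw [tl l hl, map_neg, hg₁, rf_orth (he'.off 0 l hl.symm), r4 _ (fun k => h'.be l k)]
    refine ⟨g₁ * g₂, -1, γ, hgz, by ring, hγ0, fun l => ?_, ?_, ?_, fun k hki hkj => ?_⟩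
    · -- back to the old basis of the zone
      have hol : ∀ k, B (b k) (e l) = 0 := fun k => h.be l k
      refine on_part h'.orth h.hcard (c := fun x => x.isLeft = true) ?_ ?_
      · rintro (j | j) hj
        · exact hE j
        · simp at hj
      · rintro (j | j) hj
        · simp at hj
        · exact hol j
    · rw [S.mul _ _ hg₁z hg₂z, ti, map_neg, hg₁, rf_orth (h'.eb 0 i), r1, hv]
    · have e1 : act g₂ v = v := by rw [hv, map_smul, tk j hij.symm]
      have e2 : B (e' 0) v = 0 := by rw [hv, map_smul, h'.eb 0 j, smul_zero]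
      rw [hjv, map_smul, S.mul _ _ hg₁z hg₂z, e1, hg₁, rf_orth e2, r2]
    · rw [S.mul _ _ hg₁z hg₂z, tk k hki, hg₁, rf_orth (h'.eb 0 k), r3 k hki hkj]

/-- **the kill** -/
theorem Fr.kill [Finite F] [FiniteDimensional F V] {e : Fin 4 → V} {b : Fin 6 → V}
    (h : Fr P N0 z s ψ act B e b) (hd : ∑ i, cls (B (e i) (e i)) = 1) (hb : ∑ k, cls (B (b k) (b k)) = 0) :
    False := by
  classical
  have S := h.big.S
  -- the two parity conditions
  have hfour : (4 : ZMod 2) = 0 := by decide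
  have c1 : ∀ n ∈ N0, ∑ k, sg act n (b k) = 0 := by
    intro n hn
    have h1 : ((4 : ℕ) : ZMod 2) * sg act n (h.vec none) + ∑ k, sg act n (b k) = 0 :=
      congrArg Prod.fst (h.signs_eq rfl hn)
    rw [Nat.cast_ofNat, hfour, zero_mul, zero_add] at h1
    exact h1
  have c2 : ∀ n ∈ N0, sg act n (h.vec none) = ∑ k, sg act n (b k) * cls (B (b k) (b k)) := by
    intro n hn
    have h1 : sg act n (h.vec none) * ∑ i, cls (B (e i) (e i)) + ∑ k, sg act n (b k) * cls (B (b k) (b k)) = 0 :=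
      congrArg Prod.snd (h.signs_eq rfl hn)
    rw [hd, mul_one] at h1
    have h2 : ∀ a c : ZMod 2, a + c = 0 → a = c := by decide
    exact h2 _ _ h1
  -- the code
  obtain ⟨i, j, hij, hf, hD⟩ := code_swap {d | ∃ p ∈ P, d = fun k => toB (sg act p (b k))}
    (by
      rintro _ ⟨p, hp, rfl⟩
      exact par_toB _ (c1 p (h.big.C.PN hp)))
    (by
      rintro _ ⟨p, hp, rfl⟩ _ ⟨p', hp', rfl⟩
      refine ⟨p * p', mul_mem hp hp', ?_⟩
      funext k
      show (toB _ ^^ toB _) = _
      rw [← toB_add, h.sg_mul (h.big.C.PN hp) (h.big.C.PN hp') (h.eigB k) (h.vec_ne (some k))])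
    (fun k => toB (cls (B (b k) (b k)))) (par_toB _ hb)
  have hcl : cls (B (b i) (b i)) = cls (B (b j) (b j)) := toB_inj _ _ hf
  obtain ⟨g, a, γ, hgz, haa, hγ, ge, gi, gj, gk⟩ := h.exists_swap hd hij hcl
  have hclsw : ∀ k, cls (B (b (Equiv.swap i j k)) (b (Equiv.swap i j k))) = cls (B (b k) (b k)) := by
    intro k
    by_cases hk : k = i
    · subst hk; rw [Equiv.swap_apply_left, hcl]
    · by_cases hk' : k = j
      · subst hk'; rw [Equiv.swap_apply_right, hcl]
      · rw [Equiv.swap_apply_of_ne_of_ne hk hk']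
  -- the conjugate of `n`
  have hconj : ∀ n ∈ N0, ∀ n' ∈ N0, sg act n' (h.vec none) = sg act n (h.vec none) →
      (∀ k, sg act n' (b k) = sg act n (b (Equiv.swap i j k))) → g * n * g⁻¹ = n' ∨ g * n * g⁻¹ = z * n' := by
    intro n hn n' hn' h0 hk
    have hnz := h.big.nz hn
    have hn'z := h.big.nz hn'
    have hsgv : ∀ m ∈ N0, ∀ k, act m (b k) = sv (sg act m (b k)) (b k) := fun m hm k => by
      have := h.act_sg hm (h.eigB k)
      rw [this]; rfl
    have hsge : ∀ m ∈ N0, ∀ l, act m (e l) = sv (sg act m (h.vec none)) (e l) := fun m hm l => by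
      have := h.act_e hm l
      rw [this]; rfl
    have hact : ∀ v, act g (act n v) = act n' (act g v) := by
      refine h.orth.ext_map h.hcard (φ := act g ∘ₗ act n) (φ' := act n' ∘ₗ act g) ?_
      rintro (l | k)
      · simp only [LinearMap.comp_apply, Sum.elim_inl]
        rw [hsge n hn, map_sv, ge, map_smul, hsge n' hn', h0]
        rcases zcase (sg act n (h.vec none)) with e1 | e1
        · rw [e1, sv_zero, sv_zero]
        · rw [e1, sv_one, sv_one, smul_neg]
      · simp only [LinearMap.comp_apply, Sum.elim_inr]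
        by_cases hki : k = i
        · subst hki
          rw [hsgv n hn, map_sv, gi, map_neg, map_smul, hsgv n' hn', hk, Equiv.swap_apply_right]
          rcases zcase (sg act n (b k)) with e1 | e1
          · rw [e1, sv_zero, sv_zero]
          · rw [e1, sv_one, sv_one, smul_neg]
        · by_cases hkj : k = j
          · subst hkj
            rw [hsgv n hn, map_sv, gj, map_smul, hsgv n' hn', hk, Equiv.swap_apply_left]
            rcases zcase (sg act n (b k)) with e1 | e1
            · rw [e1, sv_zero, sv_zero]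
            · rw [e1, sv_one, sv_one, smul_neg]
          · rw [hsgv n hn, map_sv, gk k hki hkj, hsgv n' hn', hk, Equiv.swap_apply_of_ne_of_ne hki hkj]
    rcases S.same (Sit.mul_comm' hgz hnz) (Sit.mul_comm' hn'z hgz) (fun v => by
      rw [S.mul _ _ hgz hnz, S.mul _ _ hn'z hgz, hact]) with e1 | e1
    · left; rw [e1, mul_inv_cancel_right]
    · right; rw [e1, mul_assoc, mul_inv_cancel_right]
  have hfN : Finite N0 := Nat.finite_of_card_ne_zero (by rw [h.big.C.card]; norm_num)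
  -- `g` normalises `P`
  have gP : g ∈ normalizer (P : Set Γ) := by
    have hfP : Finite ((P : Set Γ) : Set Γ) := Finite.of_injective _ (Subgroup.inclusion_injective h.big.C.PN)
    apply mem_normalizer_fintype
    intro p hp
    obtain ⟨p', hp', hpp⟩ := hD _ ⟨p, hp, rfl⟩
    have hX : ∀ k, sg act p' (b k) = sg act p (b (Equiv.swap i j k)) := fun k =>
      (toB_inj _ _ (congrFun hpp k)).symm
    have h0 : sg act p' (h.vec none) = sg act p (h.vec none) := by
      rw [c2 p' (h.big.C.PN hp'), c2 p (h.big.C.PN hp)]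
      rw [← Equiv.sum_comp (Equiv.swap i j) (fun k => sg act p (b k) * cls (B (b k) (b k)))]
      exact Finset.sum_congr rfl fun k _ => by rw [hX, hclsw]
    rcases hconj p (h.big.C.PN hp) p' (h.big.C.PN hp') h0 hX with e1 | e1
    · rw [e1]; exact hp'
    · rw [e1]; exact mul_mem h.big.C.zP hp'
  -- `g` normalises `N0`
  have gN : g ∈ normalizer (N0 : Set Γ) := by
    have hfP : Finite ((N0 : Set Γ) : Set Γ) := hfN
    apply mem_normalizer_fintype
    intro n hn
    let x : Option (Fin 6) → ZMod 2 := fun k => match k with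
      | none => sg act n (h.vec none)
      | some k => sg act n (b (Equiv.swap i j k))
    obtain ⟨n', hn', hx⟩ := h.all_signs (x := x) (by
      refine Prod.ext ?_ ?_
      · show ((4 : ℕ) : ZMod 2) * x none + ∑ k, x (some k) = 0
        rw [Nat.cast_ofNat, hfour, zero_mul, zero_add]
        rw [← c1 n hn]
        exact Equiv.sum_comp (Equiv.swap i j) (fun k => sg act n (b k))
      · show x none * ∑ i, cls (B (e i) (e i)) + ∑ k, x (some k) * cls (B (b k) (b k)) = 0
        rw [hd, mul_one]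
        have e1 : ∑ k, x (some k) * cls (B (b k) (b k)) = ∑ k, sg act n (b k) * cls (B (b k) (b k)) := by
          rw [← Equiv.sum_comp (Equiv.swap i j) (fun k => sg act n (b k) * cls (B (b k) (b k)))]
          exact Finset.sum_congr rfl fun k _ => by rw [hclsw]
        rw [e1, ← c2 n hn]
        have h2 : ∀ a : ZMod 2, a + a = 0 := by decide
        exact h2 _)
    rcases hconj n hn n' hn' (hx none) (fun k => hx (some k)) with e1 | e1
    · rw [e1]; exact hn'
    · rw [e1]; exact mul_mem (zN h.big.C) hn'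
  -- `g` is a `2`-element
  have g8 : g ^ 2 ^ (2 + 1) = 1 := by
    apply S.two_elt h.big.C.z_sq hgz
    have e4 : g ^ 2 ^ 2 = g * g * (g * g) := by
      rw [show 2 ^ 2 = 2 * 2 from rfl, pow_mul, pow_two, pow_two]
    have hggz := Sit.mul_comm' hgz hgz
    have f1 : ∀ l, act (g * g) (e l) = e l := fun l => by
      rw [S.mul _ _ hgz hgz, ge, map_smul, ge, smul_smul, haa, one_smul]
    have f2 : act (g * g) (b i) = -b i := by
      rw [S.mul _ _ hgz hgz, gi, map_neg, map_smul, gj, smul_smul, mul_inv_cancel₀ hγ, one_smul]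
    have f3 : act (g * g) (b j) = -b j := by
      rw [S.mul _ _ hgz hgz, gj, map_smul, gi, smul_neg, smul_smul, inv_mul_cancel₀ hγ, one_smul]
    have f4 : ∀ k, k ≠ i → k ≠ j → act (g * g) (b k) = b k := fun k h1 h2 => by
      rw [S.mul _ _ hgz hgz, gk k h1 h2, gk k h1 h2]
    refine h.orth.ext_map h.hcard (φ' := LinearMap.id) ?_
    rintro (l | k)
    · simp only [Sum.elim_inl, LinearMap.id_apply]
      rw [e4, S.mul _ _ hggz hggz, f1, f1]
    · simp only [Sum.elim_inr, LinearMap.id_apply]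
      rw [e4, S.mul _ _ hggz hggz]
      by_cases hki : k = i
      · subst hki; rw [f2, map_neg, f2, neg_neg]
      · by_cases hkj : k = j
        · subst hkj; rw [f3, map_neg, f3, neg_neg]
        · rw [f4 k hki hkj, f4 k hki hkj]
  have gN0 : g ∈ N0 := mem_N0 h.big.C gP gN g8 (h.Z g gP a ge)
  -- but `g` is not diagonal
  have h1 : B (b j) (act g (b i)) = 0 := by
    rcases h.eigB i g gN0 with e1 | e1
    · rw [e1, h.bb.off j i hij.symm]
    · rw [e1, map_neg, h.bb.off j i hij.symm, neg_zero]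
  rw [gi, map_neg, map_smul, neg_eq_zero, smul_eq_mul] at h1
  rcases mul_eq_zero.1 h1 with h2 | h2
  · exact hγ h2
  · exact h.bb.on j h2

theorem cls_prod [Finite F] (h2 : (2 : F) ≠ 0) {ι : Type*} (t : Finset ι) (c : ι → F) (hc : ∀ i, c i ≠ 0) :
    cls (∏ i ∈ t, c i) = ∑ i ∈ t, cls (c i) := by
  classical
  induction t using Finset.induction_on with
  | empty =>
    have := cls_sq (1 : F)
    rw [mul_one] at this
    simpa using this
  | insert i t hi ih =>
    rw [Finset.prod_insert hi, Finset.sum_insert hi, cls_mul h2 (hc i) (Finset.prod_ne_zero_iff.2 fun j _ => hc j), ih]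

/-- **the discriminant does not depend on the orthogonal basis** -/
theorem disc_inv [Finite F] [FiniteDimensional F V] (h2 : (2 : F) ≠ 0) {ι κ : Type*} [Fintype ι] [Fintype κ]
    {f : ι → V} {g : κ → V} (hf : Orth B f) (hg : Orth B g) (hcf : Fintype.card ι = finrank F V)
    (hcg : Fintype.card κ = finrank F V) : ∑ i, cls (B (f i) (f i)) = ∑ i, cls (B (g i) (g i)) := by
  classical
  obtain ⟨σ⟩ : Nonempty (ι ≃ κ) := ⟨Fintype.equivOfCardEq (hcf.trans hcg.symm)⟩
  let M : Matrix ι ι F := Matrix.of fun i j => B (f i) (g (σ j)) / B (f i) (f i)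
  have hM : M.transpose * Matrix.diagonal (fun i => B (f i) (f i)) * M =
      Matrix.diagonal (fun j => B (g (σ j)) (g (σ j))) := by
    ext j k
    rw [Matrix.mul_apply]
    simp only [Matrix.mul_diagonal, Matrix.transpose_apply]
    have e1 : B (g (σ j)) (g (σ k)) = ∑ i, M i j * B (f i) (f i) * M i k := by
      conv_lhs => rw [hf.expand hcf (g (σ j))]
      simp only [map_sum, LinearMap.sum_apply, map_smul, LinearMap.smul_apply, smul_eq_mul]
      refine Finset.sum_congr rfl fun i _ => ?_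
      simp only [M, Matrix.of_apply]
      have := hf.on i
      field_simp
    rw [← e1]
    by_cases hjk : j = k
    · subst hjk; rw [Matrix.diagonal_apply_eq]
    · rw [Matrix.diagonal_apply_ne _ hjk]
      exact hg.off _ _ fun h0 => hjk (σ.injective h0)
  have hdet := congrArg Matrix.det hM
  rw [Matrix.det_mul, Matrix.det_mul, Matrix.det_transpose, Matrix.det_diagonal, Matrix.det_diagonal] at hdet
  have hp : ∏ i, B (f i) (f i) ≠ 0 := Finset.prod_ne_zero_iff.2 fun i _ => hf.on i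
  have hq : ∏ i, B (g (σ i)) (g (σ i)) ≠ 0 := Finset.prod_ne_zero_iff.2 fun i _ => hg.on _
  have hD : M.det ≠ 0 := by
    intro h0
    rw [h0, zero_mul, zero_mul] at hdet
    exact hq hdet.symm
  have h1 : cls (∏ i, B (g (σ i)) (g (σ i))) = cls (∏ i, B (f i) (f i)) := by
    rw [← hdet, show M.det * (∏ i, B (f i) (f i)) * M.det = (M.det * M.det) * ∏ i, B (f i) (f i) by ring,
      cls_mul h2 (mul_ne_zero hD hD) hp, cls_sq, zero_add]
  rw [cls_prod h2 _ _ fun i => hf.on i, cls_prod h2 _ _ fun i => hg.on (σ i)] at h1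
  rw [← h1]
  exact Equiv.sum_comp σ (fun k => cls (B (g k) (g k)))

/-- **THEOREM**: in an orthogonal situation of dimension ten with non-square discriminant there is no configuration `CB`
in which `N0` acts by isometries. -/
theorem Big.no [Finite F] [FiniteDimensional F V] (h : Big P N0 z s ψ act B) (hdim : finrank F V = 10)
    {f : Fin 10 → V} (hf : Orth B f) (hd : ∑ i, cls (B (f i) (f i)) = 1) : False := by
  obtain ⟨w, m, e, b, hfr⟩ := h.exists_frame
  have h1 := hfr.w_le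
  have h2 := hfr.m_le
  have h3 := hfr.card
  rw [hdim] at h3
  obtain rfl : w = 4 := by omega
  obtain rfl : m = 6 := by omega
  have h4 := disc_inv h.S.two hfr.orth hf hfr.hcard (by rw [Fintype.card_fin, hdim])
  rw [hd, Fintype.sum_sum_type] at h4
  simp only [Sum.elim_inl, Sum.elim_inr] at h4
  rcases zcase (∑ i, cls (B (e i) (e i))) with h5 | h5
  · exact hfr.disc_ne h5
  · rw [h5] at h4
    exact hfr.kill h5 (by simpa using h4)

end Cfsg.Agent.H512.Co3
end

private theorem dce_183ce41a3875 : _root_.True := by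
  try have : _root_.True := by simp only [_root_.Cfsg.Agent.H512.Co3.Fr.sig.congr_simp]
  try have : _root_.True := by simp only [_root_.Cfsg.Agent.H512.Co3.Fr.chi.eq_1]
  try have : _root_.True := by simp only [_root_.Cfsg.Agent.H10.Co3.par.eq_1]
  try have : _root_.True := by simp only [_root_.Cfsg.Agent.H10.Co3.isdd.eq_1]
  try have : _root_.True := by simp only [_root_.Cfsg.Agent.H10.Co3.sm.eq_1]
  try have : _root_.True := by simp only [_root_.Cfsg.Agent.H512.Co3.sg.eq_1]
  try have : _root_.True := by simp only [_root_.Cfsg.Agent.H512.Co3.Fr.vec.congr_simp]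
  exact _root_.True.intro
end

-- part: H64/Co3/Adm
section
prune_inst 0x4f420432075e200000018001002000020680004020040000020600f0603498c6a894228410a30251412828c4008040020001000b000000000000000000002010008001204b10ca208c80080000000000000000000000000000000000000000000000000000
set_option linter.all false
open scoped Cfsg.Agent.FastGrp

/-!
# S1920, E8-D8: dimensions of the (-1)-eigenspace of `Ad M` on `so(Q)` (helper64)
-/

set_option autoImplicit false

open QuadraticMap Matrix

namespace Cfsg.Agent.H64.Co3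

open Cfsg.Agent.LieClassical.OrthCore

section mat

variable {F : Type*} [Field F] {k : ℕ}

/-- pairs `i < j` and pairs `i < j` -/
abbrev IxN (k : ℕ) := {p : Fin k × Fin k // p.1 < p.2} ⊕ {p : Fin k × Fin k // p.1 < p.2}

/-- pairs `i < j` and pairs `i ≤ j` -/
abbrev IxP (k : ℕ) := {p : Fin k × Fin k // p.1 < p.2} ⊕ {p : Fin k × Fin k // p.1 ≤ p.2}

/-- the space of Gram matrices: `A` skew with blocks `A₂₁ = -e A₁₂`, `A₂₂ = -e l A₁₁` -/
def AA (k : ℕ) (e l : F) : Submodule F (Matrix (Fin k ⊕ Fin k) (Fin k ⊕ Fin k) F) where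
  carrier := {A | (∀ i j, A j i = - A i j) ∧ (∀ i j, A (Sum.inr i) (Sum.inl j) = -e * A (Sum.inl i) (Sum.inr j)) ∧
    ∀ i j, A (Sum.inr i) (Sum.inr j) = - e * l * A (Sum.inl i) (Sum.inl j)}
  add_mem' := by
    rintro A B ⟨h1, h2, h3⟩ ⟨h4, h5, h6⟩
    refine ⟨fun i j => ?_, fun i j => ?_, fun i j => ?_⟩
    · rw [Matrix.add_apply, Matrix.add_apply, h1, h4]; ring
    · rw [Matrix.add_apply, Matrix.add_apply, h2, h5]; ring
    · rw [Matrix.add_apply, Matrix.add_apply, h3, h6]; ring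
  zero_mem' := by simp
  smul_mem' := by
    rintro c A ⟨h1, h2, h3⟩
    refine ⟨fun i j => ?_, fun i j => ?_, fun i j => ?_⟩
    · rw [Matrix.smul_apply, Matrix.smul_apply, h1, smul_neg]
    · rw [Matrix.smul_apply, Matrix.smul_apply, h2, smul_eq_mul, smul_eq_mul]; ring
    · rw [Matrix.smul_apply, Matrix.smul_apply, h3, smul_eq_mul, smul_eq_mul]; ring

theorem eq_zero_of_neg (h2 : (2 : F) ≠ 0) {x : F} (h : x = -x) : x = 0 := by
  have h1 : 2 * x = 0 := by linear_combination h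
  exact (mul_eq_zero.1 h1).resolve_left h2

/-- coordinates, `e = -1` -/
def coN (k : ℕ) (l : F) : AA k (-1) l →ₗ[F] (IxN k → F) where
  toFun A := Sum.elim (fun p => A.1 (Sum.inl p.1.1) (Sum.inl p.1.2)) (fun p => A.1 (Sum.inl p.1.1) (Sum.inr p.1.2))
  map_add' A B := by
    funext p
    rcases p with p | p <;> rfl
  map_smul' c A := by
    funext p
    rcases p with p | p <;> rfl

/-- coordinates, `e = 1` -/
def coP (k : ℕ) (l : F) : AA k 1 l →ₗ[F] (IxP k → F) where
  toFun A := Sum.elim (fun p => A.1 (Sum.inl p.1.1) (Sum.inl p.1.2)) (fun p => A.1 (Sum.inl p.1.1) (Sum.inr p.1.2))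
  map_add' A B := by
    funext p
    rcases p with p | p <;> rfl
  map_smul' c A := by
    funext p
    rcases p with p | p <;> rfl

theorem coN_bij (h2 : (2 : F) ≠ 0) (l : F) : Function.Bijective (coN k l) := by
  constructor
  · rw [← LinearMap.ker_eq_bot, LinearMap.ker_eq_bot']
    rintro ⟨A, h1, h3, h4⟩ h0
    have e1 : ∀ i j, i < j → A (Sum.inl i) (Sum.inl j) = 0 := fun i j hij =>
      congrFun h0 (Sum.inl ⟨(i, j), hij⟩)
    have e2 : ∀ i j, i < j → A (Sum.inl i) (Sum.inr j) = 0 := fun i j hij =>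
      congrFun h0 (Sum.inr ⟨(i, j), hij⟩)
    have e3 : ∀ i j, A (Sum.inl i) (Sum.inl j) = 0 := by
      intro i j
      rcases lt_trichotomy i j with h | h | h
      · exact e1 i j h
      · subst h; exact eq_zero_of_neg h2 (h1 _ _)
      · rw [h1, e1 j i h, neg_zero]
    have e4 : ∀ i j, A (Sum.inl i) (Sum.inr j) = - A (Sum.inl j) (Sum.inr i) := by
      intro i j
      rw [h1, h3]; ring
    have e5 : ∀ i j, A (Sum.inl i) (Sum.inr j) = 0 := by
      intro i j
      rcases lt_trichotomy i j with h | h | h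
      · exact e2 i j h
      · subst h; exact eq_zero_of_neg h2 (e4 _ _)
      · rw [e4, e2 j i h, neg_zero]
    apply Subtype.ext
    ext i j
    rcases i with i | i <;> rcases j with j | j
    · exact e3 i j
    · exact e5 i j
    · show A (Sum.inr i) (Sum.inl j) = 0
      rw [h3, e5, mul_zero]
    · show A (Sum.inr i) (Sum.inr j) = 0
      rw [h4, e3, mul_zero]
  · intro f
    let a : Fin k → Fin k → F := fun i j => if h : i < j then f (Sum.inl ⟨(i, j), h⟩) else
      if h : j < i then - f (Sum.inl ⟨(j, i), h⟩) else 0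
    let b : Fin k → Fin k → F := fun i j => if h : i < j then f (Sum.inr ⟨(i, j), h⟩) else
      if h : j < i then - f (Sum.inr ⟨(j, i), h⟩) else 0
    have ha : ∀ i j, a j i = - a i j := by
      intro i j
      simp only [a]
      rcases lt_trichotomy i j with h | h | h
      · rw [dif_neg h.asymm, dif_pos h, dif_pos h]
      · subst h; simp
      · rw [dif_pos h, dif_neg h.asymm, dif_pos h, neg_neg]
    have hb : ∀ i j, b j i = - b i j := by
      intro i j
      simp only [b]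
      rcases lt_trichotomy i j with h | h | h
      · rw [dif_neg h.asymm, dif_pos h, dif_pos h]
      · subst h; simp
      · rw [dif_pos h, dif_neg h.asymm, dif_pos h, neg_neg]
    refine ⟨⟨Matrix.fromBlocks (Matrix.of a) (Matrix.of b) (Matrix.of b) (l • Matrix.of a), ?_, ?_, ?_⟩, ?_⟩
    · rintro (i | i) (j | j)
      · exact ha i j
      · exact hb i j
      · exact hb i j
      · show l • a j i = -(l • a i j)
        rw [ha, smul_neg]
    · intro i j
      show b i j = - (-1) * b i j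
      ring
    · intro i j
      show l • a i j = - (-1) * l * a i j
      rw [smul_eq_mul]; ring
    · funext p
      rcases p with ⟨⟨i, j⟩, h⟩ | ⟨⟨i, j⟩, h⟩
      · show a i j = _
        simp only [a]
        rw [dif_pos h]
      · show b i j = _
        simp only [b]
        rw [dif_pos h]

theorem coP_bij (h2 : (2 : F) ≠ 0) (l : F) : Function.Bijective (coP k l) := by
  constructor
  · rw [← LinearMap.ker_eq_bot, LinearMap.ker_eq_bot']
    rintro ⟨A, h1, h3, h4⟩ h0
    have e1 : ∀ i j, i < j → A (Sum.inl i) (Sum.inl j) = 0 := fun i j hij =>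
      congrFun h0 (Sum.inl ⟨(i, j), hij⟩)
    have e2 : ∀ i j, i ≤ j → A (Sum.inl i) (Sum.inr j) = 0 := fun i j hij =>
      congrFun h0 (Sum.inr ⟨(i, j), hij⟩)
    have e3 : ∀ i j, A (Sum.inl i) (Sum.inl j) = 0 := by
      intro i j
      rcases lt_trichotomy i j with h | h | h
      · exact e1 i j h
      · subst h; exact eq_zero_of_neg h2 (h1 _ _)
      · rw [h1, e1 j i h, neg_zero]
    have e4 : ∀ i j, A (Sum.inl i) (Sum.inr j) = A (Sum.inl j) (Sum.inr i) := by
      intro i j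
      rw [h1, h3]; ring
    have e5 : ∀ i j, A (Sum.inl i) (Sum.inr j) = 0 := by
      intro i j
      rcases le_total i j with h | h
      · exact e2 i j h
      · rw [e4, e2 j i h]
    apply Subtype.ext
    ext i j
    rcases i with i | i <;> rcases j with j | j
    · exact e3 i j
    · exact e5 i j
    · show A (Sum.inr i) (Sum.inl j) = 0
      rw [h3, e5, mul_zero]
    · show A (Sum.inr i) (Sum.inr j) = 0
      rw [h4, e3, mul_zero]
  · intro f
    let a : Fin k → Fin k → F := fun i j => if h : i < j then f (Sum.inl ⟨(i, j), h⟩) else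
      if h : j < i then - f (Sum.inl ⟨(j, i), h⟩) else 0
    let b : Fin k → Fin k → F := fun i j => if h : i ≤ j then f (Sum.inr ⟨(i, j), h⟩) else
      f (Sum.inr ⟨(j, i), le_of_not_ge h⟩)
    have ha : ∀ i j, a j i = - a i j := by
      intro i j
      simp only [a]
      rcases lt_trichotomy i j with h | h | h
      · rw [dif_neg h.asymm, dif_pos h, dif_pos h]
      · subst h; simp
      · rw [dif_pos h, dif_neg h.asymm, dif_pos h, neg_neg]
    have hb : ∀ i j, b j i = b i j := by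
      intro i j
      simp only [b]
      rcases lt_trichotomy i j with h | h | h
      · rw [dif_neg h.not_ge, dif_pos h.le]
      · subst h; simp
      · rw [dif_pos h.le, dif_neg h.not_ge]
    refine ⟨⟨Matrix.fromBlocks (Matrix.of a) (Matrix.of b) (-Matrix.of b) (-(l • Matrix.of a)), ?_, ?_, ?_⟩, ?_⟩
    · rintro (i | i) (j | j)
      · exact ha i j
      · show - b j i = - b i j
        rw [hb]
      · show b j i = - - b i j
        rw [hb, neg_neg]
      · show -(l • a j i) = - -(l • a i j)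
        rw [ha, smul_neg]
    · intro i j
      show -b i j = - 1 * b i j
      ring
    · intro i j
      show -(l • a i j) = - 1 * l * a i j
      rw [smul_eq_mul]; ring
    · funext p
      rcases p with ⟨⟨i, j⟩, h⟩ | ⟨⟨i, j⟩, h⟩
      · show a i j = _
        simp only [a]
        rw [dif_pos h]
      · show b i j = _
        simp only [b]
        rw [dif_pos h]

theorem finrank_AA_neg (h2 : (2 : F) ≠ 0) (l : F) : Module.finrank F (AA 8 (-1) l) = 56 := by
  rw [(LinearEquiv.ofBijective (coN 8 l) (coN_bij h2 l)).finrank_eq, Module.finrank_fintype_fun_eq_card]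
  rfl

theorem finrank_AA_pos (h2 : (2 : F) ≠ 0) (l : F) : Module.finrank F (AA 8 1 l) = 64 := by
  rw [(LinearEquiv.ofBijective (coP 8 l) (coP_bij h2 l)).finrank_eq, Module.finrank_fintype_fun_eq_card]
  rfl

end mat

section form

variable {F V : Type*} [Field F] [AddCommGroup V] [Module F V] [FiniteDimensional F V] {Q : QuadraticForm F V}

/-- `S ↦ Gram matrix of (u, v) ↦ B (S u) v` -/
noncomputable def gram (Q : QuadraticForm F V) {n : Type*} [Fintype n] [DecidableEq n] (b : Module.Basis n F V) :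
    (V →ₗ[F] V) →ₗ[F] Matrix n n F where
  toFun S := Matrix.of fun i j => polar Q (S (b i)) (b j)
  map_add' S T := by
    ext i j
    exact polar_add_left Q _ _ _
  map_smul' c S := by
    ext i j
    exact polar_smul_left Q c _ _

omit [FiniteDimensional F V] in
theorem gram_apply {n : Type*} [Fintype n] [DecidableEq n] (b : Module.Basis n F V) (S : V →ₗ[F] V) (i j : n) :
    gram Q b S i j = polar Q (S (b i)) (b j) := rfl

omit [FiniteDimensional F V] in
theorem gram_injective (hQ : Nondeg Q) {n : Type*} [Fintype n] [DecidableEq n] (b : Module.Basis n F V) :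
    Function.Injective (gram Q b) := by
  rw [← LinearMap.ker_eq_bot, LinearMap.ker_eq_bot']
  intro S hS
  apply b.ext
  intro i
  rw [LinearMap.zero_apply]
  apply hQ
  intro y
  have h1 : (polarBilin Q (S (b i))) = 0 := by
    apply b.ext
    intro j
    exact congrFun (congrFun hS i) j
  exact congrArg (fun f : V →ₗ[F] F => f y) h1

theorem gram_surjective (hQ : Nondeg Q) {n : Type*} [Fintype n] [DecidableEq n] (b : Module.Basis n F V) :
    Function.Surjective (gram Q b) := by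
  refine (LinearMap.injective_iff_surjective_of_finrank_eq_finrank ?_).1 (gram_injective hQ b)
  rw [Module.finrank_linearMap, Module.finrank_matrix, Module.finrank_eq_card_basis b, Module.finrank_self, mul_one]

/-- a basis adapted to `M`: `M b_i = b_{i'}`, `M b_{i'} = l b_i` -/
structure Ada (Q : QuadraticForm F V) (M : V ≃ₗ[F] V) (k : ℕ) (l : F) (b : Module.Basis (Fin k ⊕ Fin k) F V) :
    Prop where
  one : ∀ i, M (b (Sum.inl i)) = b (Sum.inr i)
  two : ∀ i, M (b (Sum.inr i)) = l • b (Sum.inl i)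

omit [FiniteDimensional F V] in
theorem polar_ext {n : Type*} (b : Module.Basis n F V) {f g : V →ₗ[F] V →ₗ[F] F} (h : ∀ i j, f (b i) (b j) = g (b i) (b j)) :
    f = g := b.ext fun i => b.ext fun j => h i j

omit [FiniteDimensional F V] in
/-- the Gram matrices of the elements of `adm Q M` -/
theorem mem_adm_iff {M : V ≃ₗ[F] V} {k : ℕ} {l e : F} (he : e * e = 1)
    {b : Module.Basis (Fin k ⊕ Fin k) F V} (hb : Ada Q M k l b) (hQ : Nondeg Q)
    (hM : ∀ u v, polar Q (M u) v = e * polar Q u (M v)) (S : V →ₗ[F] V) :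
    S ∈ adm Q M ↔ gram Q b S ∈ AA k e l := by
  constructor
  · rintro ⟨hs, hc⟩
    have key : ∀ u v, polar Q (S (M u)) v = - e * polar Q (S u) (M v) := by
      intro u v
      have h1 := hc u
      have h3 : S (M u) = - M (S u) := by rw [h1, neg_neg]
      rw [h3, polar_neg_left, hM]
      ring
    refine ⟨fun i j => ?_, fun i j => ?_, fun i j => ?_⟩
    · rw [gram_apply, gram_apply, hs, polar_comm]
    · rw [gram_apply, gram_apply, ← hb.one, key, hb.one]
    · rw [gram_apply, gram_apply, ← hb.one i, key, hb.two, polar_smul_right, smul_eq_mul]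
      ring
  · rintro ⟨h1, h3, h4⟩
    -- the two identities, checked on the basis
    let f1 : V →ₗ[F] V →ₗ[F] F := (polarBilin Q).comp S
    let f2 : V →ₗ[F] V →ₗ[F] F := -((polarBilin Q).compl₂ S)
    have e1 : f1 = f2 := by
      apply polar_ext b
      intro i j
      show polar Q (S (b i)) (b j) = - polar Q (b i) (S (b j))
      have := h1 j i
      rw [gram_apply, gram_apply] at this
      rw [this, polar_comm Q (b i)]
    let g1 : V →ₗ[F] V →ₗ[F] F := ((polarBilin Q).comp S).comp M.toLinearMap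
    let g2 : V →ₗ[F] V →ₗ[F] F := (-e) • (((polarBilin Q).comp S).compl₂ M.toLinearMap)
    have e2 : g1 = g2 := by
      apply polar_ext b
      rintro (i | i) (j | j)
      · show polar Q (S (M (b (Sum.inl i)))) (b (Sum.inl j)) = (-e) * polar Q (S (b (Sum.inl i))) (M (b (Sum.inl j)))
        rw [hb.one, hb.one]
        exact h3 i j
      · show polar Q (S (M (b (Sum.inl i)))) (b (Sum.inr j)) = (-e) * polar Q (S (b (Sum.inl i))) (M (b (Sum.inr j)))
        rw [hb.one, hb.two, polar_smul_right, smul_eq_mul]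
        have := h4 i j
        rw [gram_apply, gram_apply] at this
        rw [this]; ring
      · show polar Q (S (M (b (Sum.inr i)))) (b (Sum.inl j)) = (-e) * polar Q (S (b (Sum.inr i))) (M (b (Sum.inl j)))
        rw [hb.one, hb.two, map_smul, polar_smul_left, smul_eq_mul]
        have := h4 i j
        rw [gram_apply, gram_apply] at this
        rw [this]
        linear_combination (- l * polar Q (S (b (Sum.inl i))) (b (Sum.inl j))) * he
      · show polar Q (S (M (b (Sum.inr i)))) (b (Sum.inr j)) = (-e) * polar Q (S (b (Sum.inr i))) (M (b (Sum.inr j)))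
        rw [hb.two, hb.two, map_smul, polar_smul_left, polar_smul_right, smul_eq_mul, smul_eq_mul]
        have := h3 i j
        rw [gram_apply, gram_apply] at this
        rw [this]
        linear_combination (- l * polar Q (S (b (Sum.inl i))) (b (Sum.inr j))) * he
    have k1 : ∀ u v, polar Q (S u) v = - polar Q u (S v) := fun u v =>
      congrArg (fun f : V →ₗ[F] V →ₗ[F] F => f u v) e1
    have k2 : ∀ u v, polar Q (S (M u)) v = (-e) * polar Q (S u) (M v) := fun u v =>
      congrArg (fun f : V →ₗ[F] V →ₗ[F] F => f u v) e2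
    refine ⟨k1, fun u => ?_⟩
    rw [← sub_eq_zero, sub_neg_eq_add]
    apply hQ
    intro v
    rw [polar_add_left, k2, hM]
    ring

theorem finrank_adm {M : V ≃ₗ[F] V} {k : ℕ} {l e : F} (he : e * e = 1)
    {b : Module.Basis (Fin k ⊕ Fin k) F V} (hb : Ada Q M k l b) (hQ : Nondeg Q)
    (hM : ∀ u v, polar Q (M u) v = e * polar Q u (M v)) :
    Module.finrank F (adm Q M) = Module.finrank F (AA k e l) := by
  let Φ : (V →ₗ[F] V) ≃ₗ[F] Matrix (Fin k ⊕ Fin k) (Fin k ⊕ Fin k) F :=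
    LinearEquiv.ofBijective (gram Q b) ⟨gram_injective hQ b, gram_surjective hQ b⟩
  have h1 : (adm Q M).map (Φ : (V →ₗ[F] V) →ₗ[F] Matrix (Fin k ⊕ Fin k) (Fin k ⊕ Fin k) F) = AA k e l := by
    ext A
    constructor
    · rintro ⟨S, hS, rfl⟩
      exact (mem_adm_iff he hb hQ hM S).1 hS
    · intro hA
      obtain ⟨S, rfl⟩ := Φ.surjective A
      exact ⟨S, (mem_adm_iff he hb hQ hM S).2 hA, rfl⟩
  rw [← h1, LinearEquiv.finrank_map_eq]

/-- `M`-free families -/
def Fr (M : V ≃ₗ[F] V) {k : ℕ} (v : Fin k → V) : Prop :=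
  ∀ a c : Fin k → F, ∑ i, (a i • v i + c i • M (v i)) = 0 → a = 0 ∧ c = 0

omit [FiniteDimensional F V] in
/-- a free family of 8 vectors gives an adapted basis -/
theorem exists_ada_of_fr (hd : Module.finrank F V = 16) {M : V ≃ₗ[F] V} {l : F} (hM : ∀ v, M (M v) = l • v)
    {v : Fin 8 → V} (hv : Fr M v) : ∃ b : Module.Basis (Fin 8 ⊕ Fin 8) F V, Ada Q M 8 l b := by
  have hli : LinearIndependent F (Sum.elim v (fun i => M (v i))) := by
    rw [Fintype.linearIndependent_iff]
    intro g hg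
    rw [Fintype.sum_sum_type] at hg
    simp only [Sum.elim_inl, Sum.elim_inr] at hg
    rw [← Finset.sum_add_distrib] at hg
    obtain ⟨h1, h2⟩ := hv (fun i => g (Sum.inl i)) (fun i => g (Sum.inr i)) hg
    rintro (i | i)
    · exact congrFun h1 i
    · exact congrFun h2 i
  have hc : Fintype.card (Fin 8 ⊕ Fin 8) = Module.finrank F V := by rw [hd]; rfl
  refine ⟨basisOfLinearIndependentOfCardEqFinrank hli hc, ⟨fun i => ?_, fun i => ?_⟩⟩
  · rw [coe_basisOfLinearIndependentOfCardEqFinrank]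
    rfl
  · rw [coe_basisOfLinearIndependentOfCardEqFinrank]
    exact hM _

/-- the eigenspaces -/
def eig (M : V ≃ₗ[F] V) (n : F) : Submodule F V := LinearMap.ker (M.toLinearMap - n • LinearMap.id)

omit [FiniteDimensional F V] in
theorem mem_eig {M : V ≃ₗ[F] V} {n : F} {v : V} : v ∈ eig M n ↔ M v = n • v := by
  rw [eig, LinearMap.mem_ker, LinearMap.sub_apply, sub_eq_zero]
  rfl

omit [FiniteDimensional F V] in
/-- nonsquare case: free families exist -/
theorem exists_fr_nonsq {M : V ≃ₗ[F] V} {l : F} (hM : ∀ v, M (M v) = l • v) (hl : ¬ IsSquare l) :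
    ∀ k : ℕ, 2 * k ≤ Module.finrank F V → ∃ v : Fin k → V, Fr M v := by
  intro k
  induction k with
  | zero =>
    intro _
    exact ⟨fun i => i.elim0, fun a c _ => ⟨funext fun i => i.elim0, funext fun i => i.elim0⟩⟩
  | succ k ih =>
    intro hk
    obtain ⟨v, hv⟩ := ih (by omega)
    let U : Submodule F V := Submodule.span F (Set.range (Sum.elim v (fun i => M (v i))))
    have hU : ∀ a c : Fin k → F, ∑ i, (a i • v i + c i • M (v i)) ∈ U := by
      intro a c
      refine Submodule.sum_mem _ fun i _ => Submodule.add_mem _ ?_ ?_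
      · exact Submodule.smul_mem _ _ (Submodule.subset_span ⟨Sum.inl i, rfl⟩)
      · exact Submodule.smul_mem _ _ (Submodule.subset_span ⟨Sum.inr i, rfl⟩)
    have hUM : ∀ u ∈ U, M u ∈ U := by
      have h1 : U ≤ U.comap M.toLinearMap := by
        rw [Submodule.span_le]
        rintro _ ⟨i | i, rfl⟩
        · exact Submodule.subset_span ⟨Sum.inr i, rfl⟩
        · show M (M (v i)) ∈ U
          rw [hM]
          exact Submodule.smul_mem _ _ (Submodule.subset_span ⟨Sum.inl i, rfl⟩)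
      exact fun u hu => h1 hu
    have hUt : U ≠ ⊤ := by
      intro h
      have h1 : Module.finrank F U ≤ 2 * k := by
        refine (finrank_range_le_card (R := F) (Sum.elim v (fun i => M (v i)))).trans ?_
        rw [Fintype.card_sum, Fintype.card_fin]
        omega
      rw [h, finrank_top] at h1
      omega
    obtain ⟨v0, hv0⟩ : ∃ v0 : V, v0 ∉ U := by
      by_contra hc
      push Not at hc
      exact hUt (eq_top_iff.2 fun x _ => hc x)
    refine ⟨Fin.cons v0 v, fun a c h => ?_⟩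
    rw [Fin.sum_univ_succ] at h
    simp only [Fin.cons_zero, Fin.cons_succ] at h
    have h1 : a 0 • v0 + c 0 • M v0 ∈ U := by
      rw [eq_neg_of_add_eq_zero_left h]
      exact Submodule.neg_mem _ (hU (fun i => a i.succ) (fun i => c i.succ))
    have h2 : (a 0 * a 0 - c 0 * c 0 * l) • v0 ∈ U := by
      have h3 := Submodule.sub_mem _ (Submodule.smul_mem _ (a 0) h1) (Submodule.smul_mem _ (c 0) (hUM _ h1))
      have h4 : a 0 • (a 0 • v0 + c 0 • M v0) - c 0 • M (a 0 • v0 + c 0 • M v0) =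
          (a 0 * a 0 - c 0 * c 0 * l) • v0 := by
        rw [map_add, map_smul, map_smul, hM]
        module
      rw [h4] at h3
      exact h3
    have h3 : a 0 * a 0 - c 0 * c 0 * l = 0 := by
      by_contra h4
      apply hv0
      have h5 := Submodule.smul_mem _ (a 0 * a 0 - c 0 * c 0 * l)⁻¹ h2
      rw [smul_smul, inv_mul_cancel₀ h4, one_smul] at h5
      exact h5
    have hc0 : c 0 = 0 := by
      by_contra h4
      apply hl
      refine ⟨a 0 / c 0, ?_⟩
      field_simp
      linear_combination -h3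
    have ha0 : a 0 = 0 := by
      rw [hc0, zero_mul, zero_mul, sub_zero, mul_self_eq_zero] at h3
      exact h3
    rw [ha0, hc0, zero_smul, zero_smul, zero_add, zero_add] at h
    obtain ⟨h4, h5⟩ := hv _ _ h
    constructor
    · funext i
      refine Fin.cases ha0 (fun i => ?_) i
      exact congrFun h4 i
    · funext i
      refine Fin.cases hc0 (fun i => ?_) i
      exact congrFun h5 i

omit [FiniteDimensional F V] in
theorem eig_inf (h2 : (2 : F) ≠ 0) {M : V ≃ₗ[F] V} {n : F} (hn : n ≠ 0) {v : V} (h1 : v ∈ eig M n)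
    (h3 : v ∈ eig M (-n)) : v = 0 := by
  rw [mem_eig] at h1 h3
  have h4 : (2 * n) • v = 0 := by
    rw [two_mul, add_smul]
    nth_rewrite 1 [← h1]
    rw [h3, neg_smul, neg_add_cancel]
  exact (smul_eq_zero.1 h4).resolve_left (mul_ne_zero h2 hn)

theorem finrank_eig (h2 : (2 : F) ≠ 0) {M : V ≃ₗ[F] V} {n : F} (hn : n ≠ 0) (hM : ∀ v, M (M v) = (n * n) • v) :
    Module.finrank F (eig M n) + Module.finrank F (eig M (-n)) = Module.finrank F V := by
  have h1 := Submodule.finrank_sup_add_finrank_inf_eq (eig M n) (eig M (-n))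
  have h3 : eig M n ⊓ eig M (-n) = ⊥ := by
    rw [eq_bot_iff]
    rintro v ⟨hv1, hv2⟩
    exact eig_inf h2 hn hv1 hv2
  have h4 : eig M n ⊔ eig M (-n) = ⊤ := by
    rw [eq_top_iff]
    intro v _
    have h5 : v = ((2 : F)⁻¹ * n⁻¹) • (n • v + M v) + ((2 : F)⁻¹ * n⁻¹) • (n • v - M v) := by
      match_scalars
      · field_simp
        ring
      · ring
    rw [h5]
    refine Submodule.add_mem_sup ?_ ?_
    · apply Submodule.smul_mem
      rw [mem_eig, map_add, map_smul, hM]
      module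
    · apply Submodule.smul_mem
      rw [mem_eig, map_sub, map_smul, hM]
      module
  rw [h3, h4, finrank_bot, finrank_top, add_zero] at h1
  exact h1.symm

/-- square case with eigenspaces of the same dimension -/
theorem exists_fr_sq (h2 : (2 : F) ≠ 0) {M : V ≃ₗ[F] V} {n : F} (hn : n ≠ 0)
    (h8 : Module.finrank F (eig M n) = 8) (h8' : Module.finrank F (eig M (-n)) = 8) : ∃ v : Fin 8 → V, Fr M v := by
  let x : Module.Basis (Fin 8) F (eig M n) := Module.finBasisOfFinrankEq F _ h8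
  let y : Module.Basis (Fin 8) F (eig M (-n)) := Module.finBasisOfFinrankEq F _ h8'
  refine ⟨fun i => (x i : V) + y i, fun a c h => ?_⟩
  have hx : ∀ i, M (x i : V) = n • (x i : V) := fun i => mem_eig.1 (x i).2
  have hy : ∀ i, M (y i : V) = (-n) • (y i : V) := fun i => mem_eig.1 (y i).2
  have e1 : ∑ i, (a i • ((x i : V) + y i) + c i • M ((x i : V) + y i)) =
      ((∑ i, (a i + n * c i) • x i : eig M n) : V) + ((∑ i, (a i - n * c i) • y i : eig M (-n)) : V) := by
    rw [Submodule.coe_sum, Submodule.coe_sum, ← Finset.sum_add_distrib]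
    refine Finset.sum_congr rfl fun i _ => ?_
    rw [map_add, hx, hy, Submodule.coe_smul, Submodule.coe_smul]
    module
  rw [e1] at h
  have h3 : ((∑ i, (a i + n * c i) • x i : eig M n) : V) = 0 := by
    apply eig_inf h2 hn (Submodule.coe_mem _)
    rw [eq_neg_of_add_eq_zero_left h]
    exact Submodule.neg_mem _ (Submodule.coe_mem _)
  have h4 : ((∑ i, (a i - n * c i) • y i : eig M (-n)) : V) = 0 := by
    rw [h3, zero_add] at h
    exact h
  have h5 := Fintype.linearIndependent_iff.1 x.linearIndependent _ (Subtype.ext h3)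
  have h6 := Fintype.linearIndependent_iff.1 y.linearIndependent _ (Subtype.ext h4)
  have ha : ∀ i, a i = 0 := by
    intro i
    have h7 : 2 * a i = 0 := by linear_combination h5 i + h6 i
    exact (mul_eq_zero.1 h7).resolve_left h2
  constructor
  · funext i; exact ha i
  · funext i
    have h7 := h5 i
    rw [ha, zero_add] at h7
    exact (mul_eq_zero.1 h7).resolve_left hn

/-- existence of an adapted basis -/
theorem exists_ada (h2 : (2 : F) ≠ 0) (hd : Module.finrank F V = 16) {M : V ≃ₗ[F] V} {l : F} (hl : l ≠ 0)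
    (hM : ∀ v, M (M v) = l • v)
    (h : ∀ n : F, n * n = l → Module.finrank F (eig M n) = Module.finrank F (eig M (-n))) :
    ∃ b : Module.Basis (Fin 8 ⊕ Fin 8) F V, Ada Q M 8 l b := by
  by_cases hs : IsSquare l
  · obtain ⟨n, rfl⟩ := hs
    have hn : n ≠ 0 := fun h0 => hl (by rw [h0, mul_zero])
    have h1 := finrank_eig h2 hn hM
    have h3 := h n rfl
    obtain ⟨v, hv⟩ := exists_fr_sq h2 hn (M := M) (by omega) (by omega)
    exact exists_ada_of_fr hd hM hv
  · obtain ⟨v, hv⟩ := exists_fr_nonsq hM hs 8 (by omega)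
    exact exists_ada_of_fr hd hM hv

/-- `M` skew: the two eigenspaces have the same dimension -/
theorem eig_le_of_skew (h2 : (2 : F) ≠ 0) (hQ : Nondeg Q) {M : V ≃ₗ[F] V} {n : F} (hn : n ≠ 0)
    (hM : ∀ v, M (M v) = (n * n) • v) (hs : ∀ u v, polar Q (M u) v = - polar Q u (M v)) :
    Module.finrank F (eig M n) ≤ Module.finrank F (eig M (-n)) := by
  let f : eig M n →ₗ[F] Module.Dual F (eig M (-n)) :=
    ((LinearMap.lcomp F F (eig M (-n)).subtype).comp (polarBilin Q)).comp (eig M n).subtype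
  have hf : ∀ u w, f u w = polar Q (u : V) w := fun u w => rfl
  have hinj : Function.Injective f := by
    rw [← LinearMap.ker_eq_bot, LinearMap.ker_eq_bot']
    intro u hu
    apply Subtype.ext
    apply hQ
    intro v
    have h5 : v = ((2 : F)⁻¹ * n⁻¹) • (n • v + M v) + ((2 : F)⁻¹ * n⁻¹) • (n • v - M v) := by
      match_scalars
      · field_simp
        ring
      · ring
    have h6 : polar Q (u : V) (n • v + M v) = 0 := by
      have hm : M (n • v + M v) = n • (n • v + M v) := by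
        rw [map_add, map_smul, hM]
        module
      have h7 := hs u (n • v + M v)
      rw [mem_eig.1 u.2, hm, polar_smul_left, polar_smul_right, smul_eq_mul] at h7
      exact (mul_eq_zero.1 (eq_zero_of_neg h2 h7)).resolve_left hn
    have h7 : polar Q (u : V) (n • v - M v) = 0 := by
      have hm : n • v - M v ∈ eig M (-n) := by
        rw [mem_eig, map_sub, map_smul, hM]
        module
      have h8 := congrArg (fun g : Module.Dual F (eig M (-n)) => g ⟨_, hm⟩) hu
      exact h8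
    rw [h5, polar_add_right, polar_smul_right, polar_smul_right, h6, h7]
    simp
  refine (LinearMap.finrank_le_finrank_of_injective hinj).trans ?_
  rw [Subspace.dual_finrank_eq]

/-- **`M* = -M`: dimension 56** -/
theorem adm_neg (h2 : (2 : F) ≠ 0) (hQ : Nondeg Q) (hd : Module.finrank F V = 16) {M : V ≃ₗ[F] V} {l : F}
    (hl : l ≠ 0) (hM : ∀ v, M (M v) = l • v) (hs : ∀ u v, polar Q (M u) v = - polar Q u (M v)) :
    Module.finrank F (adm Q M) = 56 := by
  obtain ⟨b, hb⟩ := exists_ada (Q := Q) h2 hd hl hM (by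
    rintro n rfl
    have hn : n ≠ 0 := fun h0 => hl (by rw [h0, mul_zero])
    refine le_antisymm (eig_le_of_skew h2 hQ hn hM hs) ?_
    have h1 := eig_le_of_skew h2 hQ (neg_ne_zero.2 hn) (M := M) (by rw [neg_mul_neg]; exact hM) hs
    rw [neg_neg] at h1
    exact h1)
  rw [finrank_adm (e := -1) (by ring) hb hQ (fun u v => by rw [hs]; ring), finrank_AA_neg h2]

/-- **`M* = M`, eigenspaces of the same dimension or `M²` not a square: dimension 64** -/
theorem adm_pos (h2 : (2 : F) ≠ 0) (hQ : Nondeg Q) (hd : Module.finrank F V = 16) {M : V ≃ₗ[F] V} {l : F}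
    (hl : l ≠ 0) (hM : ∀ v, M (M v) = l • v) (hs : ∀ u v, polar Q (M u) v = polar Q u (M v))
    (h : ∀ n : F, n * n = l → Module.finrank F (eig M n) = Module.finrank F (eig M (-n))) :
    Module.finrank F (adm Q M) = 64 := by
  obtain ⟨b, hb⟩ := exists_ada (Q := Q) h2 hd hl hM h
  rw [finrank_adm (e := 1) (by ring) hb hQ (fun u v => by rw [hs]; ring), finrank_AA_pos h2]

omit [FiniteDimensional F V] in
/-- `L` anticommutes with `M`: it maps an eigenspace into the other one -/
theorem eig_anti {M L : V ≃ₗ[F] V} (h : ∀ v, M (L v) = - L (M v)) {n : F} {v : V} (hv : v ∈ eig M n) :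
    L v ∈ eig M (-n) := by
  rw [mem_eig] at hv ⊢
  rw [h, hv, map_smul, neg_smul]

theorem finrank_eig_anti {M L : V ≃ₗ[F] V} (h : ∀ v, M (L v) = - L (M v)) (n : F) :
    Module.finrank F (eig M n) = Module.finrank F (eig M (-n)) := by
  have key : ∀ n : F, Module.finrank F (eig M n) ≤ Module.finrank F (eig M (-n)) := by
    intro n
    refine LinearMap.finrank_le_finrank_of_injective
      (f := (L.toLinearMap.restrict fun v (hv : v ∈ eig M n) => eig_anti h hv)) ?_
    intro u v huv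
    apply Subtype.ext
    exact L.injective (congrArg Subtype.val huv)
  refine le_antisymm (key n) ?_
  have h1 := key (-n)
  rw [neg_neg] at h1
  exact h1

end form

end Cfsg.Agent.H64.Co3

private theorem dce_245991b6fa27 : _root_.True := by
  try have : _root_.True := by simp only [_root_.Cfsg.Agent.H64.Co3.eig.eq_1]
  exact _root_.True.intro
end

-- part: H64/Co3/Base_mg
section
prune_inst 0x4c040426051a200000000001000000020480004000040000000600a0403098848090008400020251010028400200400600010002000000000000000000001010008010204b008a108c20080000000000000000000000000000000000000000000000000000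
set_option linter.all false
open scoped Cfsg.Agent.FastGrp

-- part: H731/C3/Count
section
/-!
# S1920, case B: counting squares in `N0` (helper731)

* `card_sq_one`, `card_sq_z` : exactly 32 elements of `N0` have square `1`, exactly 32 have square `z`;
* `no_hom_one` : no nontrivial hom `e : N0 → {± 1}` with `e n = -1 → n² = z`;
* `no_hom_two` : no nontrivial hom `l : N0 → {± 1}` with `l n = -1 → n² = 1`;
* `conj_mul_z` : a noncentral element `n` of `N0` is conjugate to `n z` under `N0`; `not_comm`, `exists_comm_ne`.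
-/

set_option autoImplicit false

open Subgroup

namespace Cfsg.Agent.H731.C3

/-- a permutation exchanging a property with its negation: the property holds for one half -/
theorem half {α : Type*} [Finite α] (p : α → Prop) (σ : Equiv.Perm α) (h : ∀ x, p (σ x) ↔ ¬ p x) :
    2 * Nat.card {x // p x} = Nat.card α := by
  classical
  have h1 : Nat.card {x // ¬ p x} = Nat.card {x // p x} :=
    Nat.card_congr (σ.subtypeEquiv fun a => (h a).symm)
  have h2 : Nat.card ({x // p x} ⊕ {x // ¬ p x}) = Nat.card α := Nat.card_congr (Equiv.sumCompl p)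
  rw [Nat.card_sum, h1] at h2
  omega

variable {G : Type*} [Group G] {P N0 : Subgroup G} {z s : G} {ψ : ↥(normalizer (P : Set G)) →* Equiv.Perm (Fin 6)}

theorem finite_N0 (C : H13.Co3.CB P N0 z s ψ) : Finite ↥N0 :=
  Nat.finite_of_card_ne_zero (by rw [C.card]; norm_num)

/-- multiplication by `s` exchanges the two kinds of elements -/
theorem sq_mul_s (C : H13.Co3.CB P N0 z s ψ) {n : G} (hn : n ∈ N0) : (n * s) * (n * s) = (n * n) * z := by
  have h := C.s_cen n hn
  calc (n * s) * (n * s) = n * (s * n) * s := by group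
    _ = n * (n * s) * s := by rw [h]
    _ = (n * n) * (s * s) := by group
    _ = (n * n) * z := by rw [C.s_sq]

/-- 32 elements of square `1` -/
theorem card_sq_one (C : H13.Co3.CB P N0 z s ψ) : Nat.card {n : ↥N0 // (n : G) * n = 1} = 32 := by
  have hf := finite_N0 C
  have h := half (fun n : ↥N0 => (n : G) * n = 1) (Equiv.mulRight ⟨s, C.sN⟩) (by
    intro n
    have e : ((Equiv.mulRight (⟨s, C.sN⟩ : ↥N0)) n : G) = (n : G) * s := rfl
    rw [e, sq_mul_s C n.2]
    rcases C.sq n n.2 with h | h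
    · rw [h, one_mul]
      exact ⟨fun h1 => absurd h1 C.z_ne, fun h1 => absurd rfl h1⟩
    · rw [h]
      exact ⟨fun _ h2 => C.z_ne h2, fun _ => C.z_sq⟩)
  rw [C.card] at h
  omega

/-- 32 elements of square `z` -/
theorem card_sq_z (C : H13.Co3.CB P N0 z s ψ) : Nat.card {n : ↥N0 // (n : G) * n = z} = 32 := by
  have hf := finite_N0 C
  have h := half (fun n : ↥N0 => (n : G) * n = z) (Equiv.mulRight ⟨s, C.sN⟩) (by
    intro n
    have e : ((Equiv.mulRight (⟨s, C.sN⟩ : ↥N0)) n : G) = (n : G) * s := rfl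
    rw [e, sq_mul_s C n.2]
    rcases C.sq n n.2 with h | h
    · rw [h, one_mul]
      exact ⟨fun _ h2 => C.z_ne h2.symm, fun _ => rfl⟩
    · rw [h, C.z_sq]
      exact ⟨fun h1 => absurd h1.symm C.z_ne, fun h1 => absurd rfl h1⟩)
  rw [C.card] at h
  omega

/-- `N0` is not abelian -/
theorem not_comm (C : H13.Co3.CB P N0 z s ψ) : ∃ n ∈ N0, ∃ m ∈ N0, n * m ≠ m * n := by
  by_contra hc
  push Not at hc
  have h1 : N0 ≤ zpowers s := fun n hn => C.cen n hn fun m hm => hc n hn m hm
  have h4 : s ^ 4 = 1 := by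
    rw [show (4 : ℕ) = 2 + 2 by norm_num, pow_add, pow_two, C.s_sq, C.z_sq]
  have h2 : Nat.card ↥(zpowers s) ∣ 4 := by
    rw [Nat.card_zpowers]; exact orderOf_dvd_of_pow_eq_one h4
  have hf : Finite ↥(zpowers s) :=
    Nat.finite_of_card_ne_zero (fun h0 => by rw [h0] at h2; exact absurd h2 (by norm_num))
  have h3 := Subgroup.card_le_of_le h1
  rw [C.card] at h3
  have h5 := Nat.le_of_dvd (by norm_num) h2
  omega

/-- **no hom `e` with `e n = -1 → n² = z`** -/
theorem no_hom_one (C : H13.Co3.CB P N0 z s ψ) (e : ↥N0 →* ℤˣ) (he : e ≠ 1)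
    (h : ∀ n : ↥N0, e n = -1 → (n : G) * n = z) : False := by
  classical
  have hf := finite_N0 C
  obtain ⟨m, hm⟩ : ∃ m, e m = -1 := by
    by_contra hc
    push Not at hc
    apply he
    ext n
    rcases Int.units_eq_one_or (e n) with h1 | h1
    · rw [h1]; rfl
    · exact absurd h1 (hc n)
  have h1 : 2 * Nat.card {n : ↥N0 // e n = -1} = 64 := by
    rw [← C.card]
    refine half _ (Equiv.mulRight m) fun n => ?_
    have e1 : e ((Equiv.mulRight m) n) = e n * e m := map_mul e n m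
    rw [e1, hm]
    rcases Int.units_eq_one_or (e n) with h1 | h1
    · rw [h1]; decide
    · rw [h1]; decide
  -- the two sets agree
  have h2 : ∀ n : ↥N0, (n : G) * n = z → e n = -1 := by
    have h3 := card_sq_z C
    let f : {n : ↥N0 // e n = -1} → {n : ↥N0 // (n : G) * n = z} := fun n => ⟨n.1, h n.1 n.2⟩
    have hfi : Function.Injective f := fun a b hab => by
      have := congrArg (fun x => x.1) hab
      exact Subtype.ext this
    have hfb : Function.Bijective f := (Nat.bijective_iff_injective_and_card f).2 ⟨hfi, by omega⟩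
    intro n hn
    obtain ⟨a, ha⟩ := hfb.2 ⟨n, hn⟩
    have : a.1 = n := congrArg (fun x => x.1) ha
    rw [← this]
    exact a.2
  obtain ⟨n, hn, k, hk, hnk⟩ := not_comm C
  apply hnk
  have key : ∀ (x : ↥N0), (x : G) * x = if e x = -1 then z else 1 := by
    intro x
    split_ifs with hx
    · exact h x hx
    · rcases C.sq x x.2 with h5 | h5
      · exact h5
      · exact absurd (h2 x h5) hx
  have k1 := key ⟨n, hn⟩
  have k2 := key ⟨k, hk⟩
  have k3 := key (⟨n, hn⟩ * ⟨k, hk⟩)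
  rw [map_mul] at k3
  have hz1 : z * z = 1 := C.z_sq
  have e3 : (((⟨n, hn⟩ : ↥N0) * ⟨k, hk⟩ : ↥N0) : G) = n * k := rfl
  rw [e3] at k3
  have h6 : n * k * (n * k) = n * n * (k * k) := by
    rw [k3, show n * n = _ from k1, show k * k = _ from k2]
    rcases Int.units_eq_one_or (e ⟨n, hn⟩) with h1 | h1 <;> rcases Int.units_eq_one_or (e ⟨k, hk⟩) with h2 | h2 <;>
      rw [h1, h2] <;> simp [hz1]
  have h7 : n * (k * n) * k = n * (n * k) * k := by
    calc n * (k * n) * k = n * k * (n * k) := by group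
      _ = n * n * (k * k) := h6
      _ = n * (n * k) * k := by group
  exact (mul_left_cancel (mul_right_cancel h7)).symm

/-- **no hom `l` with `l n = -1 → n² = 1`** -/
theorem no_hom_two (C : H13.Co3.CB P N0 z s ψ) (l : ↥N0 →* ℤˣ) (hl : l ≠ 1)
    (h : ∀ n : ↥N0, l n = -1 → (n : G) * n = 1) : False := by
  classical
  have hf := finite_N0 C
  obtain ⟨m, hm⟩ : ∃ m, l m = -1 := by
    by_contra hc
    push Not at hc
    apply hl
    ext n
    rcases Int.units_eq_one_or (l n) with h1 | h1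
    · rw [h1]; rfl
    · exact absurd h1 (hc n)
  have h1 : 2 * Nat.card {n : ↥N0 // l n = -1} = 64 := by
    rw [← C.card]
    refine half _ (Equiv.mulRight m) fun n => ?_
    have e1 : l ((Equiv.mulRight m) n) = l n * l m := map_mul l n m
    rw [e1, hm]
    rcases Int.units_eq_one_or (l n) with h1 | h1
    · rw [h1]; decide
    · rw [h1]; decide
  have h3 := card_sq_one C
  let f : {n : ↥N0 // l n = -1} → {n : ↥N0 // (n : G) * n = 1} := fun n => ⟨n.1, h n.1 n.2⟩
  have hfi : Function.Injective f := fun a b hab => by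
    have := congrArg (fun x => x.1) hab
    exact Subtype.ext this
  have hfb : Function.Bijective f := (Nat.bijective_iff_injective_and_card f).2 ⟨hfi, by omega⟩
  obtain ⟨a, ha⟩ := hfb.2 ⟨1, by simp⟩
  have h4 : a.1 = 1 := congrArg (fun x => x.1) ha
  have h5 := a.2
  rw [h4, map_one] at h5
  exact absurd h5 (by decide)

end Cfsg.Agent.H731.C3
end

-- part: H64/Co3/Base
section
/-!
# S1920, E8-D8: base lemmas for the elements of `N0` and their lifts (helper64)

For `n ∈ N0` and a lift `M` (`R n M`): `M² = l`, `M* = ± M`, two lifts commute up to sign, and the table: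
* `sq_of_skew` : `M* = -M → n² = z`;
* `sq_of_nonsq` : `M* = M`, `M² = l` nonsquare `→ n² = 1`;
* `sq_of_anti` : `M* = M`, `M` anticommutes with some `L` `→ n² = 1`.
-/

set_option autoImplicit false

open Subgroup QuadraticMap

namespace Cfsg.Agent.H64.Co3

open Cfsg.Agent.LieClassical.OrthCore Cfsg.Agent.H13.Co3

variable {F V G : Type*} [Field F] [AddCommGroup V] [Module F V] [Group G] {Q : QuadraticForm F V}
  {P N0 : Subgroup G} {z s : G} {ψ : ↥(normalizer (P : Set G)) →* Equiv.Perm (Fin 6)}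
  {R : G → (V ≃ₗ[F] V) → Prop}

/-- self-adjoint -/
def SA (Q : QuadraticForm F V) (M : V ≃ₗ[F] V) : Prop := ∀ u v, polar Q (M u) v = polar Q u (M v)

/-- skew-adjoint -/
def SK (Q : QuadraticForm F V) (M : V ≃ₗ[F] V) : Prop := ∀ u v, polar Q (M u) v = - polar Q u (M v)

theorem nz (C : CB P N0 z s ψ) {n : G} (hn : n ∈ N0) : n * z = z * n := C.z_cen n (C.NH hn)

theorem D8I.R_z (T : D8I Q z R) : R z 1 := (T.one z).2 (Or.inr rfl)

theorem D8I.R_one (T : D8I Q z R) : R 1 1 := (T.one 1).2 (Or.inl rfl)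

theorem D8I.exists_vec_ne (T : D8I Q z R) : ∃ v : V, v ≠ 0 := by
  have h := T.dim
  have : Nontrivial V := Module.nontrivial_of_finrank_pos (R := F) (by omega)
  exact _root_.exists_ne 0

theorem D8I.exists_Q_ne (T : D8I Q z R) : ∃ v : V, Q v ≠ 0 := by
  by_contra hc
  push Not at hc
  obtain ⟨v, hv⟩ := T.exists_vec_ne
  apply hv
  apply T.nondeg
  intro y
  rw [polar, hc, hc, hc]; simp

/-- `R g M → R g⁻¹ M⁻¹` -/
theorem D8I.inv (T : D8I Q z R) {g : G} (hg : g * z = z * g) {M : V ≃ₗ[F] V} (h : R g M) : R g⁻¹ M⁻¹ := by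
  have hg' : g⁻¹ * z = z * g⁻¹ := by
    rw [inv_mul_eq_iff_eq_mul, ← mul_assoc, hg, mul_inv_cancel_right]
  obtain ⟨L, hL⟩ := T.ex _ hg'
  have h1 := T.mul h hL
  rw [mul_inv_cancel] at h1
  obtain ⟨c, hc, h2⟩ := T.uniq T.R_one h1
  refine T.scal c⁻¹ hL (inv_ne_zero hc) fun v => ?_
  have h3 : M (L v) = c • v := h2 v
  show M.symm v = c⁻¹ • L v
  rw [LinearEquiv.symm_apply_eq, map_smul, h3, smul_smul, inv_mul_cancel₀ hc, one_smul]

/-- the square of a lift is a scalar -/
theorem exists_sq (C : CB P N0 z s ψ) (T : D8I Q z R) {n : G} (hn : n ∈ N0) {M : V ≃ₗ[F] V} (hM : R n M) :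
    ∃ l : F, l ≠ 0 ∧ ∀ v, M (M v) = l • v := by
  have h1 := T.mul hM hM
  have h2 : R (n * n) 1 := (T.one _).2 (C.sq n hn)
  obtain ⟨c, hc, h3⟩ := T.uniq h2 h1
  exact ⟨c, hc, h3⟩

/-- similitudes and the polar form -/
theorem polar_of_sim {M : V ≃ₗ[F] V} {μ : F} (h : ∀ v, Q (M v) = μ * Q v) (u v : V) :
    polar Q (M u) (M v) = μ * polar Q u v := by
  rw [polar, polar, ← map_add, h, h, h]; ring

/-- the adjoint of a lift -/
theorem sa_or_sk (T : D8I Q z R) {g : G} {M : V ≃ₗ[F] V} (hM : R g M) {l : F} (hl : l ≠ 0)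
    (h : ∀ v, M (M v) = l • v) : (SA Q M ∧ ∀ v, Q (M v) = l * Q v) ∨ (SK Q M ∧ ∀ v, Q (M v) = - l * Q v) := by
  obtain ⟨μ, hμ, hs⟩ := T.sim hM
  obtain ⟨v0, hv0⟩ := T.exists_Q_ne
  have h1 : μ * μ = l * l := by
    have h2 := hs (M v0)
    rw [h, hs, QuadraticMap.map_smul, smul_eq_mul] at h2
    have h3 : (μ * μ - l * l) * Q v0 = 0 := by linear_combination -h2
    exact sub_eq_zero.1 ((mul_eq_zero.1 h3).resolve_right hv0)
  have h4 : (μ - l) * (μ + l) = 0 := by linear_combination h1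
  have key : ∀ u v, l * polar Q (M u) v = μ * polar Q u (M v) := by
    intro u v
    rw [← polar_of_sim hs, h, polar_smul_right, smul_eq_mul]
  rcases mul_eq_zero.1 h4 with h5 | h5
  · left
    have h6 : μ = l := sub_eq_zero.1 h5
    subst h6
    exact ⟨fun u v => mul_left_cancel₀ hl (key u v), hs⟩
  · right
    have h6 : μ = - l := eq_neg_of_add_eq_zero_left h5
    subst h6
    refine ⟨fun u v => mul_left_cancel₀ hl ?_, hs⟩
    rw [key]; ring

/-- two lifts of elements of `N0` commute up to sign -/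
theorem comm_or_anti (C : CB P N0 z s ψ) (T : D8I Q z R) {n m : G} (hn : n ∈ N0) (hm : m ∈ N0)
    {M L : V ≃ₗ[F] V} (hM : R n M) (hL : R m L) : (∀ v, M (L v) = L (M v)) ∨ ∀ v, M (L v) = - L (M v) := by
  have h1 := T.mul hM hL
  have h2 := T.mul hL hM
  have h3 : R (n * m) (L * M) := by
    rcases C.comm n hn m hm with h | h
    · rw [h]; exact h2
    · rw [h]
      have := T.mul T.R_z h2
      rwa [one_mul] at this
  obtain ⟨c, hc, h4⟩ := T.uniq h3 h1
  have h4' : ∀ v, M (L v) = c • L (M v) := h4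
  obtain ⟨l, hl, h5⟩ := exists_sq C T hn hM
  obtain ⟨v0, hv0⟩ := T.exists_vec_ne
  -- `c² = 1`
  have h6 : M (M (L v0)) = (c * c) • L (M (M v0)) := by
    rw [h4', map_smul, h4', smul_smul]
  rw [h5, h5, map_smul, smul_smul] at h6
  have h7 : (l - c * c * l) • L v0 = 0 := by rw [sub_smul, h6, sub_self]
  have h8 : L v0 ≠ 0 := fun h => hv0 (by rwa [LinearEquiv.map_eq_zero_iff] at h)
  have h9 := (smul_eq_zero.1 h7).resolve_right h8
  have h10 : (c - 1) * (c + 1) = 0 := by
    have : l * ((c - 1) * (c + 1)) = 0 := by linear_combination -h9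
    exact (mul_eq_zero.1 this).resolve_left hl
  rcases mul_eq_zero.1 h10 with h11 | h11
  · left
    intro v
    rw [h4', sub_eq_zero.1 h11, one_smul]
  · right
    intro v
    rw [h4', eq_neg_of_add_eq_zero_left h11, neg_smul, one_smul]

section fin

variable [FiniteDimensional F V]

/-- **`M* = -M → n² = z`** -/
theorem sq_of_skew (C : CB P N0 z s ψ) (T : D8I Q z R) (tab : TabI N0 Q z R) {n : G} (hn : n ∈ N0)
    {M : V ≃ₗ[F] V} (hM : R n M) (hs : SK Q M) : n * n = z := by
  rcases C.sq n hn with h | h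
  · exfalso
    obtain ⟨l, hl, h1⟩ := exists_sq C T hn hM
    have h2 := adm_neg T.two T.nondeg T.dim hl h1 hs
    by_cases h3 : n = 1 ∨ n = z
    · obtain ⟨c, hc, h4⟩ := T.uniq ((T.one n).2 h3) hM
      obtain ⟨v, hv⟩ := T.exists_Q_ne
      have h5 := hs v v
      have h4' : M v = c • v := h4 v
      rw [h4', polar_smul_left, polar_smul_right, polar_self', smul_eq_mul] at h5
      have h6 := (mul_eq_zero.1 (eq_zero_of_neg T.two h5)).resolve_left hc
      exact hv ((mul_eq_zero.1 h6).resolve_left T.two)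
    · push Not at h3
      rcases tab.t1 n hn h h3.1 h3.2 M hM with h4 | h4
      · omega
      · omega
  · exact h

/-- **`M* = M` and dimension 64 `→ n² = 1`** -/
theorem sq_of_dim (C : CB P N0 z s ψ) (T : D8I Q z R) (tab : TabI N0 Q z R) {n : G} (hn : n ∈ N0)
    {M : V ≃ₗ[F] V} (hM : R n M) (hs : SA Q M) {l : F} (hl : l ≠ 0) (h1 : ∀ v, M (M v) = l • v)
    (h : ∀ n : F, n * n = l → Module.finrank F (eig M n) = Module.finrank F (eig M (-n))) : n * n = 1 := by
  rcases C.sq n hn with h' | h'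
  · exact h'
  · exfalso
    have h2 := adm_pos T.two T.nondeg T.dim hl h1 hs h
    rcases tab.t2 n hn h' M hM with h3 | h3 | h3 <;> omega

/-- **`M* = M`, `M² = l` nonsquare `→ n² = 1`** -/
theorem sq_of_nonsq (C : CB P N0 z s ψ) (T : D8I Q z R) (tab : TabI N0 Q z R) {n : G} (hn : n ∈ N0)
    {M : V ≃ₗ[F] V} (hM : R n M) (hs : SA Q M) {l : F} (h1 : ∀ v, M (M v) = l • v) (hl : ¬ IsSquare l) :
    n * n = 1 := by
  have hl0 : l ≠ 0 := by rintro rfl; exact hl ⟨0, by simp⟩
  exact sq_of_dim C T tab hn hM hs hl0 h1 fun n hn => absurd ⟨n, hn.symm⟩ hl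

/-- **`M* = M`, `M` anticommutes with `L` `→ n² = 1`** -/
theorem sq_of_anti (C : CB P N0 z s ψ) (T : D8I Q z R) (tab : TabI N0 Q z R) {n : G} (hn : n ∈ N0)
    {M L : V ≃ₗ[F] V} (hM : R n M) (hs : SA Q M) (h : ∀ v, M (L v) = - L (M v)) : n * n = 1 := by
  obtain ⟨l, hl, h1⟩ := exists_sq C T hn hM
  exact sq_of_dim C T tab hn hM hs hl h1 fun n _ => finrank_eig_anti h n

end fin

end Cfsg.Agent.H64.Co3
end

-- part: H64/Co3/Chain
section
/-!
# S1920, E8-D8: the chain of eigenspaces (helper64)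

`Chn ρ B S A A' X X' σ α β` : `S` skew, `A, X` and `A', X'` anticommuting pairs.  `W2` = common eigenspace of `S, A, A'`:
* `Chn.finrank_W` : `dim W2 = 2`;
* `Chn.triv` : an isometry commuting with everything, trivial on `W2`, is trivial;
* `Chn.eigen` : an eigenvalue `l` of an isometry commuting with everything: `l` or `l⁻¹` is an eigenvalue on `W2`;
* `exists_sl'` : a 2-dimensional invariant subspace gives a homomorphism of the commutator subgroup to `SL₂`.
-/

set_option autoImplicit false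

namespace Cfsg.Agent.H64.Co3

open Module Matrix Cfsg.Agent.H754.Co3

section gen

variable {k : Type*} [Field k] {Γ : Type*} [Group Γ] {U : Type*} [AddCommGroup U] [Module k U]
  {ρ : Γ →* (U →ₗ[k] U)}

theorem ev_inv' {g t : Γ} {d : k} {E : Submodule k U} (h : ∀ u, ρ g (ρ t u) = ρ t (ρ g u)) (hE : ∀ u ∈ E, ρ g u ∈ E) :
    ∀ u ∈ ev ρ t d E, ρ g u ∈ ev ρ t d E := by
  intro u hu
  rw [mem_ev] at hu ⊢
  refine ⟨hE u hu.1, ?_⟩
  rw [← h, hu.2, map_smul]

theorem inv_comm' {g t : Γ} (h : ∀ u, ρ g (ρ t u) = ρ t (ρ g u)) (u : U) : ρ g⁻¹ (ρ t u) = ρ t (ρ g⁻¹ u) := by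
  have h1 := h (ρ g⁻¹ u)
  rw [inv_app] at h1
  rw [← h1, app_inv]

/-- eigenvalues on a subspace and on its half -/
theorem anti_eigen {t g : Γ} {d : k} {E : Submodule k U} (h : Anti ρ t d E g) {x : U →ₗ[k] U}
    (hxt : ∀ u, x (ρ t u) = ρ t (x u)) (hxg : ∀ u, x (ρ g⁻¹ u) = ρ g⁻¹ (x u)) {l : k} {u : U} (hu : u ∈ E) (hu0 : u ≠ 0)
    (hx : x u = l • u) : ∃ v ∈ ev ρ t d E, v ≠ 0 ∧ x v = l • v := by
  have hd := h.dne
  by_cases hv : u + d⁻¹ • ρ t u = 0
  · have h1 : ρ t u = (-d) • u := by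
      have h2 := congrArg (fun w => d • w) hv
      beta_reduce at h2
      rw [smul_add, smul_smul, mul_inv_cancel₀ hd, one_smul, smul_zero] at h2
      rw [neg_smul]
      exact eq_neg_of_add_eq_zero_right h2
    have h2 : u ∈ ev ρ t (-d) E := (mem_ev ρ).2 ⟨hu, h1⟩
    refine ⟨ρ g⁻¹ u, h.map_neg' h2, ?_, ?_⟩
    · intro h3
      apply hu0
      rw [← inv_app ρ g u, h3, map_zero]
    · rw [hxg, hx, map_smul]
  · refine ⟨_, ?_, hv, ?_⟩
    · rw [mem_ev]
      refine ⟨E.add_mem hu (E.smul_mem _ (h.tE u hu)), ?_⟩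
      rw [map_add, map_smul, h.sq u hu, smul_smul, smul_add, smul_smul, mul_inv_cancel₀ hd, one_smul,
        inv_mul_cancel_left₀ hd, add_comm]
    · rw [map_add, map_smul, hxt, hx, map_smul, smul_add, smul_comm]

/-- the operators of the chain -/
structure Chn (ρ : Γ →* (U →ₗ[k] U)) (B : LinearMap.BilinForm k U) (S A A' X X' : Γ) (σ α β : k) : Prop where
  two : (2 : k) ≠ 0
  dim : finrank k U = 16
  nd : ∀ u, (∀ v, B u v = 0) → u = 0
  sym : ∀ u v, B u v = B v u
  σ0 : σ ≠ 0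
  α0 : α ≠ 0
  β0 : β ≠ 0
  S2 : ∀ u, ρ S (ρ S u) = (σ * σ) • u
  A2 : ∀ u, ρ A (ρ A u) = (α * α) • u
  A'2 : ∀ u, ρ A' (ρ A' u) = (β * β) • u
  skew : ∀ u v, B (ρ S u) v = - B u (ρ S v)
  SA : ∀ u, ρ A (ρ S u) = ρ S (ρ A u)
  SA' : ∀ u, ρ A' (ρ S u) = ρ S (ρ A' u)
  SX : ∀ u, ρ X (ρ S u) = ρ S (ρ X u)
  SX' : ∀ u, ρ X' (ρ S u) = ρ S (ρ X' u)
  AA' : ∀ u, ρ A' (ρ A u) = ρ A (ρ A' u)
  AX : ∀ u, ρ A (ρ X u) = - ρ X (ρ A u)
  A'X' : ∀ u, ρ A' (ρ X' u) = - ρ X' (ρ A' u)
  AX' : ∀ u, ρ X' (ρ A u) = ρ A (ρ X' u)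

variable {B : LinearMap.BilinForm k U} {S A A' X X' : Γ} {σ α β : k}

/-- the common eigenspace -/
def W2 (ρ : Γ →* (U →ₗ[k] U)) (S A A' : Γ) (σ α β : k) : Submodule k U := ev ρ A' β (ev ρ A α (ev ρ S σ ⊤))

/-- isometries commuting with the chain -/
structure Iso (ρ : Γ →* (U →ₗ[k] U)) (B : LinearMap.BilinForm k U) (S A A' X X' : Γ) (d : Γ) : Prop where
  dS : ∀ u, ρ d (ρ S u) = ρ S (ρ d u)
  dA : ∀ u, ρ d (ρ A u) = ρ A (ρ d u)
  dA' : ∀ u, ρ d (ρ A' u) = ρ A' (ρ d u)
  dX : ∀ u, ρ d (ρ X u) = ρ X (ρ d u)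
  dX' : ∀ u, ρ d (ρ X' u) = ρ X' (ρ d u)
  iso : ∀ u v, B (ρ d u) (ρ d v) = B u v

namespace Chn

variable (h : Chn ρ B S A A' X X' σ α β)

include h

theorem fd : Module.Finite k U := by
  have h1 := h.dim
  exact Module.finite_of_finrank_pos (by omega)

theorem isotropic {u v : U} {l : k} (hl : l ≠ 0) (hu : ρ S u = l • u) (hv : ρ S v = l • v) : B u v = 0 := by
  have h1 := h.skew u v
  rw [hu, hv, map_smul, LinearMap.smul_apply, map_smul, smul_eq_mul] at h1
  have h2 : (2 : k) * (l * B u v) = 0 := by linear_combination h1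
  exact (mul_eq_zero.1 ((mul_eq_zero.1 h2).resolve_left h.two)).resolve_left hl

theorem dec (u : U) : ∃ v w, ρ S v = σ • v ∧ ρ S w = (-σ) • w ∧ u = v + w := by
  have h2 := h.two
  have hd := h.σ0
  have hsq := h.S2 u
  refine ⟨(2 : k)⁻¹ • (u + σ⁻¹ • ρ S u), (2 : k)⁻¹ • (u - σ⁻¹ • ρ S u), ?_, ?_, ?_⟩
  · rw [map_smul, map_add, map_smul, hsq]
    match_scalars <;> field_simp
  · rw [map_smul, map_sub, map_smul, hsq]
    match_scalars <;> field_simp
  · rw [← smul_add]
    have : u + σ⁻¹ • ρ S u + (u - σ⁻¹ • ρ S u) = (2 : k) • u := by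
      rw [two_smul]; abel
    rw [this, smul_smul, inv_mul_cancel₀ h2, one_smul]

theorem finrank_S : finrank k (ev ρ S σ ⊤) = 8 := by
  have hf := h.fd
  have hnd : B.Nondegenerate := by
    constructor
    · intro u hu
      exact h.nd u hu
    · intro u hu
      exact h.nd u fun v => by rw [h.sym]; exact hu v
  have key : ∀ l : k, l ≠ 0 → finrank k (ev ρ S l ⊤) ≤ 8 := by
    intro l hl
    have h1 := LinearMap.BilinForm.finrank_orthogonal hnd (ev ρ S l ⊤)
    have h2 : ev ρ S l ⊤ ≤ B.orthogonal (ev ρ S l ⊤) := by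
      intro u hu v hv
      exact h.isotropic hl ((mem_ev ρ).1 hv).2 ((mem_ev ρ).1 hu).2
    have h3 := Submodule.finrank_mono h2
    rw [h1, h.dim] at h3
    have h4 := Submodule.finrank_le (ev ρ S l ⊤)
    rw [h.dim] at h4
    omega
  have h1 := key σ h.σ0
  have h2 := key (-σ) (neg_ne_zero.2 h.σ0)
  have h3 := Submodule.finrank_sup_add_finrank_inf_eq (ev ρ S σ ⊤) (ev ρ S (-σ) ⊤)
  have h4 : ev ρ S σ ⊤ ⊔ ev ρ S (-σ) ⊤ = ⊤ := by
    rw [eq_top_iff]
    intro u _
    obtain ⟨v, w, hv, hw, rfl⟩ := h.dec u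
    exact Submodule.add_mem_sup ((mem_ev ρ).2 ⟨Submodule.mem_top, hv⟩) ((mem_ev ρ).2 ⟨Submodule.mem_top, hw⟩)
  rw [h4, finrank_top, h.dim] at h3
  omega

theorem anti1 : Anti ρ A α (ev ρ S σ ⊤) X where
  two := h.two
  dne := h.α0
  sq u _ := h.A2 u
  tE := ev_inv' h.SA fun _ _ => Submodule.mem_top
  gE := ev_inv' h.SX fun _ _ => Submodule.mem_top
  gE' := ev_inv' (inv_comm' h.SX) fun _ _ => Submodule.mem_top
  anti := h.AX

theorem anti2 : Anti ρ A' β (ev ρ A α (ev ρ S σ ⊤)) X' where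
  two := h.two
  dne := h.β0
  sq u _ := h.A'2 u
  tE := ev_inv' h.AA' (ev_inv' h.SA' fun _ _ => Submodule.mem_top)
  gE := ev_inv' h.AX' (ev_inv' h.SX' fun _ _ => Submodule.mem_top)
  gE' := ev_inv' (inv_comm' h.AX') (ev_inv' (inv_comm' h.SX') fun _ _ => Submodule.mem_top)
  anti := h.A'X'

theorem finrank_W : finrank k (W2 ρ S A A' σ α β) = 2 := by
  have hf := h.fd
  have h1 := h.finrank_S
  have h2 := h.anti1.half
  have h3 := h.anti2.half
  rw [W2]
  omega

omit h in
theorem W_inv {d : Γ} (hd : Iso ρ B S A A' X X' d) : ∀ u ∈ W2 ρ S A A' σ α β, ρ d u ∈ W2 ρ S A A' σ α β :=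
  ev_inv' hd.dA' (ev_inv' hd.dA (ev_inv' hd.dS fun _ _ => Submodule.mem_top))

/-- an isometry commuting with the chain, trivial on `W2`, is trivial -/
theorem triv {d : Γ} (hd : Iso ρ B S A A' X X' d) (hW : ∀ u ∈ W2 ρ S A A' σ α β, ρ d u = u) : ρ d = 1 := by
  have h1 : ∀ u ∈ ev ρ S σ ⊤, ρ d u = u := h.anti1.triv (h.anti2.triv hW hd.dX') hd.dX
  have h2 : ∀ u, ρ S u = (-σ) • u → ρ d u = u := by
    intro u hu
    rw [← sub_eq_zero]
    apply h.nd
    intro v
    obtain ⟨v, w, hv, hw, rfl⟩ := h.dec v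
    have h3 : ρ S (ρ d u) = (-σ) • ρ d u := by rw [← hd.dS, hu, map_smul]
    have e1 : B (ρ d u) v = B u v := by
      have := hd.iso u v
      rwa [h1 v ((mem_ev ρ).2 ⟨Submodule.mem_top, hv⟩)] at this
    have e2 : B (ρ d u) w = 0 := h.isotropic (neg_ne_zero.2 h.σ0) h3 hw
    have e3 : B u w = 0 := h.isotropic (neg_ne_zero.2 h.σ0) hu hw
    rw [map_sub, LinearMap.sub_apply, map_add, map_add, e1, e2, e3, sub_self]
  apply LinearMap.ext
  intro u
  obtain ⟨v, w, hv, hw, rfl⟩ := h.dec u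
  rw [map_add, h1 v ((mem_ev ρ).2 ⟨Submodule.mem_top, hv⟩), h2 w hw]
  rfl

/-- **eigenvalues of an isometry commuting with the chain** -/
theorem eigen {d : Γ} (hd : Iso ρ B S A A' X X' d) {l : k} {u : U} (hu : u ≠ 0) (hl : ρ d u = l • u) :
    (∃ v ∈ W2 ρ S A A' σ α β, v ≠ 0 ∧ ρ d v = l • v) ∨ (∃ v ∈ W2 ρ S A A' σ α β, v ≠ 0 ∧ ρ d v = l⁻¹ • v) := by
  have hf := h.fd
  have hl0 : l ≠ 0 := by
    rintro rfl
    apply hu
    rw [← app_inv ρ d u, hl, zero_smul, map_zero]
  have key : ∀ m : k, (∃ v ∈ ev ρ S σ ⊤, v ≠ 0 ∧ ρ d v = m • v) → ∃ v ∈ W2 ρ S A A' σ α β, v ≠ 0 ∧ ρ d v = m • v := by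
    rintro m ⟨v, hv, hv0, hvm⟩
    have hX : ∀ u, ρ d (ρ X⁻¹ u) = ρ X⁻¹ (ρ d u) := fun u => (inv_comm' (fun u => (hd.dX u).symm) u).symm
    have hX' : ∀ u, ρ d (ρ X'⁻¹ u) = ρ X'⁻¹ (ρ d u) := fun u => (inv_comm' (fun u => (hd.dX' u).symm) u).symm
    obtain ⟨w, hw, hw0, hwm⟩ := anti_eigen h.anti1 hd.dA hX hv hv0 hvm
    exact anti_eigen h.anti2 hd.dA' hX' hw hw0 hwm
  by_cases h1 : ∃ v ∈ ev ρ S σ ⊤, v ≠ 0 ∧ ρ d v = l • v
  · exact Or.inl (key l h1)
  right
  apply key
  by_contra h2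
  -- `u` is in the eigenspace of `-σ`
  have hSu : ρ S u = (-σ) • u := by
    by_contra h3
    apply h1
    refine ⟨u + σ⁻¹ • ρ S u, (mem_ev ρ).2 ⟨Submodule.mem_top, ?_⟩, ?_, ?_⟩
    · rw [map_add, map_smul, h.S2, smul_smul, smul_add, smul_smul, mul_inv_cancel₀ h.σ0, one_smul,
        inv_mul_cancel_left₀ h.σ0, add_comm]
    · intro h4
      apply h3
      have h5 := congrArg (fun w => σ • w) h4
      beta_reduce at h5
      rw [smul_add, smul_smul, mul_inv_cancel₀ h.σ0, one_smul, smul_zero] at h5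
      rw [neg_smul]
      exact eq_neg_of_add_eq_zero_right h5
    · rw [map_add, map_smul, hd.dS, hl, map_smul, smul_add, smul_comm]
  have hinv : ∀ v ∈ ev ρ S σ ⊤, (ρ d - l⁻¹ • LinearMap.id : U →ₗ[k] U) v ∈ ev ρ S σ ⊤ := by
    intro v hv
    rw [LinearMap.sub_apply, LinearMap.smul_apply, LinearMap.id_apply]
    exact Submodule.sub_mem _ (ev_inv' hd.dS (fun _ _ => Submodule.mem_top) v hv) (Submodule.smul_mem _ _ hv)
  let T : ev ρ S σ ⊤ →ₗ[k] ev ρ S σ ⊤ := (ρ d - l⁻¹ • LinearMap.id : U →ₗ[k] U).restrict hinv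
  have hTinj : Function.Injective T := by
    rw [injective_iff_map_eq_zero]
    intro v hv
    by_contra hv0
    apply h2
    refine ⟨v, v.2, fun h => hv0 (Subtype.ext h), ?_⟩
    have h3 := congrArg Subtype.val hv
    have h4 : ρ d v - l⁻¹ • (v : U) = 0 := h3
    exact sub_eq_zero.1 h4
  have hTsurj : Function.Surjective T := LinearMap.injective_iff_surjective.1 hTinj
  apply hu
  apply h.nd
  intro w
  obtain ⟨v, w, hv, hw, rfl⟩ := h.dec w
  have e1 : B u w = 0 := h.isotropic (neg_ne_zero.2 h.σ0) hSu hw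
  obtain ⟨⟨v', hv'⟩, h4⟩ := hTsurj ⟨v, (mem_ev ρ).2 ⟨Submodule.mem_top, hv⟩⟩
  have h5 : ρ d v' - l⁻¹ • v' = v := congrArg Subtype.val h4
  have h6 := hd.iso u v'
  rw [hl, map_smul, LinearMap.smul_apply, smul_eq_mul] at h6
  have e2 : B u v = 0 := by
    rw [← h5, map_sub, map_smul, smul_eq_mul, ← h6, inv_mul_cancel_left₀ hl0, sub_self]
  rw [map_add, e1, e2, add_zero]

end Chn

/-- a 2-dimensional invariant subspace gives a homomorphism of the commutator subgroup to `SL₂` -/
theorem exists_sl' {D : Type*} [Group D] (ρ : D →* (U →ₗ[k] U)) (W : Submodule k U) (hW : finrank k W = 2)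
    (hinv : ∀ d, ∀ u ∈ W, ρ d u ∈ W) :
    ∃ f : ↥(_root_.commutator D) →* SpecialLinearGroup (Fin 2) k, (∀ d, f d = 1 → ∀ u ∈ W, ρ d u = u) ∧
      ∀ (d : ↥(_root_.commutator D)) (l : k), (∃ u ∈ W, u ≠ 0 ∧ ρ d u = l • u) ↔
        l * l - (f d : Matrix (Fin 2) (Fin 2) k).trace * l + 1 = 0 := by
  have hfin : Module.Finite k W := Module.finite_of_finrank_pos (by omega)
  let B := finBasisOfFinrankEq k W hW
  let r : D →* (W →ₗ[k] W) :=
    { toFun := fun d => (ρ d).restrict (hinv d)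
      map_one' := by
        apply LinearMap.ext
        intro u
        apply Subtype.ext
        change ρ 1 u = u
        rw [map_one]
        rfl
      map_mul' := fun d e => by
        apply LinearMap.ext
        intro u
        apply Subtype.ext
        change ρ (d * e) u = ρ d (ρ e u)
        rw [map_mul]
        rfl }
  let φ : D →* Matrix (Fin 2) (Fin 2) k :=
    ((LinearMap.toMatrixAlgEquiv B : (W →ₗ[k] W) ≃ₐ[k] Matrix (Fin 2) (Fin 2) k) : (W →ₗ[k] W) →* _).comp r
  have hφ : ∀ d, φ d = LinearMap.toMatrixAlgEquiv B (r d) := fun _ => rfl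
  let δ : D →* kˣ := (Matrix.detMonoidHom.comp φ).toHomUnits
  have hδ : ∀ d : ↥(_root_.commutator D), (φ d).det = 1 := by
    intro d
    have h1 : (d : D) ∈ δ.ker := Abelianization.commutator_subset_ker δ d.2
    have h2 : ((δ (d : D) : kˣ) : k) = (φ d).det := rfl
    rw [← h2, MonoidHom.mem_ker.1 h1, Units.val_one]
  refine ⟨{ toFun := fun d => ⟨φ d, hδ d⟩
            map_one' := Subtype.ext (by
              change φ ((1 : ↥(_root_.commutator D)) : D) = 1
              rw [OneMemClass.coe_one, map_one])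
            map_mul' := fun d e => Subtype.ext (by
              change φ ((d * e : ↥(_root_.commutator D)) : D) = φ d * φ e
              rw [Subgroup.coe_mul, map_mul]) }, fun d hd u hu => ?_, fun d l => ?_⟩
  · have h1 : φ d = 1 := congrArg Subtype.val hd
    rw [hφ] at h1
    have h2 : r d = 1 := by
      apply (LinearMap.toMatrixAlgEquiv B).injective
      rw [h1, map_one]
    have h3 := LinearMap.congr_fun h2 ⟨u, hu⟩
    exact congrArg Subtype.val h3
  · have hdet := hδ d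
    change _ ↔ l * l - (φ d).trace * l + 1 = 0
    have h1 : (φ d - l • (1 : Matrix (Fin 2) (Fin 2) k)).det = l * l - (φ d).trace * l + 1 := by
      rw [det_fin_two] at hdet
      rw [det_fin_two, trace_fin_two]
      simp only [Matrix.sub_apply, Matrix.smul_apply, one_apply_eq, ne_eq, one_ne_zero, zero_ne_one,
        not_false_eq_true, one_apply_ne, smul_eq_mul, mul_one, mul_zero, sub_zero]
      linear_combination hdet
    rw [← h1, ← Matrix.exists_mulVec_eq_zero_iff]
    have h2 : ∀ w : W, B.repr (r d w) = φ d *ᵥ (B.repr w) := by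
      intro w
      rw [hφ]
      exact (LinearMap.toMatrix_mulVec_repr B B (r d) w).symm
    constructor
    · rintro ⟨u, hu, hu0, hul⟩
      refine ⟨B.repr ⟨u, hu⟩, ?_, ?_⟩
      · intro h3
        apply hu0
        have h4 : B.repr ⟨u, hu⟩ = 0 := by
          ext i
          exact congrFun h3 i
        have h5 : (⟨u, hu⟩ : W) = 0 := by rwa [LinearEquiv.map_eq_zero_iff] at h4
        exact congrArg Subtype.val h5
      · have h3 : r d ⟨u, hu⟩ = l • (⟨u, hu⟩ : W) := Subtype.ext hul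
        rw [sub_mulVec, smul_mulVec, one_mulVec, ← h2, h3, map_smul]
        ext i
        simp
    · rintro ⟨v, hv, hv0⟩
      have hw : ∃ w : W, (B.repr w : Fin 2 → k) = v := ⟨B.equivFun.symm v, by
        rw [← B.equivFun_apply, LinearEquiv.apply_symm_apply]⟩
      obtain ⟨w, rfl⟩ := hw
      refine ⟨w, w.2, ?_, ?_⟩
      · intro h3
        apply hv
        have h4 : w = 0 := Subtype.ext h3
        rw [h4, map_zero]
        rfl
      · rw [sub_mulVec, smul_mulVec, one_mulVec, ← h2, sub_eq_zero] at hv0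
        have h3 : r d w = l • w := by
          apply B.repr.injective
          ext i
          rw [map_smul]
          exact congrFun hv0 i
        exact congrArg Subtype.val h3

end gen

end Cfsg.Agent.H64.Co3
end

private theorem dce_6ba3df3c2546 : _root_.True := by
  try have : _root_.True := by simp only [_root_.Cfsg.Agent.H64.Co3.W2.eq_1]
  exact _root_.True.intro
end

-- part: H64/Co3/C1
section
prune_inst 0xd4400740418000000000050000000000000004020000000000200a0402088c48000008001020251010008810000c006000100020400000000a000c000000000008800200a0080008e00000000080000000000000000000000000000000000000000000000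
set_option linter.all false
open scoped Cfsg.Agent.FastGrp

-- part: H64/Co3/Rad
section
/-!
# S1920, E8-D8: the commutation form of the lifts of `N0`, case `c ≠ 0` (helper64)

`cm R n m` : the lifts of `n` and `m` commute.  If some two lifts of elements of `N0` do not commute:
* `cm_s` : the lifts of `s` commute with everything;
* `cm_iff_comm` : `cm R n m ↔ n m = m n`;
* `sk_s` : the lifts of `s` are skew-adjoint.
-/

set_option autoImplicit false

open Subgroup QuadraticMap

namespace Cfsg.Agent.H64.Co3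

open Cfsg.Agent.LieClassical.OrthCore Cfsg.Agent.H13.Co3

variable {F V G : Type*} [Field F] [AddCommGroup V] [Module F V] [Group G] {Q : QuadraticForm F V}
  {P N0 : Subgroup G} {z s : G} {ψ : ↥(normalizer (P : Set G)) →* Equiv.Perm (Fin 6)}
  {R : G → (V ≃ₗ[F] V) → Prop}

/-- the lifts of `n` and `m` commute -/
def cm (R : G → (V ≃ₗ[F] V) → Prop) (n m : G) : Prop :=
  ∃ M L, R n M ∧ R m L ∧ ∀ v, M (L v) = L (M v)

/-- the lifts of `n` are self-adjoint -/
def sa (Q : QuadraticForm F V) (R : G → (V ≃ₗ[F] V) → Prop) (n : G) : Prop := ∃ M, R n M ∧ SA Q M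

theorem cm_iff (T : D8I Q z R) {n m : G} {M L : V ≃ₗ[F] V} (hM : R n M) (hL : R m L) :
    cm R n m ↔ ∀ v, M (L v) = L (M v) := by
  refine ⟨?_, fun h => ⟨M, L, hM, hL, h⟩⟩
  rintro ⟨M', L', hM', hL', h⟩ v
  obtain ⟨c, hc, h1⟩ := T.uniq hM' hM
  obtain ⟨d, hd, h2⟩ := T.uniq hL' hL
  rw [h1, h2, h2, h1, map_smul, map_smul, h, smul_comm]

theorem cm_symm {n m : G} (h : cm R n m) : cm R m n := by
  obtain ⟨M, L, hM, hL, h⟩ := h
  exact ⟨L, M, hL, hM, fun v => (h v).symm⟩

theorem cm_self (T : D8I Q z R) {n : G} (h : n * z = z * n) : cm R n n := by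
  obtain ⟨M, hM⟩ := T.ex n h
  exact ⟨M, M, hM, hM, fun _ => rfl⟩

theorem not_both (T : D8I Q z R) {M L : V ≃ₗ[F] V} (h1 : ∀ v, M (L v) = L (M v)) (h2 : ∀ v, M (L v) = - L (M v)) :
    False := by
  obtain ⟨v, hv⟩ := T.exists_vec_ne
  have h3 := h1 v
  rw [h2] at h3
  have h4 : (2 : F) • L (M v) = 0 := by
    rw [two_smul]
    nth_rw 1 [← h3]
    exact neg_add_cancel _
  have h5 := (smul_eq_zero.1 h4).resolve_left T.two
  apply hv
  rwa [LinearEquiv.map_eq_zero_iff, LinearEquiv.map_eq_zero_iff] at h5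

theorem anti_of_not_cm (C : CB P N0 z s ψ) (T : D8I Q z R) {n m : G} (hn : n ∈ N0) (hm : m ∈ N0)
    (h : ¬ cm R n m) {M L : V ≃ₗ[F] V} (hM : R n M) (hL : R m L) : ∀ v, M (L v) = - L (M v) := by
  rcases comm_or_anti C T hn hm hM hL with h1 | h1
  · exact absurd ⟨M, L, hM, hL, h1⟩ h
  · exact h1

theorem cm_mul (C : CB P N0 z s ψ) (T : D8I Q z R) {n n' m : G} (hn : n ∈ N0) (hn' : n' ∈ N0) (hm : m ∈ N0) :
    cm R (n * n') m ↔ (cm R n m ↔ cm R n' m) := by
  obtain ⟨M, hM⟩ := T.ex n (nz C hn)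
  obtain ⟨M', hM'⟩ := T.ex n' (nz C hn')
  obtain ⟨L, hL⟩ := T.ex m (nz C hm)
  have hMM := T.mul hM hM'
  have key : ∀ {k : G} {K : V ≃ₗ[F] V}, R k K → ((∀ v, K (L v) = - L (K v)) → ¬ cm R k m) := by
    intro k K hK h h'
    exact not_both T ((cm_iff T hK hL).1 h') h
  rcases comm_or_anti C T hn hm hM hL with h1 | h1 <;> rcases comm_or_anti C T hn' hm hM' hL with h2 | h2
  · have a1 := (cm_iff T hM hL).2 h1
    have a2 := (cm_iff T hM' hL).2 h2
    have a3 : cm R (n * n') m := (cm_iff T hMM hL).2 fun v => by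
      show M (M' (L v)) = L (M (M' v))
      rw [h2, h1]
    (clear * - a1 a2 a3; tauto)
  · have a1 := (cm_iff T hM hL).2 h1
    have a2 := key hM' h2
    have a3 : ¬ cm R (n * n') m := key hMM fun v => by
      show M (M' (L v)) = - L (M (M' v))
      rw [h2, map_neg, h1]
    (clear * - a1 a2 a3; tauto)
  · have a1 := key hM h1
    have a2 := (cm_iff T hM' hL).2 h2
    have a3 : ¬ cm R (n * n') m := key hMM fun v => by
      show M (M' (L v)) = - L (M (M' v))
      rw [h2, h1]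
    (clear * - a1 a2 a3; tauto)
  · have a1 := key hM h1
    have a2 := key hM' h2
    have a3 : cm R (n * n') m := (cm_iff T hMM hL).2 fun v => by
      show M (M' (L v)) = L (M (M' v))
      rw [h2, map_neg, h1, neg_neg]
    (clear * - a1 a2 a3; (solve | simp only [*, true_or, or_true, and_self, true_and, and_true, not_false_eq_true] | tauto))

theorem sa_iff (T : D8I Q z R) {n : G} {M : V ≃ₗ[F] V} (hM : R n M) : sa Q R n ↔ SA Q M := by
  refine ⟨?_, fun h => ⟨M, hM, h⟩⟩
  rintro ⟨M', hM', h⟩ u v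
  obtain ⟨c, -, h1⟩ := T.uniq hM' hM
  rw [h1, h1, polar_smul_left, polar_smul_right, h]

theorem not_sa_sk' (T : D8I Q z R) {M : V ≃ₗ[F] V} (h : SA Q M) (h' : SK Q M) : False := by
  obtain ⟨v, hv⟩ := T.exists_vec_ne
  apply hv
  apply T.nondeg
  intro y
  obtain ⟨y, rfl⟩ := M.surjective y
  have h1 := h v y
  rw [h'] at h1
  exact eq_zero_of_neg T.two h1.symm

theorem sk_of_not_sa (C : CB P N0 z s ψ) (T : D8I Q z R) {n : G} (hn : n ∈ N0) (h : ¬ sa Q R n) {M : V ≃ₗ[F] V}
    (hM : R n M) : SK Q M := by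
  obtain ⟨l, hl, h1⟩ := exists_sq C T hn hM
  rcases sa_or_sk T hM hl h1 with ⟨a, -⟩ | ⟨a, -⟩
  · exact absurd ⟨M, hM, a⟩ h
  · exact a

theorem sa_mul (C : CB P N0 z s ψ) (T : D8I Q z R) {n m : G} (hn : n ∈ N0) (hm : m ∈ N0) :
    sa Q R (n * m) ↔ ((sa Q R n ↔ sa Q R m) ↔ cm R n m) := by
  obtain ⟨M, hM⟩ := T.ex n (nz C hn)
  obtain ⟨L, hL⟩ := T.ex m (nz C hm)
  have hML := T.mul hM hL
  have key : ∀ {k : G} {K : V ≃ₗ[F] V}, R k K → SK Q K → ¬ sa Q R k := by
    intro k K hK h h'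
    exact not_sa_sk' T ((sa_iff T hK).1 h') h
  have e1 : sa Q R n ∧ SA Q M ∨ ¬ sa Q R n ∧ SK Q M := by
    by_cases h : sa Q R n
    · exact Or.inl ⟨h, (sa_iff T hM).1 h⟩
    · exact Or.inr ⟨h, sk_of_not_sa C T hn h hM⟩
  have e2 : sa Q R m ∧ SA Q L ∨ ¬ sa Q R m ∧ SK Q L := by
    by_cases h : sa Q R m
    · exact Or.inl ⟨h, (sa_iff T hL).1 h⟩
    · exact Or.inr ⟨h, sk_of_not_sa C T hm h hL⟩
  by_cases hc : cm R n m
  · have h0 := (cm_iff T hM hL).1 hc
    rcases e1 with ⟨a, a'⟩ | ⟨a, a'⟩ <;> rcases e2 with ⟨b, b'⟩ | ⟨b, b'⟩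
    · have h3 : sa Q R (n * m) := ⟨_, hML, fun u v => by
        show polar Q (M (L u)) v = polar Q u (M (L v))
        rw [a', b', h0]⟩
      (clear * - hc a b h3; (solve | simp only [*, true_or, or_true, and_self, true_and, and_true, not_false_eq_true] | tauto))
    · have h3 : ¬ sa Q R (n * m) := key hML fun u v => by
        show polar Q (M (L u)) v = - polar Q u (M (L v))
        rw [a', b', h0]
      (clear * - hc a b h3; tauto)
    · have h3 : ¬ sa Q R (n * m) := key hML fun u v => by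
        show polar Q (M (L u)) v = - polar Q u (M (L v))
        rw [a', b', h0]
      (clear * - hc a b h3; tauto)
    · have h3 : sa Q R (n * m) := ⟨_, hML, fun u v => by
        show polar Q (M (L u)) v = polar Q u (M (L v))
        rw [a', b', h0, neg_neg]⟩
      (clear * - hc a b h3; (solve | simp only [*, true_or, or_true, and_self, true_and, and_true, not_false_eq_true] | tauto))
  · have h0 := anti_of_not_cm C T hn hm hc hM hL
    have h0' : ∀ v, L (M v) = - M (L v) := fun v => by rw [h0, neg_neg]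
    rcases e1 with ⟨a, a'⟩ | ⟨a, a'⟩ <;> rcases e2 with ⟨b, b'⟩ | ⟨b, b'⟩
    · have h3 : ¬ sa Q R (n * m) := key hML fun u v => by
        show polar Q (M (L u)) v = - polar Q u (M (L v))
        rw [a', b', h0', polar_neg_right]
      (clear * - hc a b h3; tauto)
    · have h3 : sa Q R (n * m) := ⟨_, hML, fun u v => by
        show polar Q (M (L u)) v = polar Q u (M (L v))
        rw [a', b', h0', polar_neg_right, neg_neg]⟩
      (clear * - hc a b h3; tauto)
    · have h3 : sa Q R (n * m) := ⟨_, hML, fun u v => by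
        show polar Q (M (L u)) v = polar Q u (M (L v))
        rw [a', b', h0', polar_neg_right, neg_neg]⟩
      (clear * - hc a b h3; tauto)
    · have h3 : ¬ sa Q R (n * m) := key hML fun u v => by
        show polar Q (M (L u)) v = - polar Q u (M (L v))
        rw [a', b', h0', polar_neg_right, neg_neg]
      (clear * - hc a b h3; tauto)

/-- `(n m)² = 1 ↔ (n² = 1 ↔ m² = 1) ↔ n m = m n` -/
theorem q_mul (C : CB P N0 z s ψ) {n m : G} (hn : n ∈ N0) (hm : m ∈ N0) :
    n * m * (n * m) = 1 ↔ ((n * n = 1 ↔ m * m = 1) ↔ n * m = m * n) := by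
  have hz1 : z ≠ 1 := C.z_ne
  have key : ∀ {a : G}, a * a = z → ¬ a * a = 1 := fun h h' => hz1 (h.symm.trans h')
  have hzm : m * z = z * m := nz C hm
  have hzn : n * z = z * n := nz C hn
  by_cases hc : n * m = m * n
  · have e : n * m * (n * m) = n * n * (m * m) := by
      rw [mul_assoc, ← mul_assoc m n m, ← hc]; group
    rw [e]
    rcases C.sq n hn with h | h <;> rcases C.sq m hm with h' | h' <;> rw [h, h']
    · simp [hc]
    · simp [hc, hz1]
    · simp [hc, hz1]
    · simp [hc, hz1, C.z_sq]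
  · have hc' : m * n = z * (n * m) := (C.comm m hm n hn).resolve_left (fun h => hc h.symm)
    have e : n * m * (n * m) = z * (n * n * (m * m)) := by
      rw [mul_assoc, ← mul_assoc m n m, hc', ← mul_assoc z n m, mul_assoc (z * n) m m, ← mul_assoc n,
        ← mul_assoc n z n, hzn]
      group
    rw [e]
    rcases C.sq n hn with h | h <;> rcases C.sq m hm with h' | h' <;> rw [h, h']
    · simp [hc, hz1]
    · simp [hc, hz1, C.z_sq]
    · simp [hc, hz1, C.z_sq]
    · simp [hc, hz1, C.z_sq]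

section fin

variable [FiniteDimensional F V]

/-- outside the radical `q = e` -/
theorem q_iff_sa (C : CB P N0 z s ψ) (T : D8I Q z R) (tab : TabI N0 Q z R) {n m : G} (hn : n ∈ N0) (hm : m ∈ N0)
    (h : ¬ cm R n m) : n * n = 1 ↔ sa Q R n := by
  obtain ⟨M, hM⟩ := T.ex n (nz C hn)
  obtain ⟨L, hL⟩ := T.ex m (nz C hm)
  constructor
  · intro h1
    by_contra h2
    have h3 := sq_of_skew C T tab hn hM (sk_of_not_sa C T hn h2 hM)
    exact C.z_ne (h3.symm.trans h1)
  · intro h1
    exact sq_of_anti C T tab hn hM ((sa_iff T hM).1 h1) (anti_of_not_cm C T hn hm h hM hL)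

theorem ns_one (C : CB P N0 z s ψ) : ¬ s * s = 1 := fun h => C.z_ne (C.s_sq.symm.trans h)

/-- the lifts of `s` commute with the lifts of `N0` -/
theorem cm_s (C : CB P N0 z s ψ) (T : D8I Q z R) (tab : TabI N0 Q z R) {m : G} (hm : m ∈ N0) : cm R s m := by
  by_contra h
  have h1 := q_iff_sa C T tab C.sN hm h
  have h2 := q_iff_sa C T tab hm C.sN (fun h' => h (cm_symm h'))
  have h3 : ¬ cm R (s * m) m := by
    rw [cm_mul C T C.sN hm hm]
    have := cm_self T (nz C hm)
    (clear * - h this; tauto)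
  have h4 := q_iff_sa C T tab (mul_mem C.sN hm) hm h3
  rw [q_mul C C.sN hm, sa_mul C T C.sN hm, h1, h2] at h4
  have h5 := C.s_cen m hm
  have h6 : s * m = m * s := h5.symm
  (clear * - h h4 h6; tauto)

variable {n0 m0 : G}

/-- the lifts of `s` are skew-adjoint -/
theorem not_sa_s (C : CB P N0 z s ψ) (T : D8I Q z R) (tab : TabI N0 Q z R) (hn0 : n0 ∈ N0) (hm0 : m0 ∈ N0)
    (h0 : ¬ cm R n0 m0) : ¬ sa Q R s := by
  have h1 := q_iff_sa C T tab hn0 hm0 h0
  have h2 : ¬ cm R (n0 * s) m0 := by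
    rw [cm_mul C T hn0 C.sN hm0]
    have := cm_s C T tab hm0
    (clear * - h0 this; tauto)
  have h3 := q_iff_sa C T tab (mul_mem hn0 C.sN) hm0 h2
  rw [q_mul C hn0 C.sN, sa_mul C T hn0 C.sN, h1] at h3
  have h4 : n0 * s = s * n0 := C.s_cen n0 hn0
  have h5 : cm R n0 s := cm_symm (cm_s C T tab hn0)
  have h6 := ns_one C
  (clear * - h3 h4 h5 h6; (solve | grind only | tauto))

/-- the radical is `⟨s⟩` -/
theorem rad (C : CB P N0 z s ψ) (T : D8I Q z R) (tab : TabI N0 Q z R) (hn0 : n0 ∈ N0) (hm0 : m0 ∈ N0)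
    (h0 : ¬ cm R n0 m0) {v : G} (hv : v ∈ N0) (hr : ∀ m ∈ N0, cm R v m) : v ∈ zpowers s := by
  have hB : ∀ u ∈ N0, (∃ m ∈ N0, ¬ cm R u m) → (u * v = v * u ↔ (v * v = 1 ↔ sa Q R v)) := by
    rintro u hu ⟨m, hm, h⟩
    have h1 := q_iff_sa C T tab hu hm h
    have h2 : ¬ cm R (u * v) m := by
      rw [cm_mul C T hu hv hm]
      have := hr m hm
      (clear * - h this; tauto)
    have h3 := q_iff_sa C T tab (mul_mem hu hv) hm h2
    rw [q_mul C hu hv, sa_mul C T hu hv, h1] at h3
    have h5 : cm R u v := cm_symm (hr u hu)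
    (clear * - h3 h5; (solve | grind only | tauto))
  have hnm : ¬ cm R (n0 * m0) m0 := by
    rw [cm_mul C T hn0 hm0 hm0]
    have := cm_self T (nz C hm0)
    (clear * - h0 this; tauto)
  have b1 := hB n0 hn0 ⟨m0, hm0, h0⟩
  have b2 := hB m0 hm0 ⟨n0, hn0, fun h => h0 (cm_symm h)⟩
  have b3 := hB (n0 * m0) (mul_mem hn0 hm0) ⟨m0, hm0, hnm⟩
  -- `b` is multiplicative
  have hmul : ∀ a ∈ N0, ∀ b ∈ N0, (a * b * v = v * (a * b) ↔ (a * v = v * a ↔ b * v = v * b)) := by
    intro a ha b hb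
    have hz1 : z ≠ 1 := C.z_ne
    have e1 : ∀ c ∈ N0, ¬ c * v = v * c → c * v = z * (v * c) := fun c hc h => (C.comm c hc v hv).resolve_left h
    have hza := nz C ha
    by_cases ca : a * v = v * a <;> by_cases cb : b * v = v * b
    · have : a * b * v = v * (a * b) := by rw [mul_assoc, cb, ← mul_assoc, ca, mul_assoc]
      (clear * - ca cb this; tauto)
    · have h1 := e1 b hb cb
      have : ¬ a * b * v = v * (a * b) := by
        intro h
        rw [mul_assoc, h1, ← mul_assoc, hza, mul_assoc, ← mul_assoc a v b, ca, mul_assoc] at h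
        exact hz1 (mul_eq_right.1 h)
      (clear * - ca cb this; tauto)
    · have h1 := e1 a ha ca
      have : ¬ a * b * v = v * (a * b) := by
        intro h
        rw [mul_assoc, cb, ← mul_assoc, h1, mul_assoc, mul_assoc] at h
        exact hz1 (mul_eq_right.1 h)
      (clear * - ca cb this; tauto)
    · have h1 := e1 a ha ca
      have h2 := e1 b hb cb
      have : a * b * v = v * (a * b) := by
        rw [mul_assoc, h2, ← mul_assoc, hza, mul_assoc, ← mul_assoc a v b, h1, mul_assoc, ← mul_assoc z, C.z_sq,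
          one_mul, mul_assoc]
      (clear * - m0 v a b ca cb this; (solve | simp only [*, true_or, or_true, and_self, true_and, and_true, not_false_eq_true] | tauto))
  have b4 := hmul n0 hn0 m0 hm0
  have b5 : n0 * v = v * n0 := by (clear * - b2 b3 b4; (solve | grind only | tauto))
  apply C.cen v hv
  intro m hm
  by_cases hc : ∃ k ∈ N0, ¬ cm R m k
  · have b6 := hB m hm hc
    have : m * v = v * m := by (clear * - b1 b5 b6; tauto)
    exact this.symm
  · push Not at hc
    have h2 : ¬ cm R (n0 * m) m0 := by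
      rw [cm_mul C T hn0 hm hm0]
      have := hc m0 hm0
      (clear * - h0 this; tauto)
    have b6 := hB (n0 * m) (mul_mem hn0 hm) ⟨m0, hm0, h2⟩
    have b7 := hmul n0 hn0 m hm
    have : m * v = v * m := by (clear * - b1 b5 b6 b7; (solve | grind only | tauto))
    exact this.symm

/-- **the commutation form of the lifts is that of the elements** -/
theorem cm_iff_comm (C : CB P N0 z s ψ) (T : D8I Q z R) (tab : TabI N0 Q z R) (hn0 : n0 ∈ N0) (hm0 : m0 ∈ N0)
    (h0 : ¬ cm R n0 m0) {n m : G} (hn : n ∈ N0) (hm : m ∈ N0) : cm R n m ↔ n * m = m * n := by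
  have hcs : ∀ v ∈ zpowers s, ∀ k ∈ N0, k * v = v * k := by
    intro v hv k hk
    obtain ⟨i, rfl⟩ := mem_zpowers_iff.1 hv
    exact (Commute.zpow_right (C.s_cen k hk) i)
  constructor
  · intro h
    by_cases r1 : ∃ k ∈ N0, ¬ cm R n k
    · by_cases r2 : ∃ k ∈ N0, ¬ cm R m k
      · by_cases r3 : ∃ k ∈ N0, ¬ cm R (n * m) k
        · obtain ⟨k1, hk1, r1⟩ := r1
          obtain ⟨k2, hk2, r2⟩ := r2
          obtain ⟨k3, hk3, r3⟩ := r3
          have e1 := q_iff_sa C T tab hn hk1 r1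
          have e2 := q_iff_sa C T tab hm hk2 r2
          have e3 := q_iff_sa C T tab (mul_mem hn hm) hk3 r3
          rw [q_mul C hn hm, sa_mul C T hn hm, e1, e2] at e3
          (clear * - h e3; tauto)
        · push Not at r3
          have h1 := hcs _ (rad C T tab hn0 hm0 h0 (mul_mem hn hm) r3) m hm
          have h2 : m * n * m = n * m * m := by rw [mul_assoc]; exact h1
          exact (mul_right_cancel h2).symm
      · push Not at r2
        exact hcs _ (rad C T tab hn0 hm0 h0 hm r2) n hn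
    · push Not at r1
      exact (hcs _ (rad C T tab hn0 hm0 h0 hn r1) m hm).symm
  · intro h
    by_contra hc
    have h3 : ¬ cm R (n * m) m := by
      rw [cm_mul C T hn hm hm]
      have := cm_self T (nz C hm)
      (clear * - hc this; tauto)
    have e1 := q_iff_sa C T tab hn hm hc
    have e2 := q_iff_sa C T tab hm hn (fun h => hc (cm_symm h))
    have e3 := q_iff_sa C T tab (mul_mem hn hm) hm h3
    rw [q_mul C hn hm, sa_mul C T hn hm, e1, e2] at e3
    (clear * - h hc e3; tauto)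

end fin

end Cfsg.Agent.H64.Co3
end

-- part: H64/Co3/BC
section
/-!
# S1920: base change of endomorphisms and of a bilinear form (helper64)

`exists_bc` : `E : End_F V →+* End_K (K^n)` and `BK`, with the adjoint relations.
-/

set_option autoImplicit false

namespace Cfsg.Agent.H64.Co3

open Module Matrix

variable {F V : Type*} [Field F] [AddCommGroup V] [Module F V]

/-- the base change of an endomorphism -/
noncomputable def bcE {n : ℕ} (b : Basis (Fin n) F V) (K : Type*) [Field K] [Algebra F K] :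
    (V →ₗ[F] V) →+* ((Fin n → K) →ₗ[K] (Fin n → K)) :=
  ((Matrix.toLinAlgEquiv' : Matrix (Fin n) (Fin n) K ≃ₐ[K] ((Fin n → K) →ₗ[K] (Fin n → K))) :
    Matrix (Fin n) (Fin n) K →+* _).comp
   (((algebraMap F K).mapMatrix).comp
    ((LinearMap.toMatrixAlgEquiv b : (V →ₗ[F] V) ≃ₐ[F] Matrix (Fin n) (Fin n) F) : (V →ₗ[F] V) →+* _))

variable {n : ℕ} (b : Basis (Fin n) F V) (K : Type*) [Field K] [Algebra F K]

theorem bcE_apply (X : V →ₗ[F] V) (v : Fin n → K) :
    bcE b K X v = ((LinearMap.toMatrix b b X).map (algebraMap F K)) *ᵥ v := rfl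

theorem bcE_smul (c : F) (X : V →ₗ[F] V) : bcE b K (c • X) = algebraMap F K c • bcE b K X := by
  apply LinearMap.ext
  intro v
  rw [bcE_apply, LinearMap.smul_apply, bcE_apply, map_smul]
  rw [← smul_mulVec]
  congr 1
  ext i j
  simp [Matrix.map_apply]

theorem bcE_injective : Function.Injective (bcE b K) := by
  have i₁ : Function.Injective (LinearMap.toMatrixAlgEquiv b : (V →ₗ[F] V) → Matrix (Fin n) (Fin n) F) :=
    (LinearMap.toMatrixAlgEquiv b).injective
  have i₂ : Function.Injective ((algebraMap F K).mapMatrix : Matrix (Fin n) (Fin n) F → _) := by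
    intro x y hxy
    ext i j
    have h1 : algebraMap F K (x i j) = algebraMap F K (y i j) := congrFun (congrFun hxy i) j
    exact (algebraMap F K).injective h1
  have i₃ : Function.Injective (Matrix.toLinAlgEquiv' : Matrix (Fin n) (Fin n) K → _) :=
    Matrix.toLinAlgEquiv'.injective
  exact i₃.comp (i₂.comp i₁)

/-- the base change of a bilinear form -/
noncomputable def bcB (B : LinearMap.BilinForm F V) : LinearMap.BilinForm K (Fin n → K) :=
  Matrix.toBilin' ((LinearMap.BilinForm.toMatrix b B).map (algebraMap F K))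

theorem bcB_apply (B : LinearMap.BilinForm F V) (u v : Fin n → K) :
    bcB b K B u v = u ⬝ᵥ ((LinearMap.BilinForm.toMatrix b B).map (algebraMap F K)) *ᵥ v :=
  Matrix.toBilin'_apply' _ _ _

theorem bcB_symm {B : LinearMap.BilinForm F V} (hB : ∀ u v, B u v = B v u) (u v : Fin n → K) :
    bcB b K B u v = bcB b K B v u := by
  rw [bcB_apply, bcB_apply]
  set A := (LinearMap.BilinForm.toMatrix b B).map (algebraMap F K) with hA
  have h1 : Aᵀ = A := by
    ext i j
    rw [transpose_apply, hA, Matrix.map_apply, Matrix.map_apply, LinearMap.BilinForm.toMatrix_apply,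
      LinearMap.BilinForm.toMatrix_apply, hB]
  calc u ⬝ᵥ A *ᵥ v = (A *ᵥ v) ⬝ᵥ u := dotProduct_comm _ _
    _ = v ⬝ᵥ (Aᵀ *ᵥ u) := by
        rw [mulVec_transpose, dotProduct_comm, dotProduct_comm v, dotProduct_mulVec]
    _ = v ⬝ᵥ A *ᵥ u := by rw [h1]

theorem bcB_nondeg {B : LinearMap.BilinForm F V} (hB : ∀ u, (∀ v, B u v = 0) → u = 0)
    (hs : ∀ u v, B u v = B v u) (u : Fin n → K) (hu : ∀ v, bcB b K B u v = 0) : u = 0 := by
  have h1 : B.Nondegenerate := by
    constructor
    · intro u hu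
      exact hB u hu
    · intro u hu
      exact hB u fun v => by rw [hs]; exact hu v
  have h2 : (LinearMap.BilinForm.toMatrix b B).det ≠ 0 := (LinearMap.BilinForm.nondegenerate_iff_det_ne_zero b).1 h1
  have h3 : ((LinearMap.BilinForm.toMatrix b B).map (algebraMap F K)).det ≠ 0 := by
    have : ((LinearMap.BilinForm.toMatrix b B).map (algebraMap F K)).det =
        algebraMap F K (LinearMap.BilinForm.toMatrix b B).det := ((algebraMap F K).map_det _).symm
    rw [this]
    intro h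
    exact h2 ((map_eq_zero _).1 h)
  apply Matrix.eq_zero_of_vecMul_eq_zero h3
  have h4 : ∀ v, (u ᵥ* ((LinearMap.BilinForm.toMatrix b B).map (algebraMap F K))) ⬝ᵥ v = 0 := by
    intro v
    rw [← dotProduct_mulVec, ← bcB_apply]
    exact hu v
  exact dotProduct_eq_zero _ h4

theorem bcB_adj {B : LinearMap.BilinForm F V} {M L : V →ₗ[F] V} {c : F} (h : ∀ u v, B (M u) v = c * B u (L v))
    (u v : Fin n → K) : bcB b K B (bcE b K M u) v = algebraMap F K c * bcB b K B u (bcE b K L v) := by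
  rw [bcB_apply, bcB_apply, bcE_apply, bcE_apply]
  set A := (LinearMap.BilinForm.toMatrix b B) with hA
  set X := LinearMap.toMatrix b b M with hX
  set Y := LinearMap.toMatrix b b L with hY
  have h1 : Xᵀ * A = c • (A * Y) := by
    rw [hX, hY, hA, ← LinearMap.BilinForm.toMatrix_compLeft, ← LinearMap.BilinForm.toMatrix_compRight]
    ext i j
    rw [Matrix.smul_apply, LinearMap.BilinForm.toMatrix_apply, LinearMap.BilinForm.toMatrix_apply, smul_eq_mul]
    exact h _ _
  have h2 : (X.map (algebraMap F K))ᵀ * A.map (algebraMap F K) =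
      algebraMap F K c • (A.map (algebraMap F K) * Y.map (algebraMap F K)) := by
    have h3 := congrArg (fun Z : Matrix (Fin n) (Fin n) F => Z.map (algebraMap F K)) h1
    beta_reduce at h3
    rw [Matrix.map_mul] at h3
    rw [transpose_map] at h3
    rw [h3, ← Matrix.map_mul]
    ext i j
    rw [Matrix.map_apply, Matrix.smul_apply, Matrix.smul_apply, Matrix.map_apply, smul_eq_mul, smul_eq_mul, map_mul]
  calc (X.map (algebraMap F K) *ᵥ u) ⬝ᵥ A.map (algebraMap F K) *ᵥ v
      = u ⬝ᵥ ((X.map (algebraMap F K))ᵀ * A.map (algebraMap F K)) *ᵥ v := by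
        rw [← mulVec_mulVec, dotProduct_mulVec u, vecMul_transpose]
    _ = _ := by
        rw [h2, smul_mulVec, dotProduct_smul, smul_eq_mul, mulVec_mulVec]

end Cfsg.Agent.H64.Co3
end

-- part: H754/Co3/Five
section
/-!
# S1920: elements of order 5 (helper754)

* `c5`, `u4` : a 5-cycle and an odd permutation with `u4 c5² = c5 u4`;
* `no_conj` : `c5^{±2}` is not conjugate to `c5^{±1}` by an even permutation;
* `no_five` : a finite group `D` with a homomorphism to `SL₂(k)`, `char k ≠ 5`, and `ψ : D → A₆`, `ker f ≤ ker ψ`: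
  5-elements `x, y` with `ψ x = c5`, `ψ y = c5²` or `c5³` have different traces;
* `five_part`, `exists_pair` : such elements exist in case B.
-/

set_option autoImplicit false

open Subgroup

namespace Cfsg.Agent.H754.Co3

open Cfsg.Agent.H13.Co3 Matrix

/-- the 5-cycle `0 → 1 → 2 → 3 → 4 → 0` -/
def c5 : Equiv.Perm (Fin 6) where
  toFun := ![1, 2, 3, 4, 0, 5]
  invFun := ![4, 0, 1, 2, 3, 5]
  left_inv := by decide
  right_inv := by decide

/-- the 4-cycle `i → 3 i` modulo 5 -/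
def u4 : Equiv.Perm (Fin 6) where
  toFun := ![0, 3, 1, 4, 2, 5]
  invFun := ![0, 2, 4, 1, 3, 5]
  left_inv := by decide
  right_inv := by decide

/-- the involution `i → -i` modulo 5 -/
def v2 : Equiv.Perm (Fin 6) where
  toFun := ![0, 4, 3, 2, 1, 5]
  invFun := ![0, 4, 3, 2, 1, 5]
  left_inv := by decide
  right_inv := by decide

theorem c5_pow : c5 ^ 5 = 1 := by decide

theorem sign_c5 : Equiv.Perm.sign c5 = 1 := by decide

theorem sign_u4 : Equiv.Perm.sign u4 = -1 := by decide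

theorem sign_v2 : Equiv.Perm.sign v2 = 1 := by decide

theorem u4_c5 : u4 * c5 ^ 2 = c5 * u4 := by decide

theorem u4_conj : u4 * c5 * u4⁻¹ = c5 ^ 3 := by decide

theorem v2_c5 : v2 * c5 * v2⁻¹ = c5⁻¹ := by decide

theorem c5_fix : ∀ b : Fin 6, c5 b = b → b = 5 := by decide

theorem c5_orb : ∀ b : Fin 6, b ≠ 5 → ∃ n : Fin 5, (c5 ^ (n : ℕ)) 0 = b := by decide

/-- the centralizer of `c5` -/
theorem cent_c5 {w : Equiv.Perm (Fin 6)} (h : w * c5 = c5 * w) : ∃ n : ℕ, w = c5 ^ n := by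
  have hw : ∀ (n : ℕ) (i : Fin 6), w ((c5 ^ n) i) = (c5 ^ n) (w i) := by
    intro n i
    have h1 : w * c5 ^ n = c5 ^ n * w := (show Commute w c5 from h).pow_right n
    exact Equiv.congr_fun h1 i
  have h5 : w 5 = 5 := by
    apply c5_fix
    have := hw 1 5
    rw [pow_one] at this
    rw [← this]
    rfl
  have h0 : w 0 ≠ 5 := by
    intro h
    have := w.injective (h.trans h5.symm)
    revert this
    decide
  obtain ⟨n, hn⟩ := c5_orb _ h0
  refine ⟨n, Equiv.ext fun i => ?_⟩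
  by_cases hi : i = 5
  · rw [hi, h5]
    have : ∀ m : ℕ, (c5 ^ m) 5 = 5 := by
      intro m
      induction m with
      | zero => rfl
      | succ m ih =>
        rw [pow_succ, Equiv.Perm.mul_apply]
        exact ih
    rw [this]
  · obtain ⟨j, hj⟩ := c5_orb i hi
    rw [← hj, hw, ← hn, ← Equiv.Perm.mul_apply, ← Equiv.Perm.mul_apply, ← pow_add, ← pow_add, add_comm]

theorem no_conj {π : Equiv.Perm (Fin 6)} (hπ : Equiv.Perm.sign π = 1) : π * c5 ^ 2 ≠ c5 * π := by
  intro h
  have h1 : (π * u4⁻¹) * c5 = c5 * (π * u4⁻¹) := by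
    have h2 : c5 = u4 * c5 ^ 2 * u4⁻¹ := by rw [u4_c5, mul_inv_cancel_right]
    calc π * u4⁻¹ * c5 = π * u4⁻¹ * (u4 * c5 ^ 2 * u4⁻¹) := by rw [← h2]
      _ = π * c5 ^ 2 * u4⁻¹ := by group
      _ = c5 * (π * u4⁻¹) := by rw [h, mul_assoc]
  obtain ⟨n, hn⟩ := cent_c5 h1
  have h2 := congrArg Equiv.Perm.sign hn
  rw [map_mul, map_inv, hπ, sign_u4, map_pow, sign_c5, one_pow, one_mul] at h2
  revert h2
  decide

/-- `c5^{±2}` is not conjugate to `c5^{±1}` by an even permutation -/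
theorem no_conj' {π y : Equiv.Perm (Fin 6)} (hπ : Equiv.Perm.sign π = 1) (hy : y = c5 ^ 2 ∨ y = c5 ^ 3) :
    π * y * π⁻¹ ≠ c5 ∧ π * y * π⁻¹ ≠ c5⁻¹ := by
  have key : ∀ π : Equiv.Perm (Fin 6), Equiv.Perm.sign π = 1 → π * c5 ^ 2 * π⁻¹ ≠ c5 ∧ π * c5 ^ 2 * π⁻¹ ≠ c5⁻¹ := by
    intro π hπ
    refine ⟨fun h => no_conj hπ (mul_inv_eq_iff_eq_mul.1 h), fun h => ?_⟩
    have h1 : Equiv.Perm.sign (v2 * π) = 1 := by rw [map_mul, sign_v2, hπ, one_mul]
    refine no_conj h1 ?_
    rw [← mul_inv_eq_iff_eq_mul]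
    calc v2 * π * c5 ^ 2 * (v2 * π)⁻¹ = v2 * (π * c5 ^ 2 * π⁻¹) * v2⁻¹ := by group
      _ = (v2 * c5 * v2⁻¹)⁻¹ := by rw [h]; group
      _ = c5 := by rw [v2_c5, inv_inv]
  rcases hy with rfl | rfl
  · exact key π hπ
  · have h3 : c5 ^ 3 = (c5 ^ 2)⁻¹ := by decide
    have h4 : π * c5 ^ 3 * π⁻¹ = (π * c5 ^ 2 * π⁻¹)⁻¹ := by rw [h3]; group
    rw [h4]
    refine ⟨fun h => (key π hπ).2 ?_, fun h => (key π hπ).1 ?_⟩
    · exact inv_eq_iff_eq_inv.1 h
    · exact inv_injective h

/-- **the lemma on 5-elements** -/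
theorem no_five {k : Type*} [Field k] (h5 : (5 : k) ≠ 0) {D : Type*} [Group D] [Finite D]
    (f : D →* _root_.Matrix.SpecialLinearGroup (Fin 2) k) (ψ : D →* Equiv.Perm (Fin 6)) (hf : ∀ d, f d = 1 → ψ d = 1)
    (h0 : ∀ d, Equiv.Perm.sign (ψ d) = 1) {x y : D} (hx5 : ∃ n, x ^ 5 ^ n = 1) (hy5 : ∃ n, y ^ 5 ^ n = 1)
    (htr : (f x).1.trace = (f y).1.trace) (hx : ψ x = c5) (hy : ψ y = c5 ^ 2 ∨ ψ y = c5 ^ 3) : False := by
  have hp5 : Fact (Nat.Prime 5) := ⟨Nat.prime_five⟩
  let K := AlgebraicClosure k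
  let ι : _root_.Matrix.SpecialLinearGroup (Fin 2) k →* _root_.Matrix.SpecialLinearGroup (Fin 2) K := SpecialLinearGroup.map (algebraMap k K)
  have hι : Function.Injective ι := by
    intro A B hAB
    apply Subtype.ext
    have h1 := congrArg Subtype.val hAB
    ext i j
    have h2 := congrFun (congrFun h1 i) j
    exact (algebraMap k K).injective h2
  let F : D →* _root_.Matrix.SpecialLinearGroup (Fin 2) K := ι.comp f
  have hF : ∀ d, F d = 1 → ψ d = 1 := fun d hd => hf d (hι (by rw [map_one]; exact hd))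
  have htrF : ∀ d, (F d).1.trace = algebraMap k K (f d).1.trace := by
    intro d
    rw [trace_fin_two, trace_fin_two, map_add]
    rfl
  have h5K : ((5 : ℕ) : K) ≠ 0 := by
    intro h
    apply h5
    apply (algebraMap k K).injective
    rw [map_zero, ← h]
    push_cast
    exact map_ofNat _ 5
  have hzp : ∀ g : D, (∃ n, g ^ 5 ^ n = 1) → IsPGroup 5 (zpowers g) := by
    rintro g ⟨n, hn⟩ ⟨w, hw⟩
    obtain ⟨j, rfl⟩ := mem_zpowers_iff.1 hw
    refine ⟨n, Subtype.ext ?_⟩
    change (g ^ j) ^ 5 ^ n = 1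
    rw [← zpow_natCast, ← _root_.zpow_mul, mul_comm, _root_.zpow_mul, zpow_natCast, hn, _root_.one_zpow]
  obtain ⟨P, hP⟩ := (hzp x hx5).exists_le_sylow
  obtain ⟨Q, hQ⟩ := (hzp y hy5).exists_le_sylow
  obtain ⟨d, hd⟩ := MulAction.exists_smul_eq D Q P
  have hxP : x ∈ P := hP (mem_zpowers x)
  have hyP : d * y * d⁻¹ ∈ P := by
    rw [← hd]
    have : y ∈ Q := hQ (mem_zpowers y)
    exact ⟨y, this, rfl⟩
  -- the common eigenvector
  have hfin : Finite ((P : Subgroup D).map F) := Finite.of_surjective _ (F.subgroupMap_surjective (P : Subgroup D))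
  have hPF : IsPGroup 5 ((P : Subgroup D).map F) := P.isPGroup'.map F
  obtain ⟨χ, v, hv, hχ, hev⟩ := exists_char (by norm_num) h5K hPF ((P : Subgroup D).map F).subtype
    Subtype.val_injective
  have hquad : ∀ t : ((P : Subgroup D).map F), χ t * χ t - (t.1.1).trace * χ t + 1 = 0 := by
    intro t
    set M : Matrix (Fin 2) (Fin 2) K := t.1.1 with hM
    have hMv : M *ᵥ v = χ t • v := hev t
    have hdet : M.det = 1 := t.1.2
    have hCH : M * M - M.trace • M + (1 : Matrix (Fin 2) (Fin 2) K) = 0 := by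
      rw [det_fin_two] at hdet
      ext i j
      fin_cases i <;> fin_cases j <;>
        simp only [Fin.zero_eta, Fin.mk_one, Fin.isValue, Matrix.add_apply, Matrix.sub_apply, Matrix.mul_apply,
          Fin.sum_univ_two, Matrix.smul_apply, smul_eq_mul, trace_fin_two, one_apply_eq, ne_eq, one_ne_zero,
          zero_ne_one, not_false_eq_true, one_apply_ne, add_zero, Matrix.zero_apply]
      · linear_combination -hdet
      · ring
      · ring
      · linear_combination -hdet
    have h1 := congrArg (fun A : Matrix (Fin 2) (Fin 2) K => A *ᵥ v) hCH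
    beta_reduce at h1
    rw [add_mulVec, sub_mulVec, ← mulVec_mulVec, smul_mulVec, hMv, mulVec_smul, hMv, one_mulVec, zero_mulVec,
      smul_smul, smul_smul, ← sub_smul] at h1
    have h2 : (χ t * χ t - M.trace * χ t + 1) • v = 0 := by
      rw [add_smul, one_smul]; exact h1
    exact (smul_eq_zero.1 h2).resolve_right hv
  let X : ((P : Subgroup D).map F) := ⟨F x, x, hxP, rfl⟩
  let Y : ((P : Subgroup D).map F) := ⟨F (d * y * d⁻¹), _, hyP, rfl⟩
  have htrXY : (X.1.1).trace = (Y.1.1).trace := by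
    change (F x).1.trace = (F (d * y * d⁻¹)).1.trace
    have h1 : (F (d * y * d⁻¹)).1 = (F d).1 * (F y).1 * (F d⁻¹).1 := by
      rw [map_mul, map_mul]; rfl
    have h2 : (F d⁻¹).1 * (F d).1 = 1 := by
      have : F d⁻¹ * F d = 1 := by rw [← map_mul, inv_mul_cancel, map_one]
      exact congrArg Subtype.val this
    rw [h1, Matrix.trace_mul_comm, ← Matrix.mul_assoc, h2, Matrix.one_mul, htrF, htrF, htr]
  have qX := hquad X
  have qY := hquad Y
  rw [← htrXY] at qY
  have hprod : (χ X - χ Y) * (χ X * χ Y - 1) = 0 := by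
    linear_combination χ Y * qX - χ X * qY
  have hfinal : F (d * y * d⁻¹) = F x ∨ F (d * y * d⁻¹) = (F x)⁻¹ := by
    rcases mul_eq_zero.1 hprod with h | h
    · left
      have := hχ (sub_eq_zero.1 h)
      exact (congrArg Subtype.val this).symm
    · right
      have h1 : χ (X * Y) = χ 1 := by rw [map_mul, map_one]; exact sub_eq_zero.1 h
      have h2 := hχ h1
      have h3 : Y = X⁻¹ := (inv_eq_of_mul_eq_one_right h2).symm
      exact congrArg Subtype.val h3
  have hn := no_conj' (h0 d) hy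
  rcases hfinal with h | h
  · apply hn.1
    have h1 : F (d * y * d⁻¹ * x⁻¹) = 1 := by rw [map_mul, h, map_inv, mul_inv_cancel]
    have h2 := hF _ h1
    rw [map_mul, map_inv, mul_inv_eq_one, hx] at h2
    rw [← h2, map_mul, map_mul, map_inv]
  · apply hn.2
    have h1 : F (d * y * d⁻¹ * x) = 1 := by rw [map_mul, h, inv_mul_cancel]
    have h2 := hF _ h1
    rw [map_mul, hx, mul_eq_one_iff_eq_inv] at h2
    rw [← h2, map_mul, map_mul, map_inv]

/-- the 5-part -/
theorem five_part {D : Type*} [Group D] [Finite D] (ψ : D →* Equiv.Perm (Fin 6)) {d : D} (h : ψ d = c5) :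
    ∃ m : ℕ, ψ (d ^ m) = c5 ∧ ∃ n, (d ^ m) ^ 5 ^ n = 1 := by
  have hp5 : Fact (Nat.Prime 5) := ⟨Nat.prime_five⟩
  obtain ⟨n, w, hw, hnw⟩ : ∃ n w : ℕ, ¬ 5 ∣ w ∧ orderOf d = 5 ^ n * w :=
    Nat.exists_eq_pow_mul_and_not_dvd (orderOf_pos d).ne' 5 (by norm_num)
  have hc : Nat.Coprime w 5 := ((Nat.Prime.coprime_iff_not_dvd Nat.prime_five).2 hw).symm
  obtain ⟨t, ht⟩ : ∃ t : ℕ, w * t ≡ 1 [MOD 5] := by
    obtain ⟨t, ht⟩ := Nat.exists_mul_mod_eq_one_of_coprime hc (by norm_num)
    exact ⟨t, by rw [Nat.ModEq, ht.2]⟩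
  refine ⟨w * t, ?_, n, ?_⟩
  · rw [map_pow, h]
    have h1 : c5 ^ (w * t) = c5 ^ 1 := by
      rw [pow_eq_pow_iff_modEq]
      have : orderOf c5 = 5 := orderOf_eq_prime c5_pow (by decide)
      rw [this]
      exact ht
    rw [h1, pow_one]
  · rw [← pow_mul]
    have : w * t * 5 ^ n = orderOf d * t := by rw [hnw]; ring
    rw [this, pow_mul, pow_orderOf_eq_one, one_pow]

variable {G : Type*} [Group G]
variable {P N0 : Subgroup G} {z s : G} {ψ : ↥(normalizer (P : Set G)) →* Equiv.Perm (Fin 6)}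

/-- conjugation by an element normalising `N0` preserves `C(N0)` -/
theorem conj_comm {r x : G} (hr : r ∈ normalizer (N0 : Set G)) (hx : ∀ n ∈ N0, x * n = n * x) :
    ∀ n ∈ N0, r * x * r⁻¹ * n = n * (r * x * r⁻¹) := by
  intro n hn
  have h1 : r⁻¹ * n * r ∈ N0 := by
    have h2 := (mem_normalizer_iff.1 (inv_mem hr) n).1 hn
    rwa [inv_inv] at h2
  have h3 := hx _ h1
  calc r * x * r⁻¹ * n = r * (x * (r⁻¹ * n * r)) * r⁻¹ := by group
    _ = r * ((r⁻¹ * n * r) * x) * r⁻¹ := by rw [h3]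
    _ = n * (r * x * r⁻¹) := by group

end Cfsg.Agent.H754.Co3
end

-- part: H64/Co3/C1
section
/-!
# S1920, E8-D8, the case where two lifts of elements of `N0` do not commute (helper64)
-/

set_option autoImplicit false

open Subgroup QuadraticMap

namespace Cfsg.Agent.H64.Co3

open Cfsg.Agent.LieClassical.OrthCore Cfsg.Agent.H13.Co3 Cfsg.Agent.H754.Co3 Module Matrix

variable {F V G : Type*} [Field F] [AddCommGroup V] [Module F V] [Group G] {Q : QuadraticForm F V}
  {P N0 : Subgroup G} {z s : G} {ψ : ↥(normalizer (P : Set G)) →* Equiv.Perm (Fin 6)}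
  {R : G → (V ≃ₗ[F] V) → Prop}

/-- the lifts of `C(N0)` -/
def DD (C : CB P N0 z s ψ) (T : D8I Q z R) : Subgroup (G × (V ≃ₗ[F] V)) where
  carrier := {d | (∀ n ∈ N0, d.1 * n = n * d.1) ∧ R d.1 d.2}
  one_mem' := ⟨fun n _ => by simp, T.R_one⟩
  mul_mem' := by
    rintro ⟨a, A⟩ ⟨b, B⟩ ⟨ha, hA⟩ ⟨hb, hB⟩
    refine ⟨fun n hn => ?_, T.mul hA hB⟩
    show a * b * n = n * (a * b)
    rw [mul_assoc, hb n hn, ← mul_assoc, ha n hn, mul_assoc]
  inv_mem' := by
    rintro ⟨a, A⟩ ⟨ha, hA⟩
    refine ⟨fun n hn => ?_, T.inv (ha z (C.PN C.zP)) hA⟩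
    show a⁻¹ * n = n * a⁻¹
    rw [inv_mul_eq_iff_eq_mul, ← mul_assoc, ha n hn, mul_inv_cancel_right]

/-- isometric lifts commuting with the lifts of `N0` -/
def DI (C : CB P N0 z s ψ) (T : D8I Q z R) : Subgroup (G × (V ≃ₗ[F] V)) where
  carrier := {d | d ∈ DD C T ∧ (∀ n ∈ N0, ∀ M, R n M → ∀ v, d.2 (M v) = M (d.2 v)) ∧ ∀ v, Q (d.2 v) = Q v}
  one_mem' := ⟨(DD C T).one_mem, fun _ _ _ _ _ => rfl, fun _ => rfl⟩
  mul_mem' := by
    rintro ⟨a, A⟩ ⟨b, B⟩ ⟨h1, h2, h3⟩ ⟨h1', h2', h3'⟩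
    refine ⟨(DD C T).mul_mem h1 h1', fun n hn M hM v => ?_, fun v => ?_⟩
    · show A (B (M v)) = M (A (B v))
      have e1 : B (M v) = M (B v) := h2' n hn M hM v
      rw [e1]
      exact h2 n hn M hM _
    · show Q (A (B v)) = Q v
      have e1 : Q (B v) = Q v := h3' v
      rw [← e1]
      exact h3 (B v)
  inv_mem' := by
    rintro ⟨a, A⟩ ⟨h1, h2, h3⟩
    refine ⟨(DD C T).inv_mem h1, fun n hn M hM v => ?_, fun v => ?_⟩
    · show A.symm (M v) = M (A.symm v)
      rw [LinearEquiv.symm_apply_eq]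
      have e1 : A (M (A.symm v)) = M (A (A.symm v)) := h2 n hn M hM _
      rw [e1, A.apply_symm_apply]
    · show Q (A.symm v) = Q v
      have e1 : Q (A (A.symm v)) = Q (A.symm v) := h3 _
      rw [← e1, A.apply_symm_apply]

theorem DI_le (C : CB P N0 z s ψ) (T : D8I Q z R) : DI C T ≤ DD C T := fun _ h => h.1

/-- elements over `C(N0)` commute with the lifts of `N0` up to scalars -/
theorem DD_comm (T : D8I Q z R) {g n : G} {L M : V ≃ₗ[F] V} (h : g * n = n * g)
    (hL : R g L) (hM : R n M) : ∃ c : F, c ≠ 0 ∧ ∀ v, L (M v) = c • M (L v) := by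
  have h1 := T.mul hL hM
  have h2 := T.mul hM hL
  rw [← h] at h2
  exact T.uniq h2 h1

/-- commutators are isometries commuting with the lifts of `N0` -/
theorem comm_mem_DI (C : CB P N0 z s ψ) (T : D8I Q z R) {d e : G × (V ≃ₗ[F] V)} (hd : d ∈ DD C T)
    (he : e ∈ DD C T) : d * e * d⁻¹ * e⁻¹ ∈ DI C T := by
  refine ⟨mul_mem (mul_mem (mul_mem hd he) (inv_mem hd)) (inv_mem he), fun n hn M hM v => ?_, fun v => ?_⟩
  · obtain ⟨c, hc, h1⟩ := DD_comm T (hd.1 n hn) hd.2 hM
    obtain ⟨c', hc', h2⟩ := DD_comm T (he.1 n hn) he.2 hM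
    have h1' : ∀ v, d.2.symm (M v) = c⁻¹ • M (d.2.symm v) := by
      intro v
      rw [LinearEquiv.symm_apply_eq, map_smul, h1, smul_smul, inv_mul_cancel₀ hc, one_smul, d.2.apply_symm_apply]
    have h2' : ∀ v, e.2.symm (M v) = c'⁻¹ • M (e.2.symm v) := by
      intro v
      rw [LinearEquiv.symm_apply_eq, map_smul, h2, smul_smul, inv_mul_cancel₀ hc', one_smul, e.2.apply_symm_apply]
    show d.2 (e.2 (d.2.symm (e.2.symm (M v)))) = M (d.2 (e.2 (d.2.symm (e.2.symm v))))
    rw [h2', map_smul, h1', map_smul, map_smul, map_smul, map_smul, h2, map_smul, h1]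
    rw [smul_smul, smul_smul, smul_smul]
    have : c'⁻¹ * c⁻¹ * c' * c = 1 := by field_simp
    rw [this, one_smul]
  · obtain ⟨μ, hμ, h1⟩ := T.sim hd.2
    obtain ⟨ν, hν, h2⟩ := T.sim he.2
    have h1' : ∀ v, Q (d.2.symm v) = μ⁻¹ * Q v := by
      intro v
      have := h1 (d.2.symm v)
      rw [d.2.apply_symm_apply] at this
      rw [this, inv_mul_cancel_left₀ hμ]
    have h2' : ∀ v, Q (e.2.symm v) = ν⁻¹ * Q v := by
      intro v
      have := h2 (e.2.symm v)
      rw [e.2.apply_symm_apply] at this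
      rw [this, inv_mul_cancel_left₀ hν]
    show Q (d.2 (e.2 (d.2.symm (e.2.symm v)))) = Q v
    rw [h1, h2, h1', h2']
    field_simp

/-- the homomorphism to `N_G(P)` -/
def toH (C : CB P N0 z s ψ) (T : D8I Q z R) : ↥(DD C T) →* ↥(normalizer (P : Set G)) where
  toFun d := ⟨d.1.1, C.key fun n hn => Or.inl (d.2.1 n hn)⟩
  map_one' := rfl
  map_mul' _ _ := rfl

theorem sign_toH (C : CB P N0 z s ψ) (T : D8I Q z R) (d : ↥(DD C T)) : Equiv.Perm.sign (ψ (toH C T d)) = 1 := by
  have hg := comm_le_AA C d.2.1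
  exact (C.inv_s (toH C T d) (normN C hg)).2 (d.2.1 s C.sN)

theorem onto_toH (C : CB P N0 z s ψ) (T : D8I Q z R) (π : Equiv.Perm (Fin 6)) (hπ : Equiv.Perm.sign π = 1) :
    ∃ d : ↥(DD C T), ψ (toH C T d) = π := by
  obtain ⟨h, hh, hπ'⟩ := C.even π hπ
  obtain ⟨M, hM⟩ := T.ex (h : G) (hh z (C.PN C.zP))
  exact ⟨⟨(h, M), hh, hM⟩, hπ'⟩

/-- the action on six points -/
def psiI (C : CB P N0 z s ψ) (T : D8I Q z R) : ↥(DI C T) →* Equiv.Perm (Fin 6) :=
  (ψ.comp (toH C T)).comp (inclusion (DI_le C T))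

theorem psiI_apply (C : CB P N0 z s ψ) (T : D8I Q z R) (d : ↥(DI C T)) :
    psiI C T d = ψ (toH C T ⟨d, DI_le C T d.2⟩) := rfl

theorem onto_DI (C : CB P N0 z s ψ) (T : D8I Q z R) (π : Equiv.Perm (Fin 6)) (hπ : Equiv.Perm.sign π = 1) :
    ∃ d : ↥(DI C T), psiI C T d = π := by
  obtain ⟨⟨d, hd⟩, h1⟩ := commutator_onto (ψ.comp (toH C T)) (sign_toH C T) (onto_toH C T) π hπ
  have h2 : _root_.commutator ↥(DD C T) ≤ (DI C T).comap (DD C T).subtype := by
    rw [commutator_def, commutator_le]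
    intro a _ b _
    exact comm_mem_DI C T a.2 b.2
  exact ⟨⟨d, h2 hd⟩, h1⟩

/-- the action of the commutator subgroup on six points -/
def phiI (C : CB P N0 z s ψ) (T : D8I Q z R) : ↥(_root_.commutator ↥(DI C T)) →* Equiv.Perm (Fin 6) :=
  (psiI C T).comp (_root_.commutator ↥(DI C T)).subtype

theorem phiI_apply (C : CB P N0 z s ψ) (T : D8I Q z R) (d : ↥(_root_.commutator ↥(DI C T))) :
    phiI C T d = psiI C T d := rfl

theorem sign_psiI (C : CB P N0 z s ψ) (T : D8I Q z R) (d : ↥(DI C T)) : Equiv.Perm.sign (psiI C T d) = 1 := by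
  rw [psiI_apply]
  exact sign_toH C T _

theorem onto_phiI (C : CB P N0 z s ψ) (T : D8I Q z R) (π : Equiv.Perm (Fin 6)) (hπ : Equiv.Perm.sign π = 1) :
    ∃ d, phiI C T d = π := by
  obtain ⟨d, hd⟩ := commutator_onto (psiI C T) (sign_psiI C T) (onto_DI C T) π hπ
  exact ⟨d, by rw [phiI_apply]; exact hd⟩

theorem ker_phiI (C : CB P N0 z s ψ) (T : D8I Q z R) (d : ↥(_root_.commutator ↥(DI C T)))
    (h : ((d : ↥(DI C T)) : G × (V ≃ₗ[F] V)).2 = 1) : phiI C T d = 1 := by
  rw [phiI_apply, psiI_apply]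
  have h5 : R ((d : ↥(DI C T)) : G × (V ≃ₗ[F] V)).1 1 := by
    have h6 := (d : ↥(DI C T)).2.1.2
    rwa [h] at h6
  have hgN : ((d : ↥(DI C T)) : G × (V ≃ₗ[F] V)).1 ∈ N0 := by
    rcases (T.one _).1 h5 with h | h
    · rw [h]; exact N0.one_mem
    · rw [h]; exact C.PN C.zP
  exact C.psi_N _ hgN

/-- the group of isometric lifts is normalised by the lifts of `N(N0)` -/
theorem conj_mem_DI (C : CB P N0 z s ψ) (T : D8I Q z R) {r : G} {M : V ≃ₗ[F] V} (hr : r ∈ normalizer (N0 : Set G))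
    (hrz : r * z = z * r) (hM : R r M) {d : G × (V ≃ₗ[F] V)} (hd : d ∈ DI C T) :
    (r, M) * d * (r, M)⁻¹ ∈ DI C T := by
  have hMi := T.inv hrz hM
  have hr' : r⁻¹ ∈ normalizer (N0 : Set G) := inv_mem hr
  refine ⟨⟨conj_comm hr hd.1.1, T.mul (T.mul hM hd.1.2) hMi⟩, fun n hn L hL v => ?_, fun v => ?_⟩
  · have hn' : r⁻¹ * n * r ∈ N0 := by
      have h1 := (mem_normalizer_iff.1 hr' n).1 hn
      rwa [inv_inv] at h1
    have h2 := hd.2.1 _ hn' _ (T.mul (T.mul hMi hL) hM) (M.symm v)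
    have h3 : d.2 (M.symm (L (M (M.symm v)))) = M.symm (L (M (d.2 (M.symm v)))) := h2
    show M (d.2 (M.symm (L v))) = L (M (d.2 (M.symm v)))
    rw [M.apply_symm_apply] at h3
    rw [h3, M.apply_symm_apply]
  · obtain ⟨μ, hμ, h1⟩ := T.sim hM
    show Q (M (d.2 (M.symm v))) = Q v
    rw [h1, hd.2.2, ← h1, M.apply_symm_apply]

section rep

variable {b : Basis (Fin 16) F V} {K : Type*} [Field K] [Algebra F K]

/-- the representation over `K` -/
noncomputable def rho (G : Type*) [Group G] (b : Basis (Fin 16) F V) (K : Type*) [Field K] [Algebra F K] :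
    G × (V ≃ₗ[F] V) →* ((Fin 16 → K) →ₗ[K] (Fin 16 → K)) :=
  ((bcE b K).toMonoidHom.comp LinearEquiv.automorphismGroup.toLinearMapMonoidHom).comp (MonoidHom.snd G (V ≃ₗ[F] V))

theorem rho_apply (d : G × (V ≃ₗ[F] V)) : rho G b K d = bcE b K (d.2 : V →ₗ[F] V) := rfl

theorem rho_rel {d e : G × (V ≃ₗ[F] V)} {c : F} (h : ∀ v, d.2 (e.2 v) = c • e.2 (d.2 v)) (u : Fin 16 → K) :
    rho G b K d (rho G b K e u) = algebraMap F K c • rho G b K e (rho G b K d u) := by
  have h1 : (d.2 : V →ₗ[F] V) * (e.2 : V →ₗ[F] V) = c • ((e.2 : V →ₗ[F] V) * (d.2 : V →ₗ[F] V)) := by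
    apply LinearMap.ext
    intro v
    exact h v
  have h2 := congrArg (bcE b K) h1
  rw [map_mul, bcE_smul, map_mul] at h2
  exact LinearMap.congr_fun h2 u

theorem rho_comm {d e : G × (V ≃ₗ[F] V)} (h : ∀ v, d.2 (e.2 v) = e.2 (d.2 v)) (u : Fin 16 → K) :
    rho G b K d (rho G b K e u) = rho G b K e (rho G b K d u) := by
  have h1 := rho_rel (b := b) (K := K) (d := d) (e := e) (c := 1) (fun v => by rw [h, one_smul]) u
  rwa [map_one, one_smul] at h1

theorem rho_anti {d e : G × (V ≃ₗ[F] V)} (h : ∀ v, d.2 (e.2 v) = - e.2 (d.2 v)) (u : Fin 16 → K) :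
    rho G b K d (rho G b K e u) = - rho G b K e (rho G b K d u) := by
  have h1 := rho_rel (b := b) (K := K) (d := d) (e := e) (c := -1) (fun v => by rw [h, neg_one_smul]) u
  rwa [map_neg, map_one, neg_one_smul] at h1

theorem rho_sq {d : G × (V ≃ₗ[F] V)} {c : F} {γ : K} (hγ : algebraMap F K c = γ * γ) (h : ∀ v, d.2 (d.2 v) = c • v)
    (u : Fin 16 → K) : rho G b K d (rho G b K d u) = (γ * γ) • u := by
  have h1 : (d.2 : V →ₗ[F] V) * (d.2 : V →ₗ[F] V) = c • 1 := by
    apply LinearMap.ext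
    intro v
    exact h v
  have h2 := congrArg (bcE b K) h1
  rw [map_mul, bcE_smul, map_one, hγ] at h2
  exact LinearMap.congr_fun h2 u

theorem rho_iso (T : D8I Q z R) {d : G × (V ≃ₗ[F] V)} (h : ∀ v, Q (d.2 v) = Q v) (u v : Fin 16 → K) :
    bcB b K (polarBilin Q) (rho G b K d u) (rho G b K d v) = bcB b K (polarBilin Q) u v := by
  have h1 : ∀ u v, polarBilin Q ((d.2 : V →ₗ[F] V) u) v = 1 * polarBilin Q u ((d⁻¹.2 : V →ₗ[F] V) v) := by
    intro u v
    rw [one_mul]
    show polar Q (d.2 u) v = polar Q u (d.2.symm v)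
    obtain ⟨w, rfl⟩ := d.2.surjective v
    rw [d.2.symm_apply_apply, polar_of_sim (μ := 1) (fun v => by rw [h, one_mul]), one_mul]
  rw [rho_apply, bcB_adj b K h1, map_one, one_mul, ← rho_apply (G := G) (b := b) (K := K) d,
    ← rho_apply (G := G) (b := b) (K := K) d⁻¹, app_inv]

end rep

/-- **the homomorphism to `SL₂`** -/
theorem exists_f [FiniteDimensional F V] [Finite G] (C : CB P N0 z s ψ) (T : D8I Q z R)
    (tab : TabI N0 Q z R) {n0 m0 : G} (hn0 : n0 ∈ N0) (hm0 : m0 ∈ N0) (h0 : ¬ cm R n0 m0)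
    (b : Basis (Fin 16) F V) (K : Type*) [Field K] [Algebra F K] [IsAlgClosed K] :
    ∃ f : ↥(_root_.commutator ↥(DI C T)) →* _root_.Matrix.SpecialLinearGroup (Fin 2) K,
      (∀ d : ↥(_root_.commutator ↥(DI C T)), f d = 1 → rho G b K ((d : ↥(DI C T)) : G × (V ≃ₗ[F] V)) = 1) ∧
      (∀ (d : ↥(_root_.commutator ↥(DI C T))) (l : K), l * l - (f d : Matrix (Fin 2) (Fin 2) K).trace * l + 1 = 0 →
        ∃ u, u ≠ 0 ∧ rho G b K ((d : ↥(DI C T)) : G × (V ≃ₗ[F] V)) u = l • u) ∧
      (∀ (d : ↥(_root_.commutator ↥(DI C T))) (l : K) u, u ≠ 0 → rho G b K ((d : ↥(DI C T)) : G × (V ≃ₗ[F] V)) u = l • u →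
        l * l - (f d : Matrix (Fin 2) (Fin 2) K).trace * l + 1 = 0) := by
  let ρ : G × (V ≃ₗ[F] V) →* ((Fin 16 → K) →ₗ[K] (Fin 16 → K)) := rho G b K
  let B : LinearMap.BilinForm K (Fin 16 → K) := bcB b K (polarBilin Q)
  -- the frame
  obtain ⟨a, ha, a', ha', x, h88⟩ := exists_frame C
  revert h88; rintro ⟨hx, x', hx', haa, haa', h88⟩
  revert h88; rintro ⟨hab, hax, hax', hax'', ha'x'⟩
  obtain ⟨Ms, hMs⟩ := T.ex s (nz C C.sN)
  obtain ⟨Ma, hMa⟩ := T.ex a (nz C ha)
  obtain ⟨Ma', hMa'⟩ := T.ex a' (nz C ha')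
  obtain ⟨Mx, hMx⟩ := T.ex x (nz C hx)
  obtain ⟨Mx', hMx'⟩ := T.ex x' (nz C hx')
  obtain ⟨ls, hls, hs2⟩ := exists_sq C T C.sN hMs
  obtain ⟨la, hla, ha2⟩ := exists_sq C T ha hMa
  obtain ⟨la', hla', ha2'⟩ := exists_sq C T ha' hMa'
  obtain ⟨σ, hσ⟩ := IsAlgClosed.exists_eq_mul_self (algebraMap F K ls)
  obtain ⟨α, hα⟩ := IsAlgClosed.exists_eq_mul_self (algebraMap F K la)
  obtain ⟨β, hβ⟩ := IsAlgClosed.exists_eq_mul_self (algebraMap F K la')
  have cm_of : ∀ {n m : G} {M L : V ≃ₗ[F] V}, n ∈ N0 → m ∈ N0 → R n M → R m L → n * m = m * n →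
      ∀ v, M (L v) = L (M v) := fun hn hm hM hL h =>
    (cm_iff T hM hL).1 ((cm_iff_comm C T tab hn0 hm0 h0 hn hm).2 h)
  have anti_of' : ∀ {n m : G} {M L : V ≃ₗ[F] V}, n ∈ N0 → m ∈ N0 → R n M → R m L → n * m = z * (m * n) →
      ∀ v, M (L v) = - L (M v) := fun {n m M L} hn hm hM hL h =>
    anti_of_not_cm C T hn hm (fun h' => by
      have h1 := (cm_iff_comm C T tab hn0 hm0 h0 hn hm).1 h'
      rw [h1] at h
      exact C.z_ne (mul_eq_right.1 h.symm)) hM hL
  have h2K : (2 : K) ≠ 0 := by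
    intro h
    apply T.two
    apply (algebraMap F K).injective
    rw [map_zero, ← h, map_ofNat]
  have ne0 : ∀ {c : F} {γ : K}, c ≠ 0 → algebraMap F K c = γ * γ → γ ≠ 0 := by
    rintro c γ hc h rfl
    rw [mul_zero] at h
    exact hc ((map_eq_zero _).1 h)
  have hch : Chn ρ B (s, Ms) (a, Ma) (a', Ma') (x, Mx) (x', Mx') σ α β :=
    { two := h2K
      dim := by rw [finrank_pi, Fintype.card_fin]
      nd := fun u hu => bcB_nondeg b K (fun u hu => T.nondeg u hu) (fun u v => polar_comm Q u v) u hu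
      sym := fun u v => bcB_symm b K (fun u v => polar_comm Q u v) u v
      σ0 := ne0 hls hσ
      α0 := ne0 hla hα
      β0 := ne0 hla' hβ
      S2 := rho_sq hσ hs2
      A2 := rho_sq hα ha2
      A'2 := rho_sq hβ ha2'
      skew := fun u v => by
        have h1 := bcB_adj b K (B := polarBilin Q) (M := (Ms : V →ₗ[F] V)) (L := (Ms : V →ₗ[F] V)) (c := -1)
          (fun u v => by
            rw [neg_one_mul]
            exact sk_of_not_sa C T C.sN (not_sa_s C T tab hn0 hm0 h0) hMs u v) u v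
        rw [map_neg, map_one, neg_one_mul] at h1
        exact h1
      SA := rho_comm (cm_of ha C.sN hMa hMs (C.s_cen a ha))
      SA' := rho_comm (cm_of ha' C.sN hMa' hMs (C.s_cen a' ha'))
      SX := rho_comm (cm_of hx C.sN hMx hMs (C.s_cen x hx))
      SX' := rho_comm (cm_of hx' C.sN hMx' hMs (C.s_cen x' hx'))
      AA' := rho_comm (cm_of ha' ha hMa' hMa hab.symm)
      AX := rho_anti (anti_of' ha hx hMa hMx hax)
      A'X' := rho_anti (anti_of' ha' hx' hMa' hMx' ha'x')
      AX' := rho_comm (cm_of hx' ha hMx' hMa hax''.symm) }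
  have hiso : ∀ d ∈ DI C T, Iso ρ B (s, Ms) (a, Ma) (a', Ma') (x, Mx) (x', Mx') d := fun d hd =>
    { dS := rho_comm (hd.2.1 s C.sN Ms hMs)
      dA := rho_comm (hd.2.1 a ha Ma hMa)
      dA' := rho_comm (hd.2.1 a' ha' Ma' hMa')
      dX := rho_comm (hd.2.1 x hx Mx hMx)
      dX' := rho_comm (hd.2.1 x' hx' Mx' hMx')
      iso := rho_iso T hd.2.2 }
  -- the homomorphism to `SL₂`
  obtain ⟨f, hf1, hf2⟩ := exists_sl' (ρ.comp (DI C T).subtype) (W2 ρ (s, Ms) (a, Ma) (a', Ma') σ α β) hch.finrank_W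
    (fun d => Chn.W_inv (hiso d.1 d.2))
  refine ⟨f, fun d hd => ?_, fun d l hl => ?_, fun d l u hu0 hu => ?_⟩
  · exact hch.triv (hiso _ (d : ↥(DI C T)).2) (hf1 _ hd)
  · obtain ⟨u, -, hu0, hul⟩ := (hf2 d l).2 hl
    exact ⟨u, hu0, hul⟩
  · rcases hch.eigen (hiso _ (d : ↥(DI C T)).2) hu0 hu with ⟨v, hv, hv0, hvl⟩ | ⟨v, hv, hv0, hvl⟩
    · exact (hf2 d l).1 ⟨v, hv, hv0, hvl⟩
    · have h4 := (hf2 d l⁻¹).1 ⟨v, hv, hv0, hvl⟩
      have hl1 : l ≠ 0 := by
        rintro rfl
        apply hu0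
        rw [← app_inv ρ (d : ↥(DI C T)).1 u, hu, zero_smul, map_zero]
      have h5 : l * l * (l⁻¹ * l⁻¹ - (f d : Matrix (Fin 2) (Fin 2) K).trace * l⁻¹ + 1) = 0 := by rw [h4, mul_zero]
      have h6 : l * l⁻¹ = 1 := mul_inv_cancel₀ hl1
      linear_combination h5 - (l * l⁻¹ + 1 - (f d : Matrix (Fin 2) (Fin 2) K).trace * l) * h6

/-- conjugation by a lift of an element of `N(N0)` -/
def cjI (C : CB P N0 z s ψ) (T : D8I Q z R) {r : G} {M : V ≃ₗ[F] V} (hr : r ∈ normalizer (N0 : Set G))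
    (hrz : r * z = z * r) (hM : R r M) : ↥(DI C T) →* ↥(DI C T) where
  toFun d := ⟨(r, M) * d.1 * (r, M)⁻¹, conj_mem_DI C T hr hrz hM d.2⟩
  map_one' := Subtype.ext (by
    show (r, M) * 1 * (r, M)⁻¹ = 1
    rw [mul_one, mul_inv_cancel])
  map_mul' d e := Subtype.ext (by
    show (r, M) * (d.1 * e.1) * (r, M)⁻¹ = (r, M) * d.1 * (r, M)⁻¹ * ((r, M) * e.1 * (r, M)⁻¹)
    group)

theorem cjI_coe (C : CB P N0 z s ψ) (T : D8I Q z R) {r : G} {M : V ≃ₗ[F] V} (hr : r ∈ normalizer (N0 : Set G))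
    (hrz : r * z = z * r) (hM : R r M) (d : ↥(DI C T)) :
    (cjI C T hr hrz hM d : G × (V ≃ₗ[F] V)) = (r, M) * d * (r, M)⁻¹ := rfl

/-- a homomorphism maps the commutator subgroup to itself -/
theorem hom_comm {D : Type*} [Group D] (h : D →* D) (d : ↥(_root_.commutator D)) : h d ∈ _root_.commutator D := by
  have h1 : (_root_.commutator D).map h ≤ _root_.commutator D := by
    rw [commutator_def, map_commutator]
    exact commutator_mono le_top le_top
  exact h1 ⟨_, d.2, rfl⟩

theorem psiI_cj (C : CB P N0 z s ψ) (T : D8I Q z R) {r : G} {M : V ≃ₗ[F] V} (hr : r ∈ normalizer (N0 : Set G))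
    (hrP : r ∈ normalizer (P : Set G)) (hrz : r * z = z * r) (hM : R r M) (d : ↥(DI C T)) :
    psiI C T (cjI C T hr hrz hM d) = ψ ⟨r, hrP⟩ * psiI C T d * (ψ ⟨r, hrP⟩)⁻¹ := by
  rw [psiI_apply, psiI_apply, ← map_inv, ← map_mul, ← map_mul]
  rfl

theorem quad_ne {k : Type*} [Field k] {l t : k} (h : l * l - t * l + 1 = 0) : l ≠ 0 := by
  rintro rfl
  rw [mul_zero, mul_zero, sub_zero, zero_add] at h
  exact one_ne_zero h

theorem quad_eq {k : Type*} [Field k] {l t t' : k} (h : l * l - t * l + 1 = 0) (h' : l * l - t' * l + 1 = 0) :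
    t = t' := by
  have h4 : (t' - t) * l = 0 := by linear_combination h - h'
  exact (sub_eq_zero.1 ((mul_eq_zero.1 h4).resolve_right (quad_ne h))).symm

theorem quad_ex {k : Type*} [Field k] [IsAlgClosed k] (h2 : (2 : k) ≠ 0) (t : k) : ∃ l, l * l - t * l + 1 = 0 := by
  obtain ⟨e, he⟩ := IsAlgClosed.exists_eq_mul_self (t * t - 4)
  refine ⟨(t + e) / 2, ?_⟩
  field_simp
  linear_combination -he

/-- **Case `c ≠ 0`** : the lifts of the elements of `N0` all commute. -/
theorem d8_anti [Finite F] [FiniteDimensional F V] [Finite G] (C : CB P N0 z s ψ) (T : D8I Q z R)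
    (tab : TabI N0 Q z R) {n0 m0 : G} (hn0 : n0 ∈ N0) (hm0 : m0 ∈ N0) (h0 : ¬ cm R n0 m0) : False := by
  have hV : Finite V := Module.finite_of_finite F
  have hGL : Finite (V ≃ₗ[F] V) := DFunLike.finite _
  let b : Basis (Fin 16) F V := finBasisOfFinrankEq F V T.dim
  have h2K : (2 : AlgebraicClosure F) ≠ 0 := by
    intro h
    apply T.two
    apply (algebraMap F (AlgebraicClosure F)).injective
    rw [map_zero, ← h, map_ofNat]
  obtain ⟨f, hf1, hf2, hf3⟩ := exists_f C T tab hn0 hm0 h0 b (AlgebraicClosure F)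
  have hker : ∀ d, f d = 1 → phiI C T d = 1 := by
    intro d hd
    apply ker_phiI
    have h3 : (((d : ↥(DI C T)) : G × (V ≃ₗ[F] V)).2 : V →ₗ[F] V) = 1 := by
      apply bcE_injective b (AlgebraicClosure F)
      rw [map_one]
      exact hf1 d hd
    exact LinearEquiv.toLinearMap_injective h3
  have hsign : ∀ d, Equiv.Perm.sign (phiI C T d) = 1 := fun d => by
    rw [phiI_apply]; exact sign_psiI C T _
  by_cases h3 : (3 : AlgebraicClosure F) = 0
  · -- characteristic 3: the pair `x, r x r⁻¹`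
    have h5 : (5 : AlgebraicClosure F) ≠ 0 := by
      intro h5
      apply h2K
      have : (2 : AlgebraicClosure F) = 5 - 3 := by norm_num
      rw [this, h5, h3, sub_zero]
    obtain ⟨d, hd⟩ := onto_phiI C T c5 sign_c5
    obtain ⟨m, hm, n, hmn⟩ := five_part (phiI C T) hd
    set y := d ^ m with hy
    obtain ⟨r, -, hr, hrN, hrψ, hrs⟩ := conj_s C (π := u4) (by rw [sign_u4]; decide)
    have hrz : r * z = z * r := C.z_cen r hr
    obtain ⟨Mr, hMr⟩ := T.ex r hrz
    set cj := cjI C T hrN hrz hMr with hcj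
    set w : ↥(_root_.commutator ↥(DI C T)) := ⟨cj y, hom_comm cj y⟩ with hw
    have hw5 : ∃ n, w ^ 5 ^ n = 1 := by
      refine ⟨n, Subtype.ext ?_⟩
      rw [SubmonoidClass.coe_pow, OneMemClass.coe_one, hw]
      show (cj y) ^ 5 ^ n = 1
      rw [← map_pow, ← SubmonoidClass.coe_pow, hmn, OneMemClass.coe_one, map_one]
    have hφw : phiI C T w = c5 ^ 3 := by
      rw [phiI_apply, hw]
      show psiI C T (cj y) = _
      rw [hcj, psiI_cj C T hrN hr hrz hMr, ← phiI_apply, hm, hrψ, u4_conj]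
    have htr : (f y).1.trace = (f w).1.trace := by
      obtain ⟨l, h1⟩ := quad_ex h2K (f y).1.trace
      obtain ⟨u, hu0, hul⟩ := hf2 y l h1
      have h2 : rho G b (AlgebraicClosure F) ((w : ↥(DI C T)) : G × (V ≃ₗ[F] V))
          (rho G b (AlgebraicClosure F) (r, Mr) u) = l • rho G b (AlgebraicClosure F) (r, Mr) u := by
        have e1 : ((w : ↥(DI C T)) : G × (V ≃ₗ[F] V)) = (r, Mr) * ((y : ↥(DI C T)) : G × (V ≃ₗ[F] V)) * (r, Mr)⁻¹ := by
          rw [hw]
          exact cjI_coe C T hrN hrz hMr y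
        rw [e1, ← app_mul, ← app_mul, app_inv, hul, map_smul]
      have h3 : rho G b (AlgebraicClosure F) (r, Mr) u ≠ 0 := by
        intro h3
        apply hu0
        rw [← app_inv (rho G b (AlgebraicClosure F)) (r, Mr) u, h3, map_zero]
      exact quad_eq h1 (hf3 w l _ h3 h2)
    exact no_five h5 f (phiI C T) hker hsign ⟨n, hmn⟩ hw5 htr hm (Or.inr hφw)
  · exact no_A6 h3 f (phiI C T) hker (onto_phiI C T)

end Cfsg.Agent.H64.Co3
end
end

-- part: H375/C3/LinPSL
section
set_option linter.all false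
open scoped Cfsg.Agent.FastGrp

/-!
# S1920, PSL: the linear lift of `PSL_n(F)` (helper375)
-/

set_option autoImplicit false

open Subgroup Module

namespace Cfsg.Agent.H375.C3

open Cfsg.Agent.H415.C3

/-- `SL(V)` in `GL(V)` -/
noncomputable def slV (F : Type*) [Field F] (V : Type*) [AddCommGroup V] [Module F V] : Subgroup (V ≃ₗ[F] V) :=
  (LinearEquiv.det : (V ≃ₗ[F] V) →* Fˣ).ker

theorem mem_slV {F : Type*} [Field F] {V : Type*} [AddCommGroup V] [Module F V] {g : V ≃ₗ[F] V} :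
    g ∈ slV F V ↔ LinearMap.det (g : V →ₗ[F] V) = 1 := by
  unfold slV
  rw [MonoidHom.mem_ker, ← Units.val_inj, LinearEquiv.coe_det, Units.val_one]

/-- **The linear lift of `PSL_n(F)`.** -/
theorem exists_lin {F : Type*} [Field F] {n : ℕ} {G : Type*} [Group G]
    (e : G ≃* Matrix.ProjectiveSpecialLinearGroup (Fin n) F) :
    ∃ π : ↥(slV F (Fin n → F)) →* G, Lin (slV F (Fin n → F)) π := by
  classical
  let φ : Matrix.SpecialLinearGroup (Fin n) F →* ↥(slV F (Fin n → F)) :=
    (Matrix.SpecialLinearGroup.toLin' : Matrix.SpecialLinearGroup (Fin n) F →* _).codRestrict (slV F (Fin n → F)) fun A => by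
      rw [mem_slV]
      have h1 : ((Matrix.SpecialLinearGroup.toLin' A : (Fin n → F) ≃ₗ[F] (Fin n → F)) : (Fin n → F) →ₗ[F] (Fin n → F)) =
          Matrix.toLin' (A : Matrix (Fin n) (Fin n) F) := rfl
      rw [h1, LinearMap.det_toLin', A.2]
  have hφ : ∀ A, ((φ A : (Fin n → F) ≃ₗ[F] (Fin n → F)) : (Fin n → F) →ₗ[F] (Fin n → F)) =
      Matrix.toLin' (A : Matrix (Fin n) (Fin n) F) := fun A => rfl
  have hbij : Function.Bijective φ := by
    constructor
    · intro A B h
      refine Subtype.ext (Matrix.toLin'.injective ?_)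
      rw [← hφ, ← hφ, h]
    · rintro ⟨g, hg⟩
      rw [mem_slV] at hg
      have hd : (LinearMap.toMatrix' (g : (Fin n → F) →ₗ[F] (Fin n → F))).det = 1 := by
        rw [LinearMap.det_toMatrix', hg]
      let B : Matrix.SpecialLinearGroup (Fin n) F := ⟨LinearMap.toMatrix' (g : (Fin n → F) →ₗ[F] (Fin n → F)), hd⟩
      refine ⟨B, Subtype.ext (LinearEquiv.toLinearMap_injective ((hφ B).trans ?_))⟩
      exact Matrix.toLin'_toMatrix' _
  let Φ : Matrix.SpecialLinearGroup (Fin n) F ≃* ↥(slV F (Fin n → F)) := MulEquiv.ofBijective φ hbij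
  refine ⟨(e.symm.toMonoidHom.comp (QuotientGroup.mk' (center (Matrix.SpecialLinearGroup (Fin n) F)))).comp Φ.symm.toMonoidHom, ?_, ?_⟩
  · intro g
    obtain ⟨A, hA⟩ := QuotientGroup.mk'_surjective _ (e g)
    refine ⟨Φ A, ?_⟩
    change e.symm (QuotientGroup.mk' _ (Φ.symm (Φ A))) = g
    rw [MulEquiv.symm_apply_apply, hA, MulEquiv.symm_apply_apply]
  · intro g
    obtain ⟨A, rfl⟩ := Φ.surjective g
    have h1 : ((e.symm.toMonoidHom.comp (QuotientGroup.mk' (center (Matrix.SpecialLinearGroup (Fin n) F)))).comp Φ.symm.toMonoidHom)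
        (Φ A) = e.symm (QuotientGroup.mk' _ A) := by
      change e.symm (QuotientGroup.mk' _ (Φ.symm (Φ A))) = _
      rw [MulEquiv.symm_apply_apply]
    rw [h1, EmbeddingLike.map_eq_one_iff, ← MonoidHom.mem_ker, QuotientGroup.ker_mk',
      Matrix.SpecialLinearGroup.mem_center_iff]
    constructor
    · rintro ⟨c, -, hc⟩
      refine ⟨c, fun v => ?_⟩
      change (A : Matrix (Fin n) (Fin n) F).mulVec v = c • v
      rw [← hc, Matrix.scalar_apply, ← Matrix.smul_one_eq_diagonal, Matrix.smul_mulVec, Matrix.one_mulVec]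
    · rintro ⟨c, hc⟩
      have hc' : ∀ v, (A : Matrix (Fin n) (Fin n) F).mulVec v = c • v := hc
      have h2 : Matrix.scalar (Fin n) c = (A : Matrix (Fin n) (Fin n) F) := by
        refine Matrix.ext_of_mulVec_single fun i => ?_
        rw [hc', Matrix.scalar_apply, ← Matrix.smul_one_eq_diagonal, Matrix.smul_mulVec, Matrix.one_mulVec]
      refine ⟨c, ?_, h2⟩
      have h3 := A.2
      rw [← h2, Matrix.scalar_apply, Matrix.det_diagonal, Finset.prod_const, Finset.card_univ] at h3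
      exact h3

end Cfsg.Agent.H375.C3
end

-- part: H736/Co3/Rel
section
prune_inst 0x4f14047607562020000180502100000202000040200030000a000020003498c68a9432e4112202114129004402804006000100000402000000a000000000101000000000081080100a00088000080000000000000000000000000000000000000000000000
set_option linter.all false
open scoped Cfsg.Agent.FastGrp

/-!
# S1920: the relation "`M` represents `g` on the natural module of the subsystem" (helper736)
-/

set_option autoImplicit false
set_option linter.unusedSectionVars false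

namespace Cfsg.Agent.H736.Co3

open Cfsg.Lie Cfsg.Agent.ChevalleyStructure Cfsg.Agent.ChevalleyStructure.XColumns Matrix
open QuadraticMap
open Cfsg.Agent.LieClassical Cfsg.Agent.LieClassical.OrthCore Cfsg.Agent.LieClassical.OrthForms

universe u

/-! ### adjoint matrices for the split form -/

section

variable {m : ℕ} {F : Type u} [Field F]

/-- the adjoint of a matrix with respect to the split form -/
def st (A : Matrix (Fin m ⊕ Fin m) (Fin m ⊕ Fin m) F) : Matrix (Fin m ⊕ Fin m) (Fin m ⊕ Fin m) F :=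
  fun i j => A j.swap i.swap

theorem polar_eq (x y : Fin m ⊕ Fin m → F) : polar (plusForm m F) x y = ∑ i, x i * y i.swap := by
  rw [polar_plusForm, Fintype.sum_sum_type, ← Finset.sum_add_distrib]
  refine Finset.sum_congr rfl fun i _ => ?_
  rw [Sum.swap_inl, Sum.swap_inr, mul_comm (y (Sum.inl i))]

theorem sum_swap (f : Fin m ⊕ Fin m → F) : ∑ i : Fin m ⊕ Fin m, f i.swap = ∑ i, f i :=
  Fintype.sum_equiv (Equiv.sumComm _ _) _ _ fun _ => rfl

theorem polar_mulVec (A : Matrix (Fin m ⊕ Fin m) (Fin m ⊕ Fin m) F) (x y : Fin m ⊕ Fin m → F) :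
    polar (plusForm m F) (A *ᵥ x) y = polar (plusForm m F) x (st A *ᵥ y) := by
  rw [polar_eq, polar_eq]
  simp only [Matrix.mulVec, dotProduct, Finset.mul_sum, Finset.sum_mul]
  rw [Finset.sum_comm]
  refine Finset.sum_congr rfl fun i _ => ?_
  rw [← sum_swap]
  refine Finset.sum_congr rfl fun j _ => ?_
  simp only [st, Sum.swap_swap]
  ring

theorem polar_single (i : Fin m ⊕ Fin m) (x : Fin m ⊕ Fin m → F) :
    polar (plusForm m F) (Pi.single i 1) x = x i.swap := by
  rw [polar_eq, Finset.sum_eq_single i]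
  · rw [Pi.single_eq_same, one_mul]
  · intro b _ hb
    rw [Pi.single_eq_of_ne hb, zero_mul]
  · intro h; exact absurd (Finset.mem_univ _) h

theorem st_eq_neg_iff (A : Matrix (Fin m ⊕ Fin m) (Fin m ⊕ Fin m) F) :
    st A = -A ↔ ∀ x y, polar (plusForm m F) (A *ᵥ x) y = -polar (plusForm m F) x (A *ᵥ y) := by
  constructor
  · intro h x y
    rw [polar_mulVec, h, Matrix.neg_mulVec, polar_neg_right]
  · intro h
    ext i j
    have h1 := h (Pi.single i.swap 1) (Pi.single j 1)
    rw [polar_mulVec, polar_single, polar_single, Sum.swap_swap, Matrix.mulVec_single_one, Matrix.mulVec_single_one,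
      Matrix.col_apply, Matrix.col_apply] at h1
    exact h1

/-- the dual index -/
def opn (m i : ℕ) : ℕ := if i < m then i + m else i - m

variable [NeZero m]

theorem ix_opn {i : ℕ} (hi : i < m + m) : ix m (opn m i) = (ix m i).swap := by
  unfold ix opn
  by_cases h : i < m
  · rw [if_pos h, if_pos h, if_neg (by omega), Sum.swap_inl]
    congr 2
    omega
  · rw [if_neg h, if_neg h, if_pos (by omega), Sum.swap_inr]

theorem opn_lt {i : ℕ} (hi : i < m + m) : opn m i < m + m := by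
  unfold opn; split_ifs <;> omega

/-- `L` plus its adjoint -/
def skw (m : ℕ) (L : Sp) : Sp := L ++ L.map fun a => (opn m a.2.1, opn m a.1, a.2.2)

theorem st_add (A B : Matrix (Fin m ⊕ Fin m) (Fin m ⊕ Fin m) F) : st (A + B) = st A + st B := rfl

theorem st_smul (c : F) (A : Matrix (Fin m ⊕ Fin m) (Fin m ⊕ Fin m) F) : st (c • A) = c • st A := rfl

theorem st_single (i j : Fin m ⊕ Fin m) (c : F) : st (Matrix.single i j c) = Matrix.single j.swap i.swap c := by
  ext a b
  rw [st, Matrix.single_apply, Matrix.single_apply]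
  congr 1
  rw [eq_iff_iff, and_comm, ← Sum.swap_leftInverse.injective.eq_iff (a := j), ← Sum.swap_leftInverse.injective.eq_iff (a := i),
    Sum.swap_swap, Sum.swap_swap]

theorem sm_skw {L : Sp} (hL : wf m L = true) : sm m F (skw m L) = sm m F L + st (sm m F L) := by
  rw [skw, sm_append]
  congr 1
  induction L with
  | nil => rfl
  | cons a L ih =>
    have h1 := wf_iff.1 hL
    have h2 : wf m L = true := wf_iff.2 fun x hx => h1 x (List.mem_cons_of_mem _ hx)
    rw [List.map_cons, sm_cons, sm_cons, ih h2, st_add, st_single, ix_opn (h1 a List.mem_cons_self).1,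
      ix_opn (h1 a List.mem_cons_self).2]

end

/-! ### the relation -/

section

/-- the natural module -/
abbrev VT (T : Tb) (F : Type u) : Type u := Fin T.m ⊕ Fin T.m → F

variable (T : Tb) [NeZero T.m] (D : ChevalleyDatum) (F : Type u) [Field F]

/-- `M` represents `g` -/
def Rl (z g : GL D.Idx F) (M : VT T F ≃ₗ[F] VT T F) : Prop :=
  g * z = z * g ∧ ∀ v ∈ Lp T D F, ∀ x, Th T D F ((g : Matrix D.Idx D.Idx F) *ᵥ v) *ᵥ (M x) = M (Th T D F v *ᵥ x)

variable {T D F} {z : GL D.Idx F} (hz : ∀ v, (z : Matrix D.Idx D.Idx F) *ᵥ v = v ↔ v ∈ Lp T D F)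

include hz

theorem Rl.mem {g : GL D.Idx F} (h : g * z = z * g) {v : D.Idx → F} (hv : v ∈ Lp T D F) :
    (g : Matrix D.Idx D.Idx F) *ᵥ v ∈ Lp T D F := by
  rw [← hz, Matrix.mulVec_mulVec, ← Units.val_mul, ← h, Units.val_mul, ← Matrix.mulVec_mulVec, (hz v).2 hv]

theorem Rl.mul {g h : GL D.Idx F} {M N : VT T F ≃ₗ[F] VT T F} (hg : Rl T D F z g M) (hh : Rl T D F z h N) :
    Rl T D F z (g * h) (M * N) := by
  refine ⟨by rw [mul_assoc, hh.1, ← mul_assoc, hg.1, mul_assoc], fun v hv x => ?_⟩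
  rw [Units.val_mul, ← Matrix.mulVec_mulVec]
  have h1 := hg.2 _ (Rl.mem hz hh.1 hv) (N x)
  rw [hh.2 v hv x] at h1
  exact h1

theorem Rl.inv {g : GL D.Idx F} {M : VT T F ≃ₗ[F] VT T F} (hg : Rl T D F z g M) : Rl T D F z g⁻¹ M⁻¹ := by
  have h1 : g⁻¹ * z = z * g⁻¹ := by
    rw [inv_mul_eq_iff_eq_mul, ← mul_assoc, hg.1, mul_assoc, mul_inv_cancel, mul_one]
  refine ⟨h1, fun v hv x => ?_⟩
  have h2 := hg.2 _ (Rl.mem hz h1 hv) (M⁻¹ x)
  rw [Matrix.mulVec_mulVec, ← Units.val_mul, mul_inv_cancel, Units.val_one, Matrix.one_mulVec] at h2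
  have h3 : M (M⁻¹ x) = x := M.apply_symm_apply x
  rw [h3] at h2
  have h4 := congrArg M.symm h2
  rw [LinearEquiv.symm_apply_apply] at h4
  exact h4.symm

omit hz in
theorem Rl.one : Rl T D F z 1 1 :=
  ⟨by rw [one_mul, mul_one], fun v _ x => by rw [Units.val_one, Matrix.one_mulVec]; rfl⟩

omit hz in
theorem Rl.scal {g : GL D.Idx F} {M L : VT T F ≃ₗ[F] VT T F} {c : F} (hg : Rl T D F z g M) (h : ∀ x, L x = c • M x) :
    Rl T D F z g L :=
  ⟨hg.1, fun v hv x => by rw [h, h, Matrix.mulVec_smul, hg.2 v hv]⟩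

/-- the representing pairs, with a similitude -/
def RS : Subgroup (GL D.Idx F × (VT T F ≃ₗ[F] VT T F)) where
  carrier := {p | Rl T D F z p.1 p.2 ∧ ∃ μ : F, μ ≠ 0 ∧ ∀ x, plusForm T.m F (p.2 x) = μ * plusForm T.m F x}
  one_mem' := ⟨Rl.one, 1, one_ne_zero, fun x => (one_mul _).symm⟩
  mul_mem' := by
    rintro ⟨g, M⟩ ⟨h, N⟩ ⟨h1, μ, h2, h3⟩ ⟨h4, ν, h5, h6⟩
    refine ⟨Rl.mul hz h1 h4, μ * ν, mul_ne_zero h2 h5, fun x => ?_⟩
    show plusForm T.m F (M (N x)) = _
    rw [mul_assoc, ← h6, ← h3]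
  inv_mem' := by
    rintro ⟨g, M⟩ ⟨h1, μ, h2, h3⟩
    refine ⟨Rl.inv hz h1, μ⁻¹, inv_ne_zero h2, fun x => ?_⟩
    have h4 := h3 (M⁻¹ x)
    have h5 : M (M⁻¹ x) = x := M.apply_symm_apply x
    rw [h5] at h4
    show plusForm T.m F (M⁻¹ x) = _
    rw [h4, inv_mul_cancel_left₀ h2]

end

/-! ### the root elements -/

section

variable {n : Type*} [Fintype n] [DecidableEq n] {F : Type u} [Field F]

/-- the map `x ↦ x + a E x` -/
def tv (E : Matrix n n F) (hE : E * E = 0) (a : F) : (n → F) ≃ₗ[F] (n → F) :=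
  LinearEquiv.ofLinearMap (Matrix.mulVecLin (1 + a • E)) (Matrix.mulVecLin (1 - a • E))
    (by
      rw [← Matrix.mulVecLin_mul, ← Matrix.mulVecLin_one]
      congr 1
      rw [add_mul, mul_sub, mul_sub, one_mul, mul_one, one_mul, smul_mul_smul_comm, hE, smul_zero]
      abel)
    (by
      rw [← Matrix.mulVecLin_mul, ← Matrix.mulVecLin_one]
      congr 1
      rw [sub_mul, mul_add, mul_add, one_mul, mul_one, one_mul, smul_mul_smul_comm, hE, smul_zero]
      abel)

theorem tv_apply {E : Matrix n n F} (hE : E * E = 0) (a : F) (x : n → F) : tv E hE a x = x + a • E *ᵥ x := by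
  show (1 + a • E) *ᵥ x = _
  rw [Matrix.add_mulVec, Matrix.one_mulVec, Matrix.smul_mulVec]

end

section

variable {m : ℕ} {F : Type u} [Field F]

theorem polar_self (x : Fin m ⊕ Fin m → F) : polar (plusForm m F) x x = 2 * plusForm m F x := by
  rw [polar, ← two_smul F x, QuadraticMap.map_smul, smul_eq_mul]; ring

theorem tv_iso (h2 : (2 : F) ≠ 0) {E : Matrix (Fin m ⊕ Fin m) (Fin m ⊕ Fin m) F} (hE : E * E = 0) (hs : st E = -E) (a : F)
    (x : Fin m ⊕ Fin m → F) : plusForm m F (tv E hE a x) = plusForm m F x := by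
  have h1 := (st_eq_neg_iff E).1 hs
  have h3 : polar (plusForm m F) x (a • E *ᵥ x) = 0 := by
    rw [polar_smul_right]
    have h4 := h1 x x
    rw [polar_comm (plusForm m F) (E *ᵥ x), eq_neg_iff_add_eq_zero, ← two_mul] at h4
    rw [(mul_eq_zero.1 h4).resolve_left h2, smul_zero]
  have h5 : plusForm m F (E *ᵥ x) = 0 := by
    have h6 := h1 x (E *ᵥ x)
    rw [Matrix.mulVec_mulVec, hE, Matrix.zero_mulVec, polar_zero_right, neg_zero, polar_self] at h6
    exact (mul_eq_zero.1 h6).resolve_left h2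
  rw [tv_apply, QuadraticMap.map_add (plusForm m F) x, h3, add_zero, QuadraticMap.map_smul, h5, smul_zero, add_zero]

end

section

variable {T : Tb} [NeZero T.m] {D : ChevalleyDatum} {F : Type u} [Field F]

theorem Tb.Ok.EE (O : T.Ok D) {r : ℕ} (hr : T.In r = true) : sm T.m F (T.E r) * sm T.m F (T.E r) = 0 := by
  rw [← sm_mulS F (O.wfE r) (O.wfE r), sm_zr F (wf_mulS (O.wfE r) (O.wfE r)) (O.sq r hr)]

theorem Tb.Ok.Rl_root (O : T.Ok D) {z g : GL D.Idx F} {r : ℕ} (hr : T.In r = true) {a : F}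
    (hg : (g : Matrix D.Idx D.Idx F) = D.x F r a) (hgz : g * z = z * g) : Rl T D F z g (tv _ (O.EE hr) a) := by
  refine ⟨hgz, fun v hv x => ?_⟩
  rw [hg, (O.root hr a hv).2]
  show ((1 + a • sm T.m F (T.E r)) * Th T D F v * (1 - a • sm T.m F (T.E r))) *ᵥ ((1 + a • sm T.m F (T.E r)) *ᵥ x) =
    (1 + a • sm T.m F (T.E r)) *ᵥ (Th T D F v *ᵥ x)
  have h1 : (1 - a • sm T.m F (T.E r)) * (1 + a • sm T.m F (T.E r)) = 1 := by
    rw [sub_mul, mul_add, mul_add, one_mul, mul_one, one_mul, smul_mul_smul_comm, O.EE hr, smul_zero]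
    abel
  rw [Matrix.mulVec_mulVec, mul_assoc, h1, mul_one, Matrix.mulVec_mulVec]

end

/-! ### the torus -/

section

variable {n : Type*} {F : Type u} [Field F]

/-- a diagonal map -/
def dm (d : n → F) (hd : ∀ i, d i ≠ 0) : (n → F) ≃ₗ[F] (n → F) where
  toFun x i := d i * x i
  map_add' x y := by funext i; exact mul_add _ _ _
  map_smul' c x := by
    funext i
    show d i * (c * x i) = c * (d i * x i)
    ring
  invFun x i := (d i)⁻¹ * x i
  left_inv x := by funext i; exact inv_mul_cancel_left₀ (hd i) _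
  right_inv x := by funext i; exact mul_inv_cancel_left₀ (hd i) _

theorem dm_apply {d : n → F} (hd : ∀ i, d i ≠ 0) (x : n → F) (i : n) : dm d hd x i = d i * x i := rfl

end

section

variable {m : ℕ} [NeZero m] {F : Type u} [Field F]

theorem sm_dm {L : Sp} {d : Fin m ⊕ Fin m → F} {χ : F} (h : ∀ a ∈ L, χ * d (ix m a.2.1) = d (ix m a.1))
    (x : Fin m ⊕ Fin m → F) (k : Fin m ⊕ Fin m) :
    χ * (sm m F L *ᵥ fun i => d i * x i) k = d k * (sm m F L *ᵥ x) k := by
  induction L with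
  | nil => simp
  | cons a L ih =>
    rw [sm_cons, Matrix.add_mulVec, Matrix.add_mulVec, Pi.add_apply, Pi.add_apply, mul_add, mul_add,
      ih fun b hb => h b (List.mem_cons_of_mem _ hb), Matrix.single_mulVec, Matrix.single_mulVec]
    congr 1
    by_cases hk : k = ix m a.1
    · subst hk
      rw [Function.update_self, Function.update_self, ← h a List.mem_cons_self]
      ring
    · rw [Function.update_of_ne hk, Function.update_of_ne hk, Pi.zero_apply, mul_zero, mul_zero]

/-- the number of an index -/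
def nx (m : ℕ) : Fin m ⊕ Fin m → ℕ := Sum.elim (fun i => i.val) (fun i => i.val + m)

theorem nx_ix {i : ℕ} (hi : i < m + m) : nx m (ix m i) = i := by
  unfold nx ix
  by_cases h : i < m
  · rw [if_pos h, Sum.elim_inl, Fin.val_ofNat, Nat.mod_eq_of_lt h]
  · rw [if_neg h, Sum.elim_inr, Fin.val_ofNat, Nat.mod_eq_of_lt (by omega)]
    omega

theorem nx_lt (i : Fin m ⊕ Fin m) : nx m i < m + m := by
  unfold nx
  rcases i with i | i
  · rw [Sum.elim_inl]; omega
  · rw [Sum.elim_inr]; omega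

theorem ix_nx (i : Fin m ⊕ Fin m) : ix m (nx m i) = i := by
  unfold nx ix
  rcases i with i | i
  · rw [Sum.elim_inl, if_pos i.2]
    congr 1
    exact Fin.ext (by rw [Fin.val_ofNat, Nat.mod_eq_of_lt i.2])
  · rw [Sum.elim_inr, if_neg (by omega)]
    congr 1
    exact Fin.ext (by rw [Fin.val_ofNat, Nat.add_sub_cancel, Nat.mod_eq_of_lt i.2])

end

/-! ### more checks -/

/-- an entry of the table of exponents -/
def exf (ex : List (List ℤ)) (k i : ℕ) : ℤ := (ex.getD k []).getD i 0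

/-- `L = ± (single i j - single j' i')` -/
def isA (m : ℕ) (L : Sp) (i j : ℕ) : Bool :=
  zr (L ++ [(i, j, -1), (opn m j, opn m i, 1)]) || zr (L ++ [(i, j, 1), (opn m j, opn m i, -1)])

/-- further facts on the tables -/
structure Tb.Ok2 (T : Tb) (D : ChevalleyDatum) (ex : List (List ℤ)) : Prop where
  dE : ∀ r, T.In r = true → ∀ a ∈ T.E r, ∀ k < D.rank, exf ex k a.1 = D.cartan k r + exf ex k a.2.1
  dH : ∀ i < D.rank, ∀ a ∈ T.H i, a.1 = a.2.1
  mu : ∀ k < D.rank, ∀ i < T.m, exf ex k i + exf ex k (i + T.m) = exf ex k 0 + exf ex k T.m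
  skE : ∀ r, T.In r = true → zr (skw T.m (T.E r)) = true
  skH : ∀ i < D.rank, zr (skw T.m (T.H i)) = true
  hit : ∀ i < T.m + T.m, ∀ j < T.m + T.m, i ≠ j → i ≠ opn T.m j → ∃ r, T.In r = true ∧ isA T.m (T.E r) i j = true

section

variable {T : Tb} [NeZero T.m] {D : ChevalleyDatum} {F : Type u} [Field F] {ex : List (List ℤ)}

theorem wf_skw {m : ℕ} [NeZero m] {L : Sp} (hL : wf m L = true) : wf m (skw m L) = true := by
  rw [skw, wf_append]
  refine ⟨hL, wf_iff.2 fun x hx => ?_⟩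
  obtain ⟨a, ha, rfl⟩ := List.mem_map.1 hx
  exact ⟨opn_lt (wf_iff.1 hL a ha).2, opn_lt (wf_iff.1 hL a ha).1⟩

theorem st_of_skw {m : ℕ} [NeZero m] {L : Sp} (hL : wf m L = true) (h : zr (skw m L) = true) : st (sm m F L) = -sm m F L := by
  have h1 := sm_zr F (wf_skw hL) h
  rw [sm_skw hL] at h1
  rw [eq_neg_iff_add_eq_zero, add_comm, h1]

theorem Tb.Ok2.stE (P : T.Ok2 D ex) (O : T.Ok D) {r : ℕ} (hr : T.In r = true) : st (sm T.m F (T.E r)) = -sm T.m F (T.E r) :=
  st_of_skw (O.wfE r) (P.skE r hr)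

theorem Tb.Ok2.stH (P : T.Ok2 D ex) (O : T.Ok D) {i : ℕ} (hi : i < D.rank) : st (sm T.m F (T.H i)) = -sm T.m F (T.H i) :=
  st_of_skw (O.wfH i) (P.skH i hi)

/-- the values of `Th` are skew -/
theorem Tb.Ok2.stTh (P : T.Ok2 D ex) (O : T.Ok D) {v : D.Idx → F} (hv : v ∈ Lp T D F) : st (Th T D F v) = -Th T D F v := by
  refine Lp_ind (P := fun v => st (Th T D F v) = -Th T D F v) ?_ ?_ ?_ ?_ ?_ hv
  · rw [map_zero, neg_zero]; rfl
  · intro v w h1 h2
    rw [map_add, st_add, h1, h2, neg_add]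
  · intro c v h1
    rw [map_smul, st_smul, h1, smul_neg]
  · intro i hi
    rw [Th_hv T D F hi, P.stH O hi]
  · intro s hs hsi
    rw [Th_ev T D F hs, st_smul, P.stE O hsi, smul_neg]

theorem diag_hv {t : Matrix D.Idx D.Idx F} {χ : Fin D.nroots → F}
    (ht : t = Matrix.diagonal (Sum.elim (fun _ => (1 : F)) χ)) (i : ℕ) : t *ᵥ hv D F i = hv D F i := by
  rw [ht]
  funext a
  rw [Matrix.mulVec_diagonal]
  rcases a with a | a
  · rw [Sum.elim_inl, one_mul]
  · rw [hv_inr, mul_zero]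

theorem diag_ev {t : Matrix D.Idx D.Idx F} {χ : ℕ → F}
    (ht : t = Matrix.diagonal (Sum.elim (fun _ => (1 : F)) (fun s : Fin D.nroots => χ s))) (s : ℕ) :
    t *ᵥ ev D F s = χ s • ev D F s := by
  rw [ht]
  funext a
  rw [Matrix.mulVec_diagonal, Pi.smul_apply, smul_eq_mul]
  rcases a with a | a
  · rw [Sum.elim_inl, ev_inl, mul_zero, mul_zero]
  · rw [Sum.elim_inr, ev_inr]
    by_cases h : a.val = s
    · rw [if_pos h, h]
    · rw [if_neg h, mul_zero, mul_zero]

/-- the elements of the torus are represented -/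
theorem Tb.Ok2.torus (P : T.Ok2 D ex) (O : T.Ok D) {z t : GL D.Idx F} {c : ℕ → F} (hc : ∀ i < D.rank, c i ≠ 0)
    (ht : (t : Matrix D.Idx D.Idx F) = Matrix.diagonal (Sum.elim (fun _ => (1 : F))
      (fun s : Fin D.nroots => ∏ i ∈ Finset.range D.rank, c i ^ D.cartan i s))) (htz : t * z = z * t) :
    ∃ M, Rl T D F z t M ∧ ∃ μ : F, μ ≠ 0 ∧ ∀ x, plusForm T.m F (M x) = μ * plusForm T.m F x := by
  set d : Fin T.m ⊕ Fin T.m → F := fun i => ∏ k ∈ Finset.range D.rank, c k ^ exf ex k (nx T.m i) with hd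
  set χ : ℕ → F := fun s => ∏ i ∈ Finset.range D.rank, c i ^ D.cartan i s with hχ
  have hd0 : ∀ i, d i ≠ 0 := fun i => Finset.prod_ne_zero_iff.2 fun k hk => zpow_ne_zero _ (hc k (Finset.mem_range.1 hk))
  refine ⟨dm d hd0, ⟨htz, fun v hv => ?_⟩, ∏ k ∈ Finset.range D.rank, c k ^ (exf ex k 0 + exf ex k T.m),
    Finset.prod_ne_zero_iff.2 fun k hk => zpow_ne_zero _ (hc k (Finset.mem_range.1 hk)), fun x => ?_⟩
  · refine Lp_ind (P := fun v => ∀ x, Th T D F ((t : Matrix D.Idx D.Idx F) *ᵥ v) *ᵥ (dm d hd0 x) =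
      dm d hd0 (Th T D F v *ᵥ x)) ?_ ?_ ?_ ?_ ?_ hv
    · intro x
      rw [Matrix.mulVec_zero, map_zero, Matrix.zero_mulVec, Matrix.zero_mulVec, map_zero]
    · intro v w h1 h2 x
      rw [Matrix.mulVec_add, map_add, map_add, Matrix.add_mulVec, Matrix.add_mulVec, map_add, h1, h2]
    · intro b v h1 x
      rw [Matrix.mulVec_smul, map_smul, map_smul, Matrix.smul_mulVec, Matrix.smul_mulVec, map_smul, h1]
    · intro i hi x
      rw [diag_hv (χ := fun s => χ s) ht, Th_hv T D F hi]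
      funext k
      have h1 := sm_dm (m := T.m) (F := F) (L := T.H i) (d := d) (χ := 1)
        (fun a ha => by rw [one_mul, P.dH i hi a ha]) x k
      rw [one_mul] at h1
      exact h1
    · intro s hs hsi x
      rw [diag_ev (χ := χ) ht, map_smul, Th_ev T D F hs, Matrix.smul_mulVec, Matrix.smul_mulVec, Matrix.smul_mulVec,
        map_smul, smul_comm]
      congr 1
      funext k
      refine sm_dm (m := T.m) (F := F) (L := T.E s) (d := d) (χ := χ s) (fun a ha => ?_) x k
      have hw := wf_iff.1 (O.wfE s) a ha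
      simp only [hd, hχ]
      rw [nx_ix hw.1, nx_ix hw.2, ← Finset.prod_mul_distrib]
      refine Finset.prod_congr rfl fun k hk => ?_
      rw [P.dE s hsi a ha k (Finset.mem_range.1 hk), zpow_add₀ (hc k (Finset.mem_range.1 hk))]
  · rw [coe_plusForm, quadFormPlus_apply, quadFormPlus_apply, Finset.mul_sum]
    refine Finset.sum_congr rfl fun i _ => ?_
    rw [dm_apply, dm_apply]
    have h1 : d (Sum.inl i) * d (Sum.inr i) = ∏ k ∈ Finset.range D.rank, c k ^ (exf ex k 0 + exf ex k T.m) := by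
      simp only [hd]
      rw [← Finset.prod_mul_distrib]
      refine Finset.prod_congr rfl fun k hk => ?_
      rw [← P.mu k (Finset.mem_range.1 hk) i i.2, zpow_add₀ (hc k (Finset.mem_range.1 hk))]
      rfl
    rw [← h1]
    ring

/-- the elementary skew matrices -/
def AA (m : ℕ) (F : Type u) [Field F] (i j : Fin m ⊕ Fin m) : Matrix (Fin m ⊕ Fin m) (Fin m ⊕ Fin m) F :=
  Matrix.single i j 1 - Matrix.single j.swap i.swap 1

theorem isA_spec {m : ℕ} [NeZero m] {L : Sp} (hL : wf m L = true) {i j : ℕ} (hi : i < m + m) (hj : j < m + m)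
    (h : isA m L i j = true) : ∃ c : F, c * c = 1 ∧ sm m F L = c • AA m F (ix m i) (ix m j) := by
  unfold isA at h
  rw [Bool.or_eq_true] at h
  have hw : ∀ c : ℤ, wf m (L ++ [(i, j, -c), (opn m j, opn m i, c)]) = true := by
    intro c
    rw [wf_append]
    refine ⟨hL, wf_iff.2 fun x hx => ?_⟩
    rw [List.mem_cons, List.mem_singleton] at hx
    rcases hx with rfl | rfl
    · exact ⟨hi, hj⟩
    · exact ⟨opn_lt hj, opn_lt hi⟩
  have key : ∀ c : ℤ, sm m F (L ++ [(i, j, -c), (opn m j, opn m i, c)]) =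
      sm m F L - (c : F) • AA m F (ix m i) (ix m j) := by
    intro c
    rw [sm_append, sm_cons, sm_cons, sm_nil, add_zero, ix_opn hi, ix_opn hj, AA, smul_sub, Matrix.smul_single,
      Matrix.smul_single, smul_eq_mul, mul_one, Int.cast_neg, sub_eq_add_neg, ← Matrix.single_neg]
    abel
  rcases h with h | h
  · refine ⟨1, one_mul 1, ?_⟩
    have h1 := sm_zr F (hw 1) h
    rw [key, Int.cast_one, sub_eq_zero] at h1
    exact h1
  · refine ⟨-1, by ring, ?_⟩
    have h1 := sm_zr F (hw (-1)) (by rw [neg_neg]; exact h)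
    rw [key, Int.cast_neg, Int.cast_one, sub_eq_zero] at h1
    exact h1

/-- the elementary skew matrices occur -/
theorem Tb.Ok2.hitA (P : T.Ok2 D ex) (O : T.Ok D) {i j : Fin T.m ⊕ Fin T.m} (h1 : i ≠ j) (h2 : i ≠ j.swap) :
    ∃ r, T.In r = true ∧ ∃ c : F, c * c = 1 ∧ sm T.m F (T.E r) = c • AA T.m F i j := by
  obtain ⟨r, hr, h3⟩ := P.hit (nx T.m i) (nx_lt i) (nx T.m j) (nx_lt j) (fun h => h1 (by rw [← ix_nx i, h, ix_nx]))
    (fun h => h2 (by rw [← ix_nx i, h, ix_opn (nx_lt j), ix_nx]))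
  obtain ⟨c, h4, h5⟩ := isA_spec (F := F) (O.wfE r) (nx_lt i) (nx_lt j) h3
  rw [ix_nx, ix_nx] at h5
  exact ⟨r, hr, c, h4, h5⟩

theorem exists_avoid {m : ℕ} (hm : 3 ≤ m) (i j : Fin m ⊕ Fin m) :
    ∃ k : Fin m ⊕ Fin m, k ≠ i ∧ k ≠ i.swap ∧ k ≠ j ∧ k ≠ j.swap := by
  have h1 : ∃ a : Fin m, a ∉ ({Sum.elim id id i, Sum.elim id id j} : Finset (Fin m)) := by
    by_contra h
    push Not at h
    have h2 : (Finset.univ : Finset (Fin m)) ⊆ {Sum.elim id id i, Sum.elim id id j} := fun a _ => h a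
    have h3 := Finset.card_le_card h2
    rw [Finset.card_univ, Fintype.card_fin] at h3
    have h4 := Finset.card_le_two (a := (Sum.elim id id i : Fin m)) (b := (Sum.elim id id j : Fin m))
    omega
  obtain ⟨a, ha⟩ := h1
  rw [Finset.mem_insert, Finset.mem_singleton, not_or] at ha
  refine ⟨Sum.inl a, ?_, ?_, ?_, ?_⟩
  · rintro rfl; exact ha.1 rfl
  · intro h
    rcases i with i | i
    · cases h
    · rw [Sum.swap_inr] at h
      exact ha.1 (Sum.inl_injective h)
  · rintro rfl; exact ha.2 rfl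
  · intro h
    rcases j with j | j
    · cases h
    · rw [Sum.swap_inr] at h
      exact ha.2 (Sum.inl_injective h)

theorem AA_mul {m : ℕ} {i j k : Fin m ⊕ Fin m} (hij : i ≠ j) (h2 : k ≠ i.swap) (h4 : k ≠ j.swap) :
    AA m F i k * AA m F k j = Matrix.single i j 1 := by
  unfold AA
  rw [sub_mul, mul_sub, mul_sub, Matrix.single_mul_single_same, mul_one,
    Matrix.single_mul_single_of_ne (h := h4), Matrix.single_mul_single_of_ne (h := h2.symm),
    Matrix.single_mul_single_of_ne (h := fun h => hij (Sum.swap_leftInverse.injective h))]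
  abel

/-- **the commutant consists of scalars** -/
theorem Tb.Ok2.scalar (P : T.Ok2 D ex) (O : T.Ok D) (h2 : (2 : F) ≠ 0) (hm : 3 ≤ T.m) {N : VT T F ≃ₗ[F] VT T F}
    (hN : ∀ v ∈ Lp T D F, ∀ x, Th T D F v *ᵥ (N x) = N (Th T D F v *ᵥ x)) : ∃ c : F, c ≠ 0 ∧ ∀ x, N x = c • x := by
  set A : Matrix (Fin T.m ⊕ Fin T.m) (Fin T.m ⊕ Fin T.m) F := LinearMap.toMatrix' (N : VT T F →ₗ[F] VT T F) with hA
  have hAx : ∀ x, A *ᵥ x = N x := fun x => by
    rw [hA, ← Matrix.toLin'_apply, Matrix.toLin'_toMatrix']; rfl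
  have hc : ∀ v ∈ Lp T D F, Commute (Th T D F v) A := by
    intro v hv
    apply Matrix.mulVec_injective
    funext x
    show (Th T D F v * A) *ᵥ x = (A * Th T D F v) *ᵥ x
    rw [← Matrix.mulVec_mulVec, ← Matrix.mulVec_mulVec, hAx, hAx, hN v hv]
  have hE : ∀ i j : Fin T.m ⊕ Fin T.m, i ≠ j → i ≠ j.swap → Commute (AA T.m F i j) A := by
    intro i j h1 h3
    obtain ⟨r, hr, c, hcc, e⟩ := P.hitA O (F := F) h1 h3
    have h4 := hc _ (ev_mem (T := T) (F := F) (D := D) hr)
    rw [Th_ev T D F (O.lt r hr), e, smul_smul] at h4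
    have hne : (2 : F) * c ≠ 0 := mul_ne_zero h2 (left_ne_zero_of_mul (by rw [hcc]; exact one_ne_zero))
    have h5 := h4.smul_left ((2 * c)⁻¹ : F)
    rwa [smul_smul, inv_mul_cancel₀ hne, one_smul] at h5
  have hS : Pairwise fun i j => Commute (Matrix.single i j (1 : F)) A := by
    intro i j hij
    obtain ⟨k, k1, k2, k3, k4⟩ := exists_avoid hm i j
    rw [← AA_mul (F := F) hij k2 k4]
    exact (hE i k k1.symm fun h => k2 (by rw [h, Sum.swap_swap])).mul_left (hE k j k3 k4)
  obtain ⟨c, hc'⟩ := Matrix.mem_range_scalar_of_commute_single hS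
  have h6 : ∀ x, N x = c • x := by
    intro x
    rw [← hAx, ← hc', Matrix.scalar_apply, ← Matrix.smul_one_eq_diagonal, Matrix.smul_mulVec, Matrix.one_mulVec]
  refine ⟨c, ?_, h6⟩
  rintro rfl
  have h7 : (Pi.single (Sum.inl 0) 1 : VT T F) = 0 := by
    apply N.injective
    rw [h6, zero_smul, map_zero]
  have h8 := congrFun h7 (Sum.inl 0)
  rw [Pi.single_eq_same] at h8
  exact one_ne_zero h8

/-- **uniqueness up to scalars** -/
theorem Tb.Ok2.uniq (P : T.Ok2 D ex) (O : T.Ok D) (h2 : (2 : F) ≠ 0) (hm : 3 ≤ T.m) {z g : GL D.Idx F}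
    (hz : ∀ v, (z : Matrix D.Idx D.Idx F) *ᵥ v = v ↔ v ∈ Lp T D F) {M L : VT T F ≃ₗ[F] VT T F}
    (hM : Rl T D F z g M) (hL : Rl T D F z g L) : ∃ c : F, c ≠ 0 ∧ ∀ x, L x = c • M x := by
  have h1 := Rl.mul hz (Rl.inv hz hM) hL
  rw [inv_mul_cancel] at h1
  obtain ⟨c, hc, h3⟩ := P.scalar O (N := M⁻¹ * L) h2 hm fun v hv x => by
    have h4 := h1.2 v hv x
    rwa [Units.val_one, Matrix.one_mulVec] at h4
  refine ⟨c, hc, fun x => ?_⟩
  have h5 : M ((M⁻¹ * L) x) = L x := M.apply_symm_apply (L x)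
  rw [← h5, h3, map_smul]

/-- the represented maps -/
def ImS {z : GL D.Idx F} (hz : ∀ v, (z : Matrix D.Idx D.Idx F) *ᵥ v = v ↔ v ∈ Lp T D F) (Y : Subgroup (GL D.Idx F)) :
    Subgroup (VT T F ≃ₗ[F] VT T F) where
  carrier := {M | ∃ g ∈ Y, Rl T D F z g M}
  one_mem' := ⟨1, Y.one_mem, Rl.one⟩
  mul_mem' := by
    rintro M N ⟨g, hg, h1⟩ ⟨h, hh, h3⟩
    exact ⟨g * h, Y.mul_mem hg hh, Rl.mul hz h1 h3⟩
  inv_mem' := by
    rintro M ⟨g, hg, h1⟩
    exact ⟨g⁻¹, Y.inv_mem hg, Rl.inv hz h1⟩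

open Cfsg.Agent.TitsThree Cfsg.Agent.TitsThree.Siegel Cfsg.Agent.TitsThree.SiegelGen Cfsg.Agent.TitsThree.KSideO in
/-- **the image contains `E Q`** -/
theorem Tb.Ok2.E_le (P : T.Ok2 D ex) (O : T.Ok D) {z : GL D.Idx F}
    (hz : ∀ v, (z : Matrix D.Idx D.Idx F) *ᵥ v = v ↔ v ∈ Lp T D F) {Y : Subgroup (GL D.Idx F)}
    (hx : ∀ r, T.In r = true → ∀ a : F, ∃ g ∈ Y, (g : Matrix D.Idx D.Idx F) = D.x F r a ∧ g * z = z * g) :
    Cfsg.Agent.LieClassical.OrthCore.E (plusForm T.m F) ≤ ImS hz Y := by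
  have key : ∀ a b : Fin T.m ⊕ Fin T.m, a ≠ b → a ≠ b.swap →
      Rt (HO (plusForm T.m F)) (ImS hz Y) (Pi.single a 1) (Pi.single b 1) := by
    intro a b hab hab' s h1 h3
    obtain ⟨r, hr, c, hcc, e⟩ := P.hitA O (F := F) (i := b) (j := a.swap)
      (fun h => hab' (by rw [h, Sum.swap_swap])) (fun h => hab (by rw [Sum.swap_swap] at h; exact h.symm))
    obtain ⟨g, hg, h4, h5⟩ := hx r hr (s * c)
    refine ⟨g, hg, ?_⟩
    have h6 := O.Rl_root (z := z) hr h4 h5
    have h7 : tv _ (O.EE hr) (s * c) = (HO (plusForm T.m F)).sie (Pi.single a 1) (s • Pi.single b 1) 0 h1 h3 := by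
      ext1 v
      rw [tv_apply, e, HForm.sie_apply, HO_h, HO_h, Matrix.smul_mulVec, smul_smul, mul_assoc, hcc, mul_one, zero_mul,
        zero_smul, add_zero, polar_comm, polar_single, polar_smul_right, polar_comm (plusForm T.m F) v, polar_single]
      show v + s • (AA T.m F b a.swap *ᵥ v) = v + v a.swap • s • Pi.single b 1 - ((1 : F)⁻¹ * s • v b.swap) • Pi.single a 1
      rw [AA, Matrix.sub_mulVec, Matrix.single_mulVec, Matrix.single_mulVec, Sum.swap_swap, inv_one, one_mul, one_mul,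
        one_mul, smul_eq_mul]
      funext k
      simp only [Pi.add_apply, Pi.sub_apply, Pi.smul_apply, smul_eq_mul, Function.update_apply, Pi.single_apply,
        Pi.zero_apply]
      split_ifs <;> ring
    rw [← h7]
    exact h6
  refine Cfsg.Agent.Nodes.RGDOrth.E_le_of_contains (Cfsg.Agent.Nodes.RGDOrth.wplus T.m F) ?_
  have hzt : ∀ x, Zt (PO (plusForm T.m F)) (ImS hz Y) ((Cfsg.Agent.Nodes.RGDOrth.wplus T.m F).V0 : Set _) x := by
    intro x w c h1 h3 hw hwc
    have hw0 : w = 0 := (Submodule.mem_bot F).1 hw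
    have hc0 : c = 0 := by
      have h4 : c = -plusForm T.m F w := hwc
      rw [h4, hw0, QuadraticMap.map_zero, neg_zero]
    subst hw0 hc0
    rw [HForm.sie_zero]
    exact Subgroup.one_mem _
  exact
    { ef := fun i j hij => key (Sum.inl i) (Sum.inr j) (by simp) (by simpa using hij)
      ee := fun i j hij => key (Sum.inl i) (Sum.inl j) (by simpa using hij) (by simp)
      ff := fun i j hij => key (Sum.inr i) (Sum.inr j) (by simpa using hij) (by simp)
      ze := fun i => hzt _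
      zf := fun i => hzt _ }

end

/-! ### the Lie algebra of the subsystem and the skew matrices -/

/-- facts for the bijection with the skew matrices -/
structure Tb.Ok3 (T : Tb) (D : ChevalleyDatum) (nn mm : List (List ℤ)) : Prop where
  dg : ∀ i < T.m, zr (((List.range D.rank).flatMap fun k => scl (exf nn i k) (T.H k)) ++
    [(i, i, -4), (opn T.m i, opn T.m i, 4)]) = true
  inj : ∀ r, T.In r = true → ∃ i j, i < T.m + T.m ∧ j < T.m + T.m ∧ (ent (T.E r) i j = 1 ∨ ent (T.E r) i j = -1) ∧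
    (∀ s, T.In s = true → s ≠ r → ent (T.E s) i j = 0) ∧ ∀ k < D.rank, ent (T.H k) i j = 0
  injH : ∀ l < D.rank, ∀ k < D.rank,
    ((List.range T.m).map fun i => exf mm l i * ent (T.H k) i i).sum = if l = k then 4 else 0

section

variable {T : Tb} [NeZero T.m] {D : ChevalleyDatum} {F : Type u} [Field F] {ex nn mm : List (List ℤ)}

theorem Tb.Ok3.inj' (R : T.Ok3 D nn mm) (O : T.Ok D) (h2 : (2 : F) ≠ 0) {v : D.Idx → F} (hv : v ∈ Lp T D F)
    (h : Th T D F v = 0) : v = 0 := by
  have hent : ∀ i j, i < T.m + T.m → j < T.m + T.m → (∑ k : Fin D.rank, v (Sum.inl k) * (ent (T.H k) i j : F)) +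
      ∑ s : Fin D.nroots, v (Sum.inr s) * (2 * (ent (T.E s) i j : F)) = 0 := by
    intro i j hi hj
    have h1 := congrFun (congrFun h (ix T.m i)) (ix T.m j)
    rw [Th_apply, Fintype.sum_sum_type, Matrix.add_apply, Matrix.sum_apply, Matrix.sum_apply, Matrix.zero_apply] at h1
    rw [← h1]
    congr 1
    · refine Finset.sum_congr rfl fun k _ => ?_
      rw [Matrix.smul_apply, smul_eq_mul]
      show _ = _ * sm T.m F (T.H k) _ _
      rw [sm_apply_ix F (O.wfH k) hi hj]
    · refine Finset.sum_congr rfl fun s _ => ?_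
      rw [Matrix.smul_apply, smul_eq_mul]
      show _ = _ * ((2 : F) • sm T.m F (T.E s)) _ _
      rw [Matrix.smul_apply, smul_eq_mul, sm_apply_ix F (O.wfE s) hi hj]
  have hr : ∀ r : Fin D.nroots, v (Sum.inr r) = 0 := by
    intro r
    cases hin : T.In r
    · exact hv r hin
    · obtain ⟨i, j, hi, hj, h1, h3, h4⟩ := R.inj r hin
      have h5 := hent i j hi hj
      rw [Finset.sum_eq_zero, zero_add, Finset.sum_eq_single r] at h5
      · rcases h1 with h1 | h1
        · rw [h1, Int.cast_one, mul_one] at h5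
          exact (mul_eq_zero.1 h5).resolve_right h2
        · rw [h1, Int.cast_neg, Int.cast_one, mul_neg_one, mul_neg, neg_eq_zero] at h5
          exact (mul_eq_zero.1 h5).resolve_right h2
      · intro s _ hs
        cases hins : T.In s
        · rw [hv s hins, zero_mul]
        · rw [h3 s hins (fun h => hs (Fin.ext h)), Int.cast_zero, mul_zero, mul_zero]
      · intro h; exact absurd (Finset.mem_univ _) h
      · intro k _
        rw [h4 k k.2, Int.cast_zero, mul_zero]
  have h4 : (4 : F) ≠ 0 := by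
    rw [show (4 : F) = 2 * 2 by norm_num]
    exact mul_ne_zero h2 h2
  have hl : ∀ l : Fin D.rank, v (Sum.inl l) = 0 := by
    intro l
    have h5 : ∀ i < T.m, ∑ k : Fin D.rank, v (Sum.inl k) * (ent (T.H k) i i : F) = 0 := by
      intro i hi
      have h6 := hent i i (by omega) (by omega)
      rw [add_comm, Finset.sum_eq_zero, zero_add] at h6
      · exact h6
      · intro s _
        rw [hr, zero_mul]
    have h6 : ∑ i : Fin T.m, (exf mm l i : F) * ∑ k : Fin D.rank, v (Sum.inl k) * (ent (T.H k) i i : F) = 0 :=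
      Finset.sum_eq_zero fun i _ => by rw [h5 i i.2, mul_zero]
    simp only [Finset.mul_sum] at h6
    rw [Finset.sum_comm, Finset.sum_eq_single l] at h6
    · have h7 : ∑ i : Fin T.m, (exf mm l i : F) * (v (Sum.inl l) * (ent (T.H l) i i : F)) =
          v (Sum.inl l) * ∑ i : Fin T.m, ((exf mm l i * ent (T.H l) i i : ℤ) : F) := by
        rw [Finset.mul_sum]
        refine Finset.sum_congr rfl fun i _ => ?_
        push_cast
        ring
      have h8 := R.injH l l.2 l l.2
      rw [if_pos rfl, sum_list_range] at h8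
      rw [h7, ← Int.cast_sum, h8] at h6
      exact (mul_eq_zero.1 h6).resolve_right (by exact_mod_cast h4)
    · intro k _ hk
      have h7 : ∑ i : Fin T.m, (exf mm l i : F) * (v (Sum.inl k) * (ent (T.H k) i i : F)) =
          v (Sum.inl k) * ∑ i : Fin T.m, ((exf mm l i * ent (T.H k) i i : ℤ) : F) := by
        rw [Finset.mul_sum]
        refine Finset.sum_congr rfl fun i _ => ?_
        push_cast
        ring
      have h8 := R.injH l l.2 k k.2
      rw [if_neg (fun h => hk (Fin.ext h.symm)), sum_list_range] at h8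
      rw [h7, ← Int.cast_sum, h8, Int.cast_zero, mul_zero]
    · intro h; exact absurd (Finset.mem_univ _) h
  funext j
  rcases j with j | j
  · exact hl j
  · exact hr j

theorem AA_swap {m : ℕ} (i j : Fin m ⊕ Fin m) : AA m F j.swap i.swap = -AA m F i j := by
  unfold AA
  rw [Sum.swap_swap, Sum.swap_swap, neg_sub]

theorem Tb.Ok3.AA_mem (R : T.Ok3 D nn mm) (P : T.Ok2 D ex) (O : T.Ok D) (h2 : (2 : F) ≠ 0) (i j : Fin T.m ⊕ Fin T.m) :
    AA T.m F i j ∈ (Lp T D F).map (Th T D F) := by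
  have h4 : (4 : F) ≠ 0 := by
    rw [show (4 : F) = 2 * 2 by norm_num]
    exact mul_ne_zero h2 h2
  have hH : ∀ k < D.rank, sm T.m F (T.H k) ∈ (Lp T D F).map (Th T D F) := fun k hk => by
    rw [← Th_hv T D F hk]; exact Submodule.mem_map_of_mem hv_mem
  by_cases h1 : i = j.swap
  · subst h1
    have : AA T.m F j.swap j = 0 := by
      unfold AA
      rw [Sum.swap_swap, sub_self]
    rw [this]
    exact Submodule.zero_mem _
  · by_cases h3 : i = j
    · subst h3
      have key : ∀ i : ℕ, i < T.m → AA T.m F (ix T.m i) (ix T.m i) ∈ (Lp T D F).map (Th T D F) := by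
        intro i hi
        have hi' : i < T.m + T.m := by omega
        have hw1 : wf T.m ((List.range D.rank).flatMap fun k => scl (exf nn i k) (T.H k)) = true := by
          rw [wf_iff]
          intro x hx
          obtain ⟨k, -, hx⟩ := List.mem_flatMap.1 hx
          exact wf_iff.1 (wf_scl (O.wfH k)) x hx
        have hw2 : wf T.m [(i, i, -4), (opn T.m i, opn T.m i, 4)] = true := by
          refine wf_iff.2 fun x hx => ?_
          rw [List.mem_cons, List.mem_singleton] at hx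
          rcases hx with rfl | rfl
          · exact ⟨hi', hi'⟩
          · exact ⟨opn_lt hi', opn_lt hi'⟩
        have h5 := sm_zr F (wf_append.2 ⟨hw1, hw2⟩) (R.dg i hi)
        have h6 : sm T.m F [(i, i, -4), (opn T.m i, opn T.m i, 4)] = -((4 : F) • AA T.m F (ix T.m i) (ix T.m i)) := by
          rw [sm_cons, sm_cons, sm_nil, add_zero, ix_opn hi', AA, smul_sub, Matrix.smul_single, Matrix.smul_single,
            smul_eq_mul, mul_one, Int.cast_neg, ← Matrix.single_neg]
          simp only [Int.cast_ofNat]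
          abel
        rw [sm_append, sm_flatMap, h6, ← sub_eq_add_neg, sub_eq_zero] at h5
        rw [← Submodule.smul_mem_iff _ h4, ← h5, sum_list_range]
        refine Submodule.sum_mem _ fun k _ => ?_
        rw [sm_scl]
        exact Submodule.smul_mem _ _ (hH k k.2)
      rcases i with i | i
      · have h5 := key i i.2
        have h6 : ix T.m (i : ℕ) = Sum.inl i := ix_nx (Sum.inl i)
        rwa [h6] at h5
      · have h5 := key i i.2
        have h6 : ix T.m (i : ℕ) = Sum.inl i := ix_nx (Sum.inl i)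
        rw [h6] at h5
        have h7 := AA_swap (F := F) (Sum.inr i) (Sum.inr i)
        rw [Sum.swap_inr] at h7
        rw [← neg_neg (AA T.m F (Sum.inr i) (Sum.inr i)), ← h7]
        exact Submodule.neg_mem _ h5
    · obtain ⟨r, hr, c, hcc, e⟩ := P.hitA O (F := F) h3 h1
      have h5 : Th T D F (ev D F r) ∈ (Lp T D F).map (Th T D F) := Submodule.mem_map_of_mem (ev_mem hr)
      rw [Th_ev T D F (O.lt r hr), e, smul_smul] at h5
      exact (Submodule.smul_mem_iff _ (mul_ne_zero h2 (left_ne_zero_of_mul (by rw [hcc]; exact one_ne_zero)))).1 h5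

/-- **every skew matrix is in the image** -/
theorem Tb.Ok3.surj (R : T.Ok3 D nn mm) (P : T.Ok2 D ex) (O : T.Ok D) (h2 : (2 : F) ≠ 0)
    {A : Matrix (Fin T.m ⊕ Fin T.m) (Fin T.m ⊕ Fin T.m) F} (hA : st A = -A) : ∃ v ∈ Lp T D F, Th T D F v = A := by
  have h1 : (2 : F) • A = ∑ i, ∑ j, A i j • AA T.m F i j := by
    have h3 : ∑ i, ∑ j, A i j • Matrix.single i j (1 : F) = A := by
      simp only [Matrix.smul_single, smul_eq_mul, mul_one]
      exact (Matrix.matrix_eq_sum_single A).symm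
    have h4 : ∑ i, ∑ j, A i j • Matrix.single j.swap i.swap (1 : F) = st A := by
      ext a b
      rw [Matrix.sum_apply]
      simp only [Matrix.sum_apply, Matrix.smul_apply, Matrix.single_apply, smul_eq_mul]
      rw [Finset.sum_eq_single b.swap, Finset.sum_eq_single a.swap]
      · rw [Sum.swap_swap, Sum.swap_swap, if_pos ⟨rfl, rfl⟩, mul_one]; rfl
      · intro j _ hj
        rw [if_neg, mul_zero]
        rintro ⟨h5, -⟩
        exact hj (by rw [← h5, Sum.swap_swap])
      · intro h; exact absurd (Finset.mem_univ _) h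
      · intro i _ hi
        refine Finset.sum_eq_zero fun j _ => ?_
        rw [if_neg, mul_zero]
        rintro ⟨-, h5⟩
        exact hi (by rw [← h5, Sum.swap_swap])
      · intro h; exact absurd (Finset.mem_univ _) h
    unfold AA
    simp only [smul_sub, Finset.sum_sub_distrib]
    rw [h3, h4, hA, sub_neg_eq_add, two_smul]
  have h5 : (2 : F) • A ∈ (Lp T D F).map (Th T D F) := by
    rw [h1]
    exact Submodule.sum_mem _ fun i _ => Submodule.sum_mem _ fun j _ => Submodule.smul_mem _ _ (R.AA_mem P O h2 i j)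
  obtain ⟨v, hv, e⟩ := Submodule.mem_map.1 ((Submodule.smul_mem_iff _ h2).1 h5)
  exact ⟨v, hv, e⟩

/-- the `(-1)`-eigenspace of `g` on the Lie algebra of the subsystem -/
def EmS (T : Tb) [NeZero T.m] (D : ChevalleyDatum) (F : Type u) [Field F] (g : GL D.Idx F) : Submodule F (D.Idx → F) where
  carrier := {v | v ∈ Lp T D F ∧ (g : Matrix D.Idx D.Idx F) *ᵥ v = -v}
  add_mem' := by
    rintro v w ⟨h1, h2⟩ ⟨h3, h4⟩
    exact ⟨Submodule.add_mem _ h1 h3, by rw [Matrix.mulVec_add, h2, h4, neg_add]⟩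
  zero_mem' := ⟨Submodule.zero_mem _, by rw [Matrix.mulVec_zero, neg_zero]⟩
  smul_mem' := by
    rintro c v ⟨h1, h2⟩
    exact ⟨Submodule.smul_mem _ _ h1, by rw [Matrix.mulVec_smul, h2, smul_neg]⟩

open Cfsg.Agent.H64.Co3 in
/-- **the `(-1)`-eigenspace of `Ad M`** -/
theorem Tb.Ok3.finrank_adm (R : T.Ok3 D nn mm) (P : T.Ok2 D ex) (O : T.Ok D) (h2 : (2 : F) ≠ 0) {z g : GL D.Idx F}
    (hz : ∀ v, (z : Matrix D.Idx D.Idx F) *ᵥ v = v ↔ v ∈ Lp T D F) {M : VT T F ≃ₗ[F] VT T F} (hM : Rl T D F z g M) :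
    Module.finrank F (adm (plusForm T.m F) M) = Module.finrank F (EmS T D F g) := by
  let φ : EmS T D F g →ₗ[F] (VT T F →ₗ[F] VT T F) :=
    (Matrix.toLin' : Matrix (Fin T.m ⊕ Fin T.m) (Fin T.m ⊕ Fin T.m) F ≃ₗ[F] _).toLinearMap ∘ₗ Th T D F ∘ₗ
      (EmS T D F g).subtype
  have hφ : ∀ v, ∀ x, φ v x = Th T D F (v : D.Idx → F) *ᵥ x := fun v x => Matrix.toLin'_apply _ _
  have hinj : Function.Injective φ := by
    rw [← LinearMap.ker_eq_bot, LinearMap.ker_eq_bot']
    intro v hv
    have h1 : Th T D F (v : D.Idx → F) = 0 := by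
      apply Matrix.mulVec_injective
      funext x
      show Th T D F (v : D.Idx → F) *ᵥ x = (0 : Matrix _ _ F) *ᵥ x
      rw [← hφ, hv, Matrix.zero_mulVec]; rfl
    exact Subtype.ext (R.inj' O h2 v.2.1 h1)
  have hr : LinearMap.range φ = adm (plusForm T.m F) M := by
    ext S
    rw [LinearMap.mem_range, mem_adm]
    constructor
    · rintro ⟨v, rfl⟩
      have h1 := (st_eq_neg_iff _).1 (P.stTh O v.2.1)
      refine ⟨fun x y => ?_, fun x => ?_⟩
      · rw [hφ, hφ]; exact h1 x y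
      · rw [hφ, hφ, ← hM.2 _ v.2.1, v.2.2, map_neg, Matrix.neg_mulVec]
    · rintro ⟨h1, h3⟩
      have hS : ∀ x, LinearMap.toMatrix' S *ᵥ x = S x := fun x => by
        rw [← Matrix.toLin'_apply, Matrix.toLin'_toMatrix']
      obtain ⟨v, hv, e⟩ := R.surj P O h2 (A := LinearMap.toMatrix' S) ((st_eq_neg_iff _).2 fun x y => by
        rw [hS, hS]; exact h1 x y)
      have h4 : (g : Matrix D.Idx D.Idx F) *ᵥ v = -v := by
        rw [eq_neg_iff_add_eq_zero]
        refine R.inj' O h2 (Submodule.add_mem _ (Rl.mem hz hM.1 hv) hv) ?_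
        apply Matrix.mulVec_injective
        funext x
        show Th T D F ((g : Matrix D.Idx D.Idx F) *ᵥ v + v) *ᵥ x = (0 : Matrix _ _ F) *ᵥ x
        obtain ⟨y, rfl⟩ := M.surjective x
        rw [map_add, Matrix.add_mulVec, Matrix.zero_mulVec, hM.2 _ hv, e, hS, hS, h3, neg_add_cancel]
      have h5 : v ∈ EmS T D F g := ⟨hv, h4⟩
      refine ⟨⟨v, h5⟩, LinearMap.ext fun x => ?_⟩
      rw [hφ, e, hS]
  rw [← hr, LinearMap.finrank_range_of_inj hinj]

end

end Cfsg.Agent.H736.Co3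

private theorem dce_a2024d30abb1 : _root_.True := by
  try have : _root_.True := by simp only [_root_.Cfsg.Agent.H736.Co3.AA.eq_1]
  try have : _root_.True := by simp only [_root_.Cfsg.Agent.H736.Co3.skw.eq_1]
  try have : _root_.True := by simp only [_root_.Cfsg.Agent.H736.Co3.st.eq_1]
  exact _root_.True.intro
end

-- part: H736/Co3/Tab8b
section
set_option linter.all false
open scoped Cfsg.Agent.FastGrp

/-!
# S1920: the subsystem `D8` of `E8` (helper736); more facts on the tables, checked by the kernel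
-/

set_option autoImplicit false

namespace Cfsg.Agent.H736.Co3

open Cfsg.Lie Cfsg.Agent.ChevalleyStructure.XColumns

def nn8 : List (List ℤ) := [[4, 5, 7, 10, 8, 6, 4, 2],
  [0, 1, 1, 2, 2, 2, 2, 2],
  [0, 1, 1, 2, 2, 2, 2, 0],
  [0, 1, 1, 2, 2, 2, 0, 0],
  [0, 1, 1, 2, 2, 0, 0, 0],
  [0, 1, 1, 2, 0, 0, 0, 0],
  [0, 1, 1, 0, 0, 0, 0, 0],
  [0, 1, -1, 0, 0, 0, 0, 0]]

def mm8 : List (List ℤ) := [[4, 0, 0, 0, 0, 0, 0, 0],
  [5, 1, 1, 1, 1, 1, 1, 1],
  [7, 1, 1, 1, 1, 1, 1, -1],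
  [10, 2, 2, 2, 2, 2, 0, 0],
  [8, 2, 2, 2, 2, 0, 0, 0],
  [6, 2, 2, 2, 0, 0, 0, 0],
  [4, 2, 2, 0, 0, 0, 0, 0],
  [2, 2, 0, 0, 0, 0, 0, 0]]

theorem c8_1 : (rws8.all fun p => p.A.all fun a => (List.range 8).all fun k =>
    decide (exf ex8 k a.1 = chevE8.cartan k p.r + exf ex8 k a.2.1)) = true := by
  rewrite [ChevFast.E8.cartan, Fk.al_fun]; decide +kernel

theorem c8_2 : ((List.range 8).all fun i => (T8.H i).all fun a => Nat.beq a.1 a.2.1) = true := by decide +kernel

theorem c8_3 : ((List.range 8).all fun k => (List.range 8).all fun i =>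
    decide (exf ex8 k i + exf ex8 k (i + 8) = exf ex8 k 0 + exf ex8 k 8)) = true := by decide +kernel

theorem c8_4 : (rws8.all fun p => zr (skw 8 p.A)) = true := by decide +kernel

theorem c8_5 : ((List.range 8).all fun i => zr (skw 8 (T8.H i))) = true := by decide +kernel

theorem c8_6 : ((List.range 16).all fun i => (List.range 16).all fun j => Nat.beq i j || Nat.beq i (opn 8 j) ||
    rws8.any fun p => p.rm.testBit i && (p.cm.testBit j && isA 8 p.A i j)) = true := by decide +kernel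

theorem c8_7 : ((List.range 8).all fun i => zr (((List.range 8).flatMap fun k => scl (exf nn8 i k) (T8.H k)) ++
    [(i, i, -4), (opn 8 i, opn 8 i, 4)])) = true := by
  delta zr; rewrite [Fk.en_fun, Fk.al_fun]; decide +kernel

theorem c8_8 : (rws8.all fun p => p.A.any fun a => (decide (ent p.A a.1 a.2.1 = 1) || decide (ent p.A a.1 a.2.1 = -1)) &&
    (rws8.all fun q => Nat.beq q.r p.r || decide (ent q.A a.1 a.2.1 = 0)) &&
    (List.range 8).all fun k => decide (ent (T8.H k) a.1 a.2.1 = 0)) = true := by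
  rewrite [Fk.en_fun, Fk.al_fun]; decide +kernel

theorem c8_9 : ((List.range 8).all fun l => (List.range 8).all fun k =>
    decide (((List.range 8).map fun i => exf mm8 l i * ent (T8.H k) i i).sum = if l = k then 4 else 0)) = true := by
  decide +kernel

theorem spec8 {r : ℕ} (hr : T8.In r = true) : ∃ p ∈ rws8, p.r = r ∧ T8.E r = p.A := by
  have h3 := T8_3
  unfold Tb.okRest at h3
  simp only [Bool.and_eq_true, List.all_eq_true, List.mem_range, Bool.or_eq_true, Bool.not_eq_true', List.any_eq_true,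
    Nat.blt_eq] at h3
  obtain ⟨⟨⟨⟨ha, hb⟩, -⟩, -⟩, -⟩ := h3
  have hlt : r < 240 := T8_ok.lt r hr
  rcases ha r hlt with h | ⟨p, hp, h⟩
  · rw [h] at hr; exact absurd hr Bool.false_ne_true
  · have h1 := List.all_eq_true.1 T8_1 p hp
    unfold Tb.Rw.ok at h1
    simp only [Bool.and_eq_true, decide_eq_true_eq] at h1
    obtain ⟨⟨⟨⟨⟨⟨⟨⟨⟨⟨-, -⟩, -⟩, -⟩, q1⟩, -⟩, -⟩, -⟩, -⟩, -⟩, -⟩ := h1
    have h2 := Nat.eq_of_beq_eq_true h
    exact ⟨p, hp, h2.symm, by rw [h2, q1]⟩

theorem spec8' {p : Tb.Rw} (hp : p ∈ rws8) : T8.In p.r = true ∧ T8.E p.r = p.A := by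
  have h1 := List.all_eq_true.1 T8_1 p hp
  unfold Tb.Rw.ok at h1
  simp only [Bool.and_eq_true, decide_eq_true_eq] at h1
  obtain ⟨⟨⟨⟨⟨⟨⟨⟨⟨⟨q0, -⟩, -⟩, -⟩, q1⟩, -⟩, -⟩, -⟩, -⟩, -⟩, -⟩ := h1
  exact ⟨q0, q1⟩

theorem T8_ok2 : T8.Ok2 chevE8 ex8 where
  dE := by
    intro r hr a ha k hk
    obtain ⟨p, hp, rfl, e⟩ := spec8 hr
    rw [e] at ha
    exact of_decide_eq_true (List.all_eq_true.1 (List.all_eq_true.1 (List.all_eq_true.1 c8_1 p hp) a ha) k (List.mem_range.2 hk))
  dH := by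
    intro i hi a ha
    exact Nat.eq_of_beq_eq_true (List.all_eq_true.1 (List.all_eq_true.1 c8_2 i (List.mem_range.2 hi)) a ha)
  mu := by
    intro k hk i hi
    exact of_decide_eq_true (List.all_eq_true.1 (List.all_eq_true.1 c8_3 k (List.mem_range.2 hk)) i (List.mem_range.2 hi))
  skE := by
    intro r hr
    obtain ⟨p, hp, rfl, e⟩ := spec8 hr
    rw [e]
    exact List.all_eq_true.1 c8_4 p hp
  skH := fun i hi => List.all_eq_true.1 c8_5 i (List.mem_range.2 hi)
  hit := by
    intro i hi j hj h1 h2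
    have h3 := List.all_eq_true.1 (List.all_eq_true.1 c8_6 i (List.mem_range.2 hi)) j (List.mem_range.2 hj)
    rw [Bool.or_eq_true, Bool.or_eq_true, List.any_eq_true] at h3
    rcases h3 with (h3 | h3) | ⟨p, hp, h3⟩
    · exact absurd (Nat.eq_of_beq_eq_true h3) h1
    · exact absurd (Nat.eq_of_beq_eq_true h3) h2
    · rw [Bool.and_eq_true, Bool.and_eq_true] at h3
      obtain ⟨h4, h5⟩ := spec8' hp
      exact ⟨p.r, h4, by rw [h5]; exact h3.2.2⟩

theorem T8_ok3 : T8.Ok3 chevE8 nn8 mm8 where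
  dg := fun i hi => List.all_eq_true.1 c8_7 i (List.mem_range.2 hi)
  inj := by
    intro r hr
    obtain ⟨p, hp, rfl, e⟩ := spec8 hr
    have h1 := List.all_eq_true.1 c8_8 p hp
    rw [List.any_eq_true] at h1
    obtain ⟨a, ha, h1⟩ := h1
    simp only [Bool.and_eq_true, Bool.or_eq_true, List.all_eq_true, decide_eq_true_eq, List.mem_range] at h1
    obtain ⟨⟨h2, h3⟩, h4⟩ := h1
    rw [← e] at ha h2
    have hw := wf_iff.1 (T8_ok.wfE _) a ha
    refine ⟨a.1, a.2.1, hw.1, hw.2, h2, fun s hs hsr => ?_, h4⟩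
    obtain ⟨q, hq, rfl, e'⟩ := spec8 hs
    rw [e']
    rcases h3 q hq with h5 | h5
    · exact absurd (Nat.eq_of_beq_eq_true h5) hsr
    · exact h5
  injH := by
    intro l hl k hk
    exact of_decide_eq_true (List.all_eq_true.1 (List.all_eq_true.1 c8_9 l (List.mem_range.2 hl)) k (List.mem_range.2 hk))

end Cfsg.Agent.H736.Co3
end

-- part: H527/Co3/Asm
section
set_option linter.all false
open scoped Cfsg.Agent.FastGrp

/-!
# S1920: the rows of case B and their assembly (helper527)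

`Row F`: no finite simple group with the property `F` has a configuration `CB` (`H13/Co3/Def.lean`).
`RowsB`: all rows.  `RowsB.false`: a known non-abelian finite simple group has no configuration `CB`.
-/

set_option autoImplicit false

open Subgroup Cfsg

namespace Cfsg.Agent.H527.Co3

universe u

open Cfsg.Agent.H13.Co3 (CB)

/-- **A row of case B**: no finite simple group `G` with `F G` has a configuration `CB`. -/
def Row (F : ∀ (G : Type u) [Group G], Prop) : Prop :=
  ∀ (G : Type u) [Group G] [Finite G] [IsSimpleGroup G], F G →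
    ∀ (P N0 : Subgroup G) (z s : G) (ψ : ↥(normalizer (P : Set G)) →* Equiv.Perm (Fin 6)),
      CB P N0 z s ψ → False

/-- All rows of case B. -/
structure RowsB : Prop where
  alt : Row.{u} @IsAlternating
  psl : Row.{u} @IsPSL
  psp : Row.{u} @IsPSp
  psu : Row.{u} @IsPSU
  pomegaOdd : Row.{u} @IsPOmegaOdd
  pomegaPlus : Row.{u} @IsPOmegaPlus
  pomegaMinus : Row.{u} @IsPOmegaMinus
  g2 : Row.{u} @Lie.IsoChevG2
  f4 : Row.{u} @Lie.IsoF4
  e6 : Row.{u} @Lie.IsoChevE6
  e7 : Row.{u} @Lie.IsoE7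
  e8 : Row.{u} @Lie.IsoE8
  te6 : Row.{u} @Lie.Iso2E6
  td4 : Row.{u} @Lie.Iso3D4
  sz : Row.{u} @Lie.IsoSuzuki
  ree : Row.{u} @Lie.IsoRee
  tf4 : Row.{u} @Lie.Iso2F4
  tits : Row.{u} @Lie.IsoTits
  spor : Row.{u} @IsSporadicGroup

/-- An abelian group has no configuration `CB`. -/
theorem not_comm {G : Type u} [Group G] {P N0 : Subgroup G} {z s : G}
    {ψ : ↥(normalizer (P : Set G)) →* Equiv.Perm (Fin 6)} (C : CB P N0 z s ψ)
    (h : ∀ a b : G, a * b = b * a) : False := by
  obtain ⟨x, hx⟩ := C.surj (Equiv.swap 0 1)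
  obtain ⟨y, hy⟩ := C.surj (Equiv.swap 1 2)
  have h1 : x * y = y * x := Subtype.ext (h _ _)
  have h2 : ψ x * ψ y = ψ y * ψ x := by rw [← map_mul, h1, map_mul]
  rw [hx, hy] at h2
  exact absurd h2 (by decide)

/-- **No known finite simple group has a configuration `CB`**, from the rows. -/
theorem RowsB.false (R : RowsB.{u}) {G : Type u} [Group G] [Finite G] [IsSimpleGroup G]
    (hG : IsKnownSimple' G) {P N0 : Subgroup G} {z s : G}
    {ψ : ↥(normalizer (P : Set G)) →* Equiv.Perm (Fin 6)} (C : CB P N0 z s ψ) : False := by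
  rcases hG with h | h | h | h | h | h | h | h | h | h
  · have hc : IsCyclic G := isCyclic_of_prime_card (p := Nat.card G) (hp := ⟨h⟩) rfl
    exact not_comm C fun a b => hc.commGroup.mul_comm a b
  · exact R.alt G h _ _ _ _ _ C
  · exact R.psl G h _ _ _ _ _ C
  · exact R.psp G h _ _ _ _ _ C
  · exact R.psu G h _ _ _ _ _ C
  · exact R.pomegaOdd G h _ _ _ _ _ C
  · exact R.pomegaPlus G h _ _ _ _ _ C
  · exact R.pomegaMinus G h _ _ _ _ _ C
  · rcases h with h | h | h | h | h | h | h | h | h | h | h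
    · exact R.g2 G h _ _ _ _ _ C
    · exact R.f4 G h _ _ _ _ _ C
    · exact R.e6 G h _ _ _ _ _ C
    · exact R.e7 G h _ _ _ _ _ C
    · exact R.e8 G h _ _ _ _ _ C
    · exact R.te6 G h _ _ _ _ _ C
    · exact R.td4 G h _ _ _ _ _ C
    · exact R.sz G h _ _ _ _ _ C
    · exact R.ree G h _ _ _ _ _ C
    · exact R.tf4 G h _ _ _ _ _ C
    · exact R.tits G h _ _ _ _ _ C
  · exact R.spor G h _ _ _ _ _ C

end Cfsg.Agent.H527.Co3
end
end
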